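import Cfsg.Agent.MQ.S.M35.Loc
import Cfsg.Agent.MQ.Lc.Tw
import Cfsg.Agent.ODD.Red.Cl_m3
import Mathlib
import Cfsg.Agent.TID.Defs_m3
import Cfsg.Agent.H648.FirstMain
import Cfsg.Agent.S4635
import Cfsg.Agent.H658.CyclicUse
import Cfsg.Agent.MQ.Co.Two
import Cfsg.Agent.H614.IndexTwo
import Cfsg.Agent.OddOrderCharacters.IndRes
import Cfsg.Agent.CharDeep.LinearChar
import Cfsg.Agent.Characters.Central
import Cfsg.Agent.MQ.A.Glob.Main
import Cfsg.Agent.MQ.Loc.Om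
import Cfsg.Agent.MK.C.Main_m3
import Cfsg.Agent.H980.GSet
import Cfsg.Agent.FastGrp
import Cfsg.Agent.Prune
set_option linter.all false
prune_inst 0x7fbdeef839a8a3ffffff7e3ffed1ddf811808fffe4dff943ffe8619f4b1f032109c5638509f000fe9e47c01410a87803f97eceffe86bdc7ffffd5ff41ffbee0fa5e7350911d48c340f302ff683f0678a6f3ffffffffffffffffffff7ffffffefffbdf3feffff
open scoped Cfsg.Agent.FastGrp

-- part: MO/TI/One
section
/-!
# MO, TI Sylow subgroups: groups with one component (helper78)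

* `cv_of` : the cover of a situation; `card_dvd` : the order of the centre divides a bound for the multiplier;
* `gd_of_smC`, `one_of_smC` : from a small row;
* `exists_rho`, `nd_rel` : `Γ / Inn X` embeds into `Out S`;
* `one_of_ti`, `one_of_ti'`, `one_of_not_sq` : TI Sylow subgroups, `p ∤ |Γ : Inn X|`.
-/

set_option autoImplicit false

namespace Cfsg.Agent.MO.TI

open Cfsg Subgroup Cfsg.Agent.MO.S Cfsg.Agent.MO.T
open Cfsg.Agent.MK.T (exists_ind)

variable {p : ℕ} {X H : Type} [Group X] [Group H] {Γ : Subgroup (MulAut X)}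

/-- the map to the simple group -/
def pr (e : X ⧸ center X ≃* H) : X →* H := e.toMonoidHom.comp (QuotientGroup.mk' (center X))

theorem cv_of (s : Sit p X Γ) (e : X ⧸ center X ≃* H) : Cv (Nat.card (center X)) (pr e) :=
  ⟨e.surjective.comp (QuotientGroup.mk'_surjective _), Subgroup.ext fun x => by simp [pr], rfl, s.cyc,
    s.qs.1.commutator_eq_top⟩

theorem card_dvd [Finite X] (s : Sit p X Γ) (e : X ⧸ center X ≃* H) {n : ℕ} (h : ODD.Cv.MB H n) :
    Nat.card (center X) ∣ n :=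
  (cv_of s e).ker ▸ h X (cv_of s e).perf (pr e) (cv_of s e).surj (cv_of s e).ker.le

theorem card_eq (e : X ⧸ center X ≃* H) : Nat.card X = Nat.card H * Nat.card (center X) := by
  rw [card_eq_card_quotient_mul_card_subgroup (center X), Nat.card_congr e.toEquiv]

theorem dvd_card [Fact p.Prime] (s : Sit p X Γ) (e : X ⧸ center X ≃* H) : p ∣ Nat.card H :=
  ((Nat.Prime.dvd_mul Fact.out).1 (card_eq e ▸ s.dvd)).resolve_right s.cop

theorem gd_of_smC [Fact p.Prime] [Finite X] (s : Sit p X Γ) (e : X ⧸ center X ≃* H) {m : ℕ}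
    (hm : Nat.card (center X) = m) (h : SmC p m H) : Gd p X Γ :=
  steps.sm X Γ s fun ih => h X (pr e) (hm ▸ cv_of s e) (Nat.card_congr e.toEquiv ▸ ih)

theorem one_of_smC [Fact p.Prime] [Finite X] (s : Sit p X Γ) (e : X ⧸ center X ≃* H) {m : ℕ}
    (hm : Nat.card (center X) = m) (h : SmC p m H) : One p X Γ := one_of_gd s (gd_of_smC s e hm h)

/-- the induced automorphisms -/
theorem exists_rho {m : ℕ} {φ : X →* H} (c : Cv m φ) : ∃ ρ : MulAut X →* MulAut H, (∀ α x, ρ α (φ x) = φ (α x)) ∧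
    (Inn H).comap ρ = Inn X := by
  choose r hr using exists_ind φ c.surj c.ker
  have h1 : ∀ β γ : MulAut H, (∀ x, β (φ x) = γ (φ x)) → β = γ := fun β γ h => MulEquiv.ext fun y => by
    obtain ⟨x, rfl⟩ := c.surj y
    exact h x
  refine ⟨MonoidHom.mk' r fun α β => h1 _ _ fun x => by rw [hr, MulAut.mul_apply, MulAut.mul_apply, hr, hr], hr,
    Subgroup.ext fun α => ⟨?_, ?_⟩⟩
  · rintro ⟨s, hs⟩
    obtain ⟨x, hx⟩ := inn_of_ind c (α := α) (s := s) fun x => by rw [hs]; exact (hr α x).symm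
    exact ⟨x, hx.symm⟩
  · rintro ⟨x, rfl⟩
    exact ⟨φ x, h1 _ _ fun y => by simp only [hr, _root_.MulAut.conj_apply, _root_.MonoidHom.mk'_apply, _root_.map_mul, _root_.map_inv]⟩

theorem rel_dvd (s : Sit p X Γ) (e : X ⧸ center X ≃* H) : (Inn X).relIndex Γ ∣ Nat.card (Out H) := by
  obtain ⟨ρ, -, h⟩ := exists_rho (cv_of s e)
  rw [← h, relIndex_comap]
  exact relIndex_dvd_index_of_normal _ _

theorem nd_rel (s : Sit p X Γ) (e : X ⧸ center X ≃* H) (h : ¬ p ∣ Nat.card (Out H)) : ¬ p ∣ (Inn X).relIndex Γ :=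
  fun h1 => h (h1.trans (rel_dvd s e))

section cf

variable {G : Type} [Group G] {Z : Subgroup G} (c : Cf p Γ G Z)

theorem range_normal : c.e.range.Normal := ⟨by
  rintro _ ⟨x, rfl⟩ g
  exact ⟨_, (c.ha g x).symm⟩⟩

theorem comap_inn : (Inn X).comap c.a = Z ⊔ c.e.range := by
  refine le_antisymm (fun g ⟨x, hx⟩ => c.mem_sup hx.symm) (sup_le (fun z hz => ?_) ?_)
  · rw [mem_comap, c.mem_Z.1 hz]
    exact one_mem _
  · rintro _ ⟨x, rfl⟩
    exact ⟨x, (c.a_e x).symm⟩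

theorem nd_index [Fact p.Prime] [Finite G] (h : ¬ p ∣ (Inn X).relIndex Γ) : ¬ p ∣ c.e.range.index := by
  have := range_normal c
  rw [← relIndex_mul_index (le_sup_right : c.e.range ≤ Z ⊔ c.e.range), relIndex_sup_right, ← comap_inn c, c.index_comap]
  exact nd_mul' (nd_of_dvd c.cop (relIndex_dvd_card _ _)) h

end cf

variable [Fact p.Prime] [Finite X]

omit [Finite X] in
/-- **TI Sylow subgroups, one component** -/
theorem one_of_ti (ae : AE p) (h : ¬ p ∣ (Inn X).relIndex Γ) (Q : Sylow p X) (hQ : S.TI (Q : Subgroup X)) :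
    One p X Γ := fun _ _ _ _ c l _ P => mck_over ae c.e c.inj (range_normal c) (nd_index c h) c.cen c.cop Q hQ l P

theorem one_of_ti' (ae : AE p) (s : Sit p X Γ) (e : X ⧸ center X ≃* H) (h : ¬ p ∣ (Inn X).relIndex Γ) (T : Sylow p H)
    (hT : S.TI (T : Subgroup H)) : One p X Γ := by
  have c := cv_of s e
  obtain ⟨Q, rfl⟩ := Sylow.mapSurjective_surjective c.surj p T
  exact one_of_ti ae h Q (ti_of_cover _ c.surj c.ker.le (c.ker ▸ s.cop) Q hT)

theorem one_of_not_sq (ae : AE p) (s : Sit p X Γ) (e : X ⧸ center X ≃* H) (h : ¬ p ∣ Nat.card (Out H))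
    (h2 : ¬ p ^ 2 ∣ Nat.card H) : One p X Γ :=
  have : Finite H := Finite.of_surjective _ (cv_of s e).surj
  one_of_ti' ae s e (nd_rel s e h) default (ti_of_not_sq _ h2)

end Cfsg.Agent.MO.TI
end

-- part: MO/TI/Fix
section
/-!
# MO, fixed points of two permutations of `p`-power order (helper78)

`fix_eq` : if the permutation modules agree up to quotients of dimension less than `p` with fixed vectors, the numbers of
fixed points agree.
-/

set_option autoImplicit false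

namespace Cfsg.Agent.MO.TI

open Equiv Module Finset

variable {S T : Type} [Fintype S] [Fintype T]

/-- the invariant functions -/
def Fx (σ : Perm S) : Submodule ℂ (S → ℂ) := LinearMap.eqLocus (LinearMap.funLeft ℂ ℂ σ) LinearMap.id

omit [Fintype S] in
theorem mem_Fx {σ : Perm S} {a : S → ℂ} : a ∈ Fx σ ↔ a ∘ σ = a := Iff.rfl

/-- the number of fixed points -/
noncomputable def nf (σ : Perm S) : ℕ := Nat.card {x // σ x = x}

theorem trace_perm (σ : Perm S) : LinearMap.trace ℂ _ (LinearMap.funLeft ℂ ℂ σ) = nf σ := by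
  classical
  rw [LinearMap.trace_eq_matrix_trace ℂ (Pi.basisFun ℂ S), nf, Nat.card_eq_fintype_card, Fintype.card_subtype]
  simp only [Matrix.trace, Pi.single_apply, _root_.LinearMap.toMatrix_eq_toMatrix', _root_.Matrix.diag_apply, _root_.LinearMap.toMatrix'_apply, _root_.LinearMap.funLeft_apply, _root_.Finset.sum_boole]

omit [Fintype S] in
theorem comp_pow {σ : Perm S} {a : S → ℂ} (h : a ∘ σ = a) (j : ℕ) : a ∘ ⇑(σ ^ j) = a := by
  induction j with
  | zero => rfl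
  | succ j ih => rw [pow_succ, Perm.coe_mul, ← Function.comp_assoc, ih, h]

theorem burnside {σ : Perm S} {n : ℕ} (hn : n ≠ 0) (h : σ ^ n = 1) :
    n * finrank ℂ (Fx σ) = ∑ j ∈ range n, nf (σ ^ j) := by
  have h0 : (n : ℂ) ≠ 0 := Nat.cast_ne_zero.2 hn
  have h1 : LinearMap.IsProj (Fx σ) ((n : ℂ)⁻¹ • ∑ j ∈ range n, LinearMap.funLeft ℂ ℂ ⇑(σ ^ j)) := by
    refine ⟨fun a => funext fun x => ?_, fun a ha => funext fun x => ?_⟩
    · have h2 := (sum_range_succ (fun j => a ((σ ^ j) x)) n).symm.trans (sum_range_succ' _ n)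
      simp only [h, pow_zero, add_left_inj, pow_succ, Perm.mul_apply] at h2
      simp only [h2, _root_.LinearMap.smul_apply, _root_.LinearMap.coe_sum, _root_.Finset.sum_apply, _root_.LinearMap.funLeft_apply, _root_.Pi.smul_apply, _root_.smul_eq_mul, _root_.map_smul, _root_.map_sum, _root_.LinearMap.id_coe, _root_.id_eq]
    · have h2 : ∀ j : ℕ, a ((σ ^ j) x) = a x := fun j => congrFun (comp_pow ha j) x
      simp only [h2, h0, _root_.LinearMap.smul_apply, _root_.LinearMap.coe_sum, _root_.Finset.sum_apply, _root_.Pi.smul_apply, _root_.LinearMap.funLeft_apply, _root_.Finset.sum_const, _root_.Finset.card_range, _root_.nsmul_eq_mul, _root_.smul_eq_mul, _root_.ne_eq, _root_.not_false_eq_true, _root_.inv_mul_cancel_left₀]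
  have h2 := h1.trace
  rw [map_smul, map_sum, sum_congr rfl fun j _ => trace_perm _, smul_eq_mul, inv_mul_eq_iff_eq_mul₀ h0] at h2
  exact_mod_cast h2.symm

omit [Fintype S] in
theorem nf_coprime {σ : Perm S} {n j : ℕ} (h : σ ^ n = 1) (hj : n.Coprime j) : nf (σ ^ j) = nf σ := by
  refine Nat.card_congr (Equiv.subtypeEquivRight fun x => ⟨fun e => ?_, fun e => Perm.pow_apply_eq_self_of_apply_eq_self e j⟩)
  obtain ⟨m, hm⟩ := exists_pow_eq_self_of_coprime (x := σ) (n := j)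
    (hj.symm.coprime_dvd_right (orderOf_dvd_of_pow_eq_one h))
  rw [← hm]
  exact Perm.pow_apply_eq_self_of_apply_eq_self e m

theorem nf_eq {p : ℕ} (hp : p.Prime) (hc : Fintype.card S = Fintype.card T) (k : ℕ) : ∀ (σ : Perm S) (τ : Perm T),
    σ ^ p ^ k = 1 → τ ^ p ^ k = 1 → (∀ j : ℕ, finrank ℂ (Fx (σ ^ j)) + 1 < finrank ℂ (Fx (τ ^ j)) + p ∧
      finrank ℂ (Fx (τ ^ j)) + 1 < finrank ℂ (Fx (σ ^ j)) + p) → ∀ j : ℕ, nf (σ ^ j) = nf (τ ^ j) := by
  induction k with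
  | zero =>
    intro σ τ h1 h2 _ j
    rw [pow_zero, pow_one] at h1 h2
    simp only [h1, h2, nf, hc, _root_.one_pow, _root_.Equiv.Perm.coe_one, _root_.id_eq, _root_.Nat.card_eq_fintype_card, _root_.Fintype.card_subtype_true]
  | succ k ih =>
    intro σ τ h1 h2 h
    have h0 : p ^ (k + 1) ≠ 0 := pow_ne_zero _ hp.ne_zero
    have h3 := ih (σ ^ p) (τ ^ p) (by rw [← pow_mul, ← pow_succ', h1]) (by rw [← pow_mul, ← pow_succ', h2]) fun j => by
      rw [← pow_mul, ← pow_mul]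
      exact h _
    have h4 : ∀ j, ¬ (p ^ (k + 1)).Coprime j → nf (σ ^ j) = nf (τ ^ j) := fun j hj => by
      rw [Nat.coprime_pow_left_iff k.succ_pos, hp.coprime_iff_not_dvd, not_not] at hj
      obtain ⟨j, rfl⟩ := hj
      rw [pow_mul, pow_mul, h3]
    have h5 := burnside h0 h1
    have h6 := burnside h0 h2
    rw [← sum_filter_add_sum_filter_not _ (p ^ (k + 1)).Coprime] at h5 h6
    rw [sum_congr rfl fun j hj => nf_coprime h1 (mem_filter.1 hj).2,
      sum_congr rfl fun j hj => h4 j (mem_filter.1 hj).2] at h5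
    rw [sum_congr rfl fun j hj => nf_coprime h2 (mem_filter.1 hj).2] at h6
    rw [sum_const, ← Nat.totient_eq_card_coprime, Nat.totient_prime_pow_succ hp, smul_eq_mul] at h5 h6
    have h7 := h 1
    rw [pow_one, pow_one] at h7
    obtain ⟨q, rfl⟩ : ∃ q, p = q + 1 := ⟨p - 1, (Nat.sub_add_cancel hp.pos).symm⟩
    have h8 : (q + 1) * finrank ℂ (Fx σ) + q * nf τ = (q + 1) * finrank ℂ (Fx τ) + q * nf σ := by
      refine Nat.eq_of_mul_eq_mul_left (pow_pos hp.pos k) ?_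
      rw [Nat.add_sub_cancel, pow_succ] at h5 h6
      linarith only [h5, h6]
    have h9 : (q : ℤ) ∣ (finrank ℂ (Fx σ) : ℤ) - finrank ℂ (Fx τ) :=
      ⟨nf σ - nf τ - finrank ℂ (Fx σ) + finrank ℂ (Fx τ), by zify at h8; linear_combination h8⟩
    have h10 := Int.eq_zero_of_abs_lt_dvd h9 (abs_lt.2 ⟨by omega, by omega⟩)
    have h11 : nf σ = nf τ := by
      rw [show finrank ℂ (Fx σ) = finrank ℂ (Fx τ) by omega, add_right_inj] at h8
      exact (Nat.eq_of_mul_eq_mul_left (by have := hp.two_le; omega) h8).symm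
    intro j
    by_cases hj : ((q + 1) ^ (k + 1)).Coprime j
    · rw [nf_coprime h1 hj, nf_coprime h2 hj, h11]
    · exact h4 j hj

theorem rank_bound {p : ℕ} {W F : Submodule ℂ (S → ℂ)} (h : Fintype.card S < finrank ℂ W + p) {v : S → ℂ} (h1 : v ∈ F)
    (h2 : v ∉ W) : finrank ℂ (W ⊓ F : Submodule ℂ _) < finrank ℂ F ∧ finrank ℂ F < finrank ℂ (W ⊓ F : Submodule ℂ _) + p := by
  refine ⟨Submodule.finrank_lt_finrank_of_lt (lt_of_le_of_ne inf_le_right fun e => h2 (e.ge h1).1), ?_⟩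
  have h3 := Submodule.finrank_sup_add_finrank_inf_eq W F
  have h4 := (W ⊔ F).finrank_le
  rw [finrank_fintype_fun_eq_card] at h4
  omega

omit [Fintype S] [Fintype T] in
theorem finrank_map {Φ : (S → ℂ) →ₗ[ℂ] T → ℂ} {U : Submodule ℂ (S → ℂ)} (h : ∀ a ∈ U, Φ a = 0 → a = 0) :
    finrank ℂ (U.map Φ) = finrank ℂ U := by
  rw [← LinearMap.range_domRestrict]
  exact LinearMap.finrank_range_of_inj ((injective_iff_map_eq_zero _).2 fun a ha => Subtype.ext (h a a.2 ha))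

/-- **equal numbers of fixed points** -/
theorem fix_eq {p k : ℕ} (hp : p.Prime) (hc : Fintype.card S = Fintype.card T) {σ : Perm S} {τ : Perm T}
    (hσ : σ ^ p ^ k = 1) (hτ : τ ^ p ^ k = 1) {W : Submodule ℂ (S → ℂ)} {W' : Submodule ℂ (T → ℂ)}
    (hd : finrank ℂ W = finrank ℂ W') (hl : Fintype.card S < finrank ℂ W + p) (Φ : (S → ℂ) →ₗ[ℂ] T → ℂ)
    (hΦ : ∀ a, Φ (a ∘ σ) = Φ a ∘ τ) (hW : ∀ a ∈ W, a ∘ σ ∈ W) (hm : ∀ a ∈ W, Φ a ∈ W') (hi : ∀ a ∈ W, Φ a = 0 → a = 0)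
    {v : S → ℂ} (hv : v ∘ σ = v) (hv' : v ∉ W) {w : T → ℂ} (hw : w ∘ τ = w) (hw' : w ∉ W') : nf σ = nf τ := by
  have h1 : W.map Φ = W' := Submodule.eq_of_le_of_finrank_eq (Submodule.map_le_iff_le_comap.2 hm)
    ((finrank_map hi).trans hd)
  have h2 : ∀ (j : ℕ) a, Φ (a ∘ ⇑(σ ^ j)) = Φ a ∘ ⇑(τ ^ j) := fun j a => by
    induction j with
    | zero => rfl
    | succ j ih =>
      rw [pow_succ, pow_succ, Perm.coe_mul, Perm.coe_mul, ← Function.comp_assoc, hΦ, ih, Function.comp_assoc]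
  have h3 : ∀ (j : ℕ), ∀ a ∈ W, a ∘ ⇑(σ ^ j) ∈ W := fun j a ha => by
    induction j with
    | zero => exact ha
    | succ j ih => rw [pow_succ, Perm.coe_mul, ← Function.comp_assoc]; exact hW _ ih
  have h4 := nf_eq hp hc k σ τ hσ hτ (fun j => ?_) 1
  · rwa [pow_one, pow_one] at h4
  have h5 : (W ⊓ Fx (σ ^ j)).map Φ = W' ⊓ Fx (τ ^ j) := by
    refine le_antisymm ?_ fun b hb => ?_
    · rintro _ ⟨a, ha, rfl⟩
      exact ⟨hm a ha.1, (h2 j a).symm.trans (congrArg Φ ha.2)⟩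
    · obtain ⟨a, ha, rfl⟩ := h1.ge hb.1
      exact ⟨a, ⟨ha, sub_eq_zero.1 (hi _ (sub_mem (h3 j a ha) ha) ((map_sub _ _ _).trans
        (sub_eq_zero.2 ((h2 j a).trans hb.2))))⟩, rfl⟩
  have h6 := finrank_map (Φ := Φ) (U := W ⊓ Fx (σ ^ j)) fun a ha => hi a ha.1
  have h7 := rank_bound hl (F := Fx (σ ^ j)) (comp_pow hv j) hv'
  have h8 := rank_bound (hc ▸ hd ▸ hl) (F := Fx (τ ^ j)) (comp_pow hw j) hw'
  rw [h5] at h6
  omega

end Cfsg.Agent.MO.TI
end

-- part: MO/TI/Blk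
section
/-!
# MO, cyclic Sylow subgroups: the characters fixed by an automorphism of `p`-power order (helper78)

* `blk_fix` : a block and its correspondent in a strongly embedded subgroup, rank less than `p`;
* `cyc_data`, `ind_map`, `uniq` : blocks with a cyclic defect group, transport, the first main theorem;
* `fix_cyc` : the numbers of the fixed characters of `p'`-degree agree.
-/

set_option autoImplicit false

namespace Cfsg.Agent.MO.TI

open Cfsg Subgroup Module Cfsg.Agent.Characters Cfsg.Agent.Characters.Core Cfsg.Agent.Blocks.Basic Cfsg.Agent.MO.T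
  Cfsg.Agent.H608.BlockRank Cfsg.Agent.H649 Cfsg.Agent.TID.Blk
open Cfsg.Agent.MK (Ov Fa)
open Cfsg.Agent.MK.T (pow_card_mem res)

variable {p : ℕ} {M : Ideal AlgInt}

section one

variable {K : Type} [Group K] (b : Set (IrrCharacter K)) [Fintype b]

/-- linear combinations of the members of `b` -/
noncomputable def cb : (b → ℂ) →ₗ[ℂ] K → ℂ := Fintype.linearCombination ℂ fun χ : b => (χ.1 : K → ℂ)

theorem cb_apply (a : b → ℂ) (g : K) : cb b a g = ∑ χ, a χ * χ.1.1 g := by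
  simp only [cb, Fintype.linearCombination_apply, _root_.Finset.sum_apply, _root_.Pi.smul_apply, _root_.smul_eq_mul]

theorem range_cb : LinearMap.range (cb b) = charSpan b := by
  rw [cb, Fintype.range_linearCombination, charSpan, Set.image_eq_range]

theorem cb_mem (a : b → ℂ) : cb b a ∈ charSpan b := range_cb b ▸ LinearMap.mem_range_self _ a

theorem inner_cb [Fintype K] (a : b → ℂ) (χ : b) : classInner (cb b a) χ.1.1 = a χ := by
  rw [cb, Fintype.linearCombination_apply, classInner_sum_left, Finset.sum_eq_single χ, classInner_smul_left,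
    classInner_irr_self χ.1.2, mul_one]
  · intro ψ _ h
    rw [classInner_smul_left, classInner_irr_ne ψ.1.2 χ.1.2 fun e => h (Subtype.ext (Subtype.ext e)), mul_zero]
  · exact fun h => absurd (Finset.mem_univ _) h

variable (p) in
/-- the combinations which vanish on the `p`-regular elements -/
noncomputable def Wb : Submodule ℂ (b → ℂ) := LinearMap.ker (pReg p ∘ₗ cb b)

theorem mem_Wb [Finite K] {a : b → ℂ} : a ∈ Wb p b ↔ ∀ g, IsPRegular p g → cb b a g = 0 := pReg_eq_zero_iff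

theorem rank_Wb : blockRank p b + finrank ℂ (Wb p b) = Fintype.card b := by
  rw [blockRank_eq, ← range_cb, ← LinearMap.range_comp, Wb, LinearMap.finrank_range_add_finrank_ker,
    finrank_fintype_fun_eq_card]

theorem deg_not_mem [Finite K] [Fact p.Prime] (h : b.Nonempty) : (fun χ : b => χ.1.1 1) ∉ Wb p b := fun e => by
  have h1 := (mem_Wb b).1 e 1 (by rw [IsPRegular, orderOf_one]; exact nd_one)
  obtain ⟨χ, hχ⟩ := h
  rw [cb_apply, Finset.sum_congr rfl fun ψ _ => by rw [irr_one_eq_charDegree ψ.1.2, ← Nat.cast_mul], ← Nat.cast_sum,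
    Nat.cast_eq_zero, Finset.sum_eq_zero_iff] at h1
  exact (charDegree_pos χ.2).ne' (mul_self_eq_zero.1 (h1 ⟨χ, hχ⟩ (Finset.mem_univ _)))

/-- the action of the automorphisms -/
def act (K : Type) [Group K] : MulAut K →* Equiv.Perm (IrrCharacter K) := MonoidHom.mk' irrEquiv fun _ _ => rfl

variable {b} {α : MulAut K} (h : blkMap α b = b)

/-- the permutation of an invariant set -/
def pm : Equiv.Perm b := (act K α).subtypePerm fun _ => by
  conv_lhs => rw [← h]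
  exact irrMap_mem_blkMap

omit [Fintype b] in
theorem pm_pow {n : ℕ} {t : K} (hn : α ^ n = MulAut.conj t) : pm h ^ n = 1 := by
  rw [pm, Equiv.Perm.subtypePerm_pow]
  ext1 χ
  refine Subtype.ext ?_
  change (act K α ^ n) χ.1 = χ.1
  rw [← map_pow, hn]
  exact irrMap_conj t χ.1

theorem cb_pm (a : b → ℂ) (g : K) : cb b (a ∘ pm h) g = cb b a (α g) := by
  rw [cb_apply, cb_apply, ← Equiv.sum_comp (pm h) fun χ => a χ * χ.1.1 (α g)]
  exact Finset.sum_congr rfl fun χ _ => congrArg (a (pm h χ) * ·) (irrMap_apply' α χ.1 g).symm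

end one

variable {A : Type} [Group A] [Finite A] [Fact p.Prime] {H : Subgroup A}

/-- **a block and its correspondent** -/
theorem blk_fix (hM : IsPModular p M) (hC : ∀ h ∈ H, p ∣ orderOf h → ∀ g, g⁻¹ * h * g ∈ H → g ∈ H)
    {c : Set (IrrCharacter H)} {B : Set (IrrCharacter A)} (hi : IsInducedBlock M H c B) (hk : Nat.card c = Nat.card B)
    (hl : blockRank p c = blockRank p B) (hlt : blockRank p c < p) {α : MulAut A} {β : MulAut H}
    (hβ : ∀ h, (β h : A) = α h) {k : ℕ} {t : H} (ht : α ^ p ^ k = MulAut.conj (t : A)) (hB : blkMap α B = B)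
    (hc : blkMap β c = c) : nf (pm hc) = nf (pm hB) := by
  classical
  have := Blocks.LocalRing.isPrime hM
  have := Fintype.ofFinite A
  have := Fintype.ofFinite H
  have := finite_irr (G := A)
  have := finite_irr (G := H)
  have := Fintype.ofFinite B
  have := Fintype.ofFinite c
  have h0 : ∀ (n : ℕ) (h : H), ((β ^ n) h : A) = (α ^ n) h := fun n => by
    induction n with
    | zero => exact fun _ => rfl
    | succ n ih => exact fun h => by rw [pow_succ, pow_succ, MulAut.mul_apply, MulAut.mul_apply, ih, hβ]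
  have h1 := rank_Wb (p := p) c
  have h2 := rank_Wb (p := p) B
  rw [Nat.card_eq_fintype_card, Nat.card_eq_fintype_card] at hk
  let Φ : (c → ℂ) →ₗ[ℂ] B → ℂ :=
    { toFun := fun a χ => classInner (cb c a) fun h : H => χ.1.1 h
      map_add' := fun a a' => funext fun χ => by rw [map_add, classInner_add_left]; rfl
      map_smul' := fun z a => funext fun χ => by rw [map_smul, classInner_smul_left]; rfl }
  have h3 : ∀ a ∈ Wb p c, cb B (Φ a) = indFun H (cb c a) := fun a ha => by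
    have h4 : indFun H (cb c a) ∈ charSpan B := by
      refine mem_charSpan_of_classInner (Brauer.indFun_isClassFunction _ _) fun χ hχ => ?_
      rw [Brauer.classInner_indFun _ _ _ _ (isIrr_isClassFunction χ.2), ← inner_blockPart' (cb_mem c a),
        Core.classInner_def, Finset.sum_eq_zero, mul_zero]
      intro n _
      by_cases hn : IsPRegular p n
      · rw [(mem_Wb c).1 ha n hn, zero_mul]
      · rw [Blocks.BlockPart.blockPart_eq_sum c (fun x y => isIrr_isClassFunction χ.2 x y) n, ← finsum_eq_sum_of_fintype]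
        refine mul_eq_zero_of_right _ ((map_eq_zero _).2 (S0922.result p M hM H c B hi n (fun z hz g hg => ?_) χ hχ))
        obtain ⟨z', hz'⟩ := Blocks.PPart.exists_isPPart p n
        obtain rfl := Blocks.PPart.isPPart_unique (Blocks.PPart.isPPart_coe hz') hz
        refine hC _ z'.2 ?_ g (by rw [mul_assoc, ← mem_centralizer_singleton_iff.1 hg, inv_mul_cancel_left]; exact z'.2)
        obtain ⟨y, rfl, -, ⟨_ | j, h5⟩, h6⟩ := hz'
        · rw [orderOf_eq_one_iff.1 h5, one_mul] at hn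
          exact absurd h6 hn
        · rw [orderOf_coe, h5]
          exact dvd_pow_self p j.succ_ne_zero
    obtain ⟨a', h5⟩ := (range_cb B).ge h4
    rw [← h5]
    refine congrArg _ (funext fun χ => ?_)
    rw [← inner_cb B a' χ, h5, Brauer.classInner_indFun _ _ _ _ (isIrr_isClassFunction χ.1.2)]
    rfl
  have h4 : ∀ a ∈ Wb p c, ∀ g x : A, (IsPRegular p g ∨ g ∈ H ∧ x ∉ H) → extendByZero H (cb c a) (x⁻¹ * g * x) = 0 :=
    fun a ha g x h => by
    by_cases hm : x⁻¹ * g * x ∈ H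
    · rw [Brauer.extendByZero_mem _ _ hm]
      refine (mem_Wb c).1 ha _ fun e => ?_
      rw [← orderOf_coe, show orderOf (x⁻¹ * g * x) = orderOf g from (MulAut.conj x).symm.orderOf_eq g] at e
      exact h.elim (fun h => h e) fun h => h.2 (hC g h.1 e x hm)
    · exact Brauer.extendByZero_notMem _ _ hm
  refine fix_eq (k := k) Fact.out hk (pm_pow hc (t := t) (MulEquiv.ext fun h => Subtype.ext ((h0 _ h).trans (by rw [ht]; rfl))))
    (pm_pow hB ht) (W := Wb p c) (W' := Wb p B) (by omega) (by omega) Φ (fun a => funext fun χ => ?_) (fun a ha => ?_)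
    (fun a ha => ?_) (fun a ha e => ?_) (v := fun ψ => ψ.1.1 1) (funext fun ψ => irrMap_one β ψ.1)
    (deg_not_mem c (isPBlock_nonempty hi.1)) (w := fun χ => χ.1.1 1) (funext fun χ => irrMap_one α χ.1)
    (deg_not_mem B (isPBlock_nonempty hi.2.1))
  · change classInner _ _ = classInner _ _
    rw [Core.classInner_def, Core.classInner_def, ← β.toEquiv.sum_comp fun h => cb c a h * _]
    refine congrArg _ (Finset.sum_congr rfl fun h _ => ?_)
    rw [cb_pm]
    exact congrArg (fun z => _ * starRingEnd ℂ z) ((irrMap_apply' α χ.1 h).symm.trans (congrArg _ (hβ h).symm))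
  · exact (mem_Wb c).2 fun g hg => (cb_pm hc a g).trans ((mem_Wb c).1 ha _ ((isPRegular_map_iff β p g).2 hg))
  · refine (mem_Wb B).2 fun g hg => ?_
    rw [h3 a ha, Brauer.indFun_apply, Finset.sum_eq_zero fun x _ => h4 a ha g x (.inl hg), mul_zero]
  · have h5 : cb c a = 0 := funext fun n => by
      have h6 := congrFun (h3 a ha) n
      have h7 : ∀ x : A, extendByZero H (cb c a) (x⁻¹ * n * x) = if x ∈ H then cb c a n else 0 := fun x => by
        split_ifs with hx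
        · rw [Brauer.extendByZero_mem _ _ (mul_mem (mul_mem (inv_mem hx) n.2) hx)]
          have h8 := charSpan_isClassFunction (cb_mem c a) n (⟨x, hx⟩⁻¹)
          rw [inv_inv] at h8
          exact h8
        · exact h4 a ha n x (.inr ⟨n.2, hx⟩)
      rw [e, map_zero, Brauer.indFun_apply, Finset.sum_congr rfl fun x _ => h7 x, ← Finset.sum_filter, Finset.sum_const,
        nsmul_eq_mul, ← Fintype.card_subtype, ← Nat.card_eq_fintype_card,
        inv_mul_cancel_left₀ (Nat.cast_ne_zero.2 Nat.card_pos.ne')] at h6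
      exact h6.symm
    exact funext fun ψ => by rw [← inner_cb c a ψ, h5, classInner_zero_left]; rfl

/-- blocks of maximal defect, cyclic Sylow subgroup -/
theorem cyc_data (hM : IsPModular p M) (Q : Sylow p A) (hQ : IsCyclic (Q : Subgroup A)) (h1 : (Q : Subgroup A) ≠ ⊥)
    {B : Set (IrrCharacter A)} (hB : IsPBlock M B) (hD : IsDefectGroup p M B Q) :
    blockRank p B < p ∧ ∀ χ ∈ B, ¬ p ∣ charDegree (χ : A → ℂ) := by
  have := Fintype.ofFinite A
  obtain ⟨a, ha⟩ := Q.isPGroup'.exists_card_eq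
  have h2 : 1 ≤ a := Nat.pos_of_ne_zero fun e => h1 (card_eq_one.1 (by rw [ha, e, pow_zero]))
  obtain ⟨b, hb⟩ := H658.exists_root_centralizer hM IsCyclic.isMulCommutative hD hB
  obtain ⟨T, hT⟩ := H658.exists_stabilizer hM (Q : Subgroup A) hb.1
  obtain ⟨h3, h4, -⟩ := S4696.result p M hM _ hQ a h2 ha B hB hD b hb T hT _ rfl
  have h5 := (Fact.out : p.Prime).one_lt
  refine ⟨?_, fun χ hχ => ?_⟩
  · rw [S4695.result p M hM _ hQ a h2 ha B hB hD b hb T hT _ rfl]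
    exact (Nat.le_of_dvd (by omega) h3).trans_lt (by omega)
  · obtain ⟨ψ, h6, h7⟩ := S0953.exists_degree_of_isDefectGroup hM Q hB hD
    have h8 := h4 χ hχ
    have h9 : 0 ∈ (fun ψ : IrrCharacter A => (charDegree (ψ : A → ℂ)).factorization p) '' B :=
      ⟨ψ, h6, Nat.factorization_eq_zero_of_not_dvd h7⟩
    rw [blockHeight_def, Nat.sInf_eq_zero.2 (.inl h9), Nat.sub_zero, Nat.factorization_eq_zero_iff] at h8
    exact h8.elim (absurd Fact.out) (·.elim id (absurd · (charDegree_pos χ.2).ne'))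

omit [Finite A] [Fact p.Prime] in
theorem ind_map {c : Set (IrrCharacter H)} {B : Set (IrrCharacter A)} (hi : IsInducedBlock M H c B) {α : MulAut A}
    {β : MulAut H} (hβ : ∀ h, (β h : A) = α h) : IsInducedBlock M H (blkMap β c) (blkMap α B) := by
  refine ⟨isPBlock_blkMap hi.1, isPBlock_blkMap hi.2.1, ?_⟩
  rintro _ ⟨ξ, hξ, rfl⟩ _ ⟨χ, hχ, rfl⟩ g
  obtain ⟨g, rfl⟩ := α.surjective g
  have h1 := hi.2.2 ξ hξ χ hχ g
  have h2 : centralChar (irrMap α χ : A → ℂ) (α g) = centralChar χ.1 g :=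
    (centralChar_map α χ.1 _).trans (by rw [α.symm_apply_apply])
  have h3 : inducedCentralChar H (irrMap β ξ : H → ℂ) (α g) = inducedCentralChar H ξ.1 g := by
    rw [inducedCentralChar_def, inducedCentralChar_def, ← finsum_comp_equiv β.toEquiv]
    refine finsum_congr fun x => ?_
    have h : (β.toEquiv x ∈ {h : H | IsConj (α g) (h : A)}) = (x ∈ {h : H | IsConj g (h : A)}) := propext (by
      change IsConj (α g) (β x : A) ↔ IsConj g (x : A)
      rw [hβ]
      exact ⟨fun e => by simpa only [_root_.isConj_iff, _root_.MulEquiv.toMonoidHom_eq_coe, _root_.MonoidHom.coe_coe, _root_.MulEquiv.symm_apply_apply] using α.symm.toMonoidHom.map_isConj e, α.toMonoidHom.map_isConj⟩)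
    rw [h]
    refine finsum_congr fun _ => ?_
    change (irrMap β ξ : H → ℂ) (β x) / _ = _
    rw [irrMap_apply', irrMap_one]
  rwa [h2, h3]

theorem uniq (hM : IsPModular p M) {P : Subgroup A} (hP : IsPGroup p P) (hH : normalizer (P : Set A) ≤ H)
    {c c' : Set (IrrCharacter H)} {B : Set (IrrCharacter A)} (h : IsInducedBlock M H c B) (h' : IsInducedBlock M H c' B)
    (d : IsDefectGroup p M c (P.subgroupOf H)) (d' : IsDefectGroup p M c' (P.subgroupOf H)) : c = c' := by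
  have := Fintype.ofFinite A
  have := Blocks.LocalRing.isPrime hM
  obtain ⟨B₁, h1⟩ := H648.FirstMain.exists_block_of_over hM hP hH h.1 d
  obtain ⟨B₂, h2⟩ := H648.FirstMain.exists_block_of_over hM hP hH h'.1 d'
  obtain rfl := H662.inducedBlock_unique h h1.ind
  obtain rfl := H662.inducedBlock_unique h' h2.ind
  exact H648.FirstMain.eq_of_br_eq hM hP (le_normalizer.trans hH) h.1 h'.1
    (h1.br_eq ▸ H648.Dict.br_idem_ne_zero hM h.2.1 h1.defect_B) (h1.br_eq.symm.trans h2.br_eq)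

omit [Finite A] [Fact p.Prime] in
theorem fix_iff' {α : MulAut A} {χ : IrrCharacter A} : irrMap α χ = χ ↔ ∀ x, χ.1 (α x) = χ.1 x :=
  ⟨fun h x => by rw [← irrMap_apply' α χ x, h], fun h => Subtype.ext (funext fun x => by
    rw [irrMap_apply, ← h, α.apply_symm_apply])⟩

omit [Finite A] [Fact p.Prime] in
theorem blk_stab {α : MulAut A} {χ : A → ℂ} (h : ∀ x, χ (α x) = χ x) : blkMap α (blockOf M χ) = blockOf M χ := by
  rw [blkMap_blockOf, show (fun x => χ (α.symm x)) = χ from funext fun x => by rw [← h, α.apply_symm_apply]]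

/-- **cyclic Sylow subgroups: the fixed characters** -/
theorem fix_cyc (Q : Sylow p A) (hQ : IsCyclic (Q : Subgroup A)) (h1 : (Q : Subgroup A) ≠ ⊥)
    (hN : normalizer ((Q : Subgroup A) : Set A) ≤ H) (hC : ∀ h ∈ H, p ∣ orderOf h → ∀ g, g⁻¹ * h * g ∈ H → g ∈ H)
    {Z : Subgroup A} (hZ : Z ≤ center A) (ho : ¬ p ∣ Nat.card Z) (l : A → ℂ) {α : MulAut A} {β : MulAut H}
    (hβ : ∀ h, (β h : A) = α h) {k : ℕ} {t : H} (ht : α ^ p ^ k = MulAut.conj (t : A)) :
    Nat.card {χ : A → ℂ // PI p A χ ∧ (∀ z ∈ Z, χ z = l z * χ 1) ∧ ∀ x, χ (α x) = χ x} =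
      Nat.card {ψ : H → ℂ // PI p H ψ ∧ Ov H Z l ψ ∧ ∀ y, ψ (β y) = ψ y} := by
  obtain ⟨M, hM⟩ := Blocks.ExistsModular.exists_isPModular (Fact.out : p.Prime)
  have := Blocks.LocalRing.isPrime hM
  have := Fintype.ofFinite A
  have := Fintype.ofFinite H
  have := finite_irr (G := A)
  have := Fintype.ofFinite {B // Bl p M Q Z l B ∧ blkMap α B = B}
  have hQH : (Q : Subgroup A) ≤ H := le_normalizer.trans hN
  have hZN : Z ≤ H := (hZ.trans (center_le_normalizer _)).trans hN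
  have hd : ∀ {c : Set (IrrCharacter H)} {ψ : IrrCharacter H}, IsPBlock M c → ψ ∈ c → ¬ p ∣ charDegree ψ.1 →
      IsDefectGroup p M c ((Q : Subgroup A).subgroupOf H) := fun h2 h3 h4 =>
    S0953.isDefectGroup_of_degree hM (Q.subtype hQH) h2 h3 h4
  let f : {χ : A → ℂ // PI p A χ ∧ (∀ z ∈ Z, χ z = l z * χ 1) ∧ ∀ x, χ (α x) = χ x} →
      {B // Bl p M Q Z l B ∧ blkMap α B = B} := fun χ =>
    ⟨blockOf M χ.1, ⟨isPBlock_blockOf ⟨χ.1, χ.2.1.1⟩, S0953.isDefectGroup_of_degree hM Q (isPBlock_blockOf ⟨χ.1, χ.2.1.1⟩)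
      (mem_blockOf_self ⟨χ.1, χ.2.1.1⟩) χ.2.1.2, fun ψ hψ => cen_block hM hZ ho χ.2.1.1 χ.2.2.1 hψ⟩, blk_stab χ.2.2.2⟩
  have h2 : ∀ ψ : {ψ : H → ℂ // PI p H ψ ∧ Ov H Z l ψ ∧ ∀ y, ψ (β y) = ψ y},
      ∃ B : {B // Bl p M Q Z l B ∧ blkMap α B = B}, IsInducedBlock M _ (blockOf M ψ.1) B.1 := fun ψ => by
    obtain ⟨B, h3⟩ := H648.FirstMain.exists_block_of_over hM Q.isPGroup' hN (isPBlock_blockOf ⟨ψ.1, ψ.2.1.1⟩)
      (hd (isPBlock_blockOf ⟨ψ.1, ψ.2.1.1⟩) (mem_blockOf_self ⟨ψ.1, ψ.2.1.1⟩) ψ.2.1.2)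
    refine ⟨⟨B, ⟨h3.isPBlock_B, h3.defect_B, fun χ hχ z hz => ?_⟩,
      H662.inducedBlock_unique (blk_stab ψ.2.2.2 ▸ ind_map h3.ind hβ) h3.ind⟩, h3.ind⟩
    have h6 := cen_ind hM h3.ind (mem_blockOf_self ⟨ψ.1, ψ.2.1.1⟩) hχ (z := ⟨z, hZN hz⟩) (hZ hz) ho (pow_card_mem hz)
    rw [show ψ.1 ⟨z, hZN hz⟩ = _ from ψ.2.2.1 _ hz, mul_div_cancel_right₀ _ ψ.2.1.one_ne] at h6
    rw [show l z = χ.1 z / χ.1 1 from h6, div_mul_cancel₀ _ (isIrr_apply_one_ne_zero χ.2)]
  choose g hg using h2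
  have := finite_pi (p := p) (G := A) fun χ => (∀ z ∈ Z, χ z = l z * χ 1) ∧ ∀ x, χ (α x) = χ x
  have := finite_pi (p := p) (G := H) fun ψ => Ov H Z l ψ ∧ ∀ y, ψ (β y) = ψ y
  rw [← Nat.card_congr (Equiv.sigmaFiberEquiv f), ← Nat.card_congr (Equiv.sigmaFiberEquiv g), Nat.card_sigma,
    Nat.card_sigma]
  refine Finset.sum_congr rfl ?_
  rintro ⟨B, ⟨h4, h5, h6⟩, h7⟩ -
  obtain ⟨c, hc⟩ := H648.FirstMain.exists_over_of_block hM hN h4 h5
  obtain ⟨I, ε, hI⟩ := H639.cyc_pi hM hQH hN h5 h1 hQ hc.defect_c hc.ind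
  have h8 := cyc_data hM Q hQ h1 h4 h5
  have h9 := cyc_data hM (Q.subtype hQH) ((subgroupOfEquivOfLe hQH).isCyclic.2 hQ)
    (fun e => h1 (by rw [← map_subgroupOf_eq_of_le hQH, show (Q : Subgroup A).subgroupOf H = ⊥ from e,
      Subgroup.map_bot]))
    hc.isPBlock_c hc.defect_c
  obtain ⟨ξ, hξ⟩ := isPBlock_nonempty hc.isPBlock_c
  have h10 : blkMap β c = c := uniq hM Q.isPGroup' hN (h7 ▸ ind_map hc.ind hβ) hc.ind
    (hd (isPBlock_blkMap hc.isPBlock_c) (irrMap_mem_blkMap.2 hξ) (by rw [charDegree_irrMap]; exact h9.2 ξ hξ)) hc.defect_c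
  refine (Eq.trans ?_ (blk_fix hM hC hc.ind (H608.PerfComp.card_eq hI) (H608.PerfComp.blockRank_eq hI) h9.1 hβ ht h7
    h10).symm).trans ?_
  · exact Nat.card_congr
      { toFun := fun χ => ⟨⟨⟨χ.1.1, χ.1.2.1.1⟩, (show blockOf M χ.1.1 = B from congrArg Subtype.val χ.2).subset
          (mem_blockOf_self ⟨χ.1.1, χ.1.2.1.1⟩)⟩, Subtype.ext (fix_iff'.2 χ.1.2.2.2)⟩
        invFun := fun χ => ⟨⟨χ.1.1.1, ⟨χ.1.1.2, h8.2 _ χ.1.2⟩, h6 _ χ.1.2, fix_iff'.1 (congrArg Subtype.val χ.2)⟩,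
          Subtype.ext (isPBlock_eq_blockOf h4 χ.1.2).symm⟩
        left_inv := fun _ => rfl
        right_inv := fun _ => rfl }
  · have h11 : ∀ ψ ∈ c, Ov H Z l ψ.1 := fun ψ hψ z hz => by
      obtain ⟨χ, hχ⟩ := isPBlock_nonempty h4
      have h12 := cen_ind hM hc.ind hψ hχ (hZ hz) ho (pow_card_mem hz)
      rw [h6 χ hχ z hz, mul_div_cancel_right₀ _ (isIrr_apply_one_ne_zero χ.2)] at h12
      rw [← h12, div_mul_cancel₀ _ (isIrr_apply_one_ne_zero ψ.2)]
    exact Nat.card_congr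
      { toFun := fun ψ => ⟨⟨ψ.1.1.1, ⟨ψ.1.1.2, h9.2 _ ψ.1.2⟩, h11 _ ψ.1.2, fix_iff'.1 (congrArg Subtype.val ψ.2)⟩,
          Subtype.ext (H662.inducedBlock_unique (hg _) (isPBlock_eq_blockOf hc.isPBlock_c ψ.1.2 ▸ hc.ind))⟩
        invFun := fun ψ => ⟨⟨⟨ψ.1.1, ψ.1.2.1.1⟩, (uniq hM Q.isPGroup' hN
            (hg ψ.1) ((show (g ψ.1).1 = B from congrArg Subtype.val ψ.2).symm ▸ hc.ind)
            (hd (isPBlock_blockOf ⟨ψ.1.1, ψ.1.2.1.1⟩) (mem_blockOf_self ⟨ψ.1.1, ψ.1.2.1.1⟩) ψ.1.2.1.2)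
            hc.defect_c).subset (mem_blockOf_self ⟨ψ.1.1, ψ.1.2.1.1⟩)⟩, Subtype.ext (fix_iff'.2 ψ.1.2.2.2)⟩
        left_inv := fun _ => rfl
        right_inv := fun _ => rfl }

end Cfsg.Agent.MO.TI
end

-- part: MO/TI/Cyc
section
/-!
# MO, cyclic Sylow subgroups: groups with one component (helper78)

* `kk_pcyc` : cyclic quotients of `p`-power order;
* `mem_of_order`, `strong` : the normaliser of the subgroup of order `p` is strongly embedded;
* `kk_cyclic` : `G / L` a cyclic `p`-group, `L` with a cyclic Sylow subgroup;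
* `PC p Γ`, `one_of_cyc` : the row.
-/

set_option autoImplicit false

namespace Cfsg.Agent.MO.TI

open Cfsg Subgroup Cfsg.Agent.Characters Cfsg.Agent.Characters.Core Cfsg.Agent.MO.T Cfsg.Agent.ODD.Red
open Cfsg.Agent.MK (Ov Fa)
open Cfsg.Agent.H261.TI (stab le_stab)

variable {p : ℕ} [Fact p.Prime] {G : Type} [Group G] [Finite G]

theorem kk_pcyc_top {L : Subgroup G} [L.Normal] {g : G} (hg : ∀ x : G, ∃ k : ℕ, x * (g ^ k)⁻¹ ∈ L) {k : ℕ}
    (hk : g ^ p ^ k ∈ L) {Z : Subgroup G} (hZ : Z ≤ center G) (hZL : Z ≤ L) (l : G → ℂ) :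
    kk p ⊤ Z l = L.index * fx p L Z l g := by
  classical
  have := finite_irr (G := L)
  have := Fintype.ofFinite (IrrCharacter L)
  have h1 := dcw (L := L) (A' := fun χ => ¬ p ∣ charDegree χ ∧ ∀ z ∈ Z, χ z = l z * χ 1)
    (A := fun θ => ¬ p ∣ charDegree θ ∧ Ov L Z l θ ∧ ∀ y y' : L, (y' : G) = g * y * g⁻¹ → θ y' = θ y) (fun _ => 1)
    (fun _ => one_ne_zero) fun χ θ hχ hθ hc => by
      have h2 := deg_cyc (cyc_of_gen hg) hχ hθ hc
      have h3 : (∀ y y' : L, (y' : G) = g * y * g⁻¹ → θ y' = θ y) ↔ (stab L θ).index = 1 := by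
        rw [← Nat.dvd_one, ← pow_mem_iff hg (le_stab hθ), pow_one]
        exact ⟨fun h y => h _ _ rfl, fun h y y' e => (congrArg θ (Subtype.ext e)).trans (h y)⟩
      refine ⟨?_, fun h => by rw [h2, h3.1 h.2.2]⟩
      rw [apply_one (isIrr_isCharacter hθ), ← Nat.cast_mul] at h2
      obtain ⟨j, -, hj⟩ := (Nat.dvd_prime_pow Fact.out).1 ((pow_mem_iff hg (le_stab hθ) _).1 (le_stab hθ hk))
      rw [charDegree_of h2, nd_mul, ov_iff_of_con hZ hZL l hχ hθ hc, h3, hj]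
      refine ⟨fun h => ⟨h.1.2, h.2, ?_⟩, fun h => ⟨⟨h.2.2 ▸ nd_one, h.1⟩, h.2.1⟩⟩
      rw [show j = 0 from by_contra fun e => h.1.1 (dvd_pow_self p e), pow_zero]
  apply Nat.cast_injective (R := ℂ)
  rw [kk_top, show Nat.card {χ // PI p G χ ∧ ∀ z ∈ Z, χ z = l z * χ 1} =
    Nat.card {χ // IsIrrCharacter G χ ∧ ¬ p ∣ charDegree χ ∧ ∀ z ∈ Z, χ z = l z * χ 1} by simp only [PI, and_assoc], h1,
    Finset.sum_const, Nat.cast_one, one_pow, div_one, nsmul_eq_mul, Nat.cast_mul, mul_comm, ← Fintype.card_subtype,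
    ← Nat.card_eq_fintype_card]
  exact congrArg (fun n : ℕ => (L.index : ℂ) * n) (Nat.card_congr
    ⟨fun θ => ⟨θ.1.1, ⟨θ.1.2, θ.2.1⟩, θ.2.2⟩, fun θ => ⟨⟨θ.1, θ.2.1.1⟩, θ.2.1.2, θ.2.2⟩, fun _ => rfl, fun _ => rfl⟩)

/-- **cyclic quotients of `p`-power order** -/
theorem kk_pcyc {K U Z : Subgroup G} (hKU : K ≤ U) (hU : U ≤ normalizer (K : Set G)) {g : G} (hg : g ∈ U)
    (hgen : ∀ x ∈ U, ∃ k : ℕ, x * (g ^ k)⁻¹ ∈ K) {k : ℕ} (hk : g ^ p ^ k ∈ K) (hZ : ∀ z ∈ Z, ∀ u ∈ U, u * z = z * u)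
    (hZK : Z ≤ K) (l : G → ℂ) : kk p U Z l = K.relIndex U * fx p K Z l g := by
  have := (normal_subgroupOf_iff_le_normalizer hKU).2 hU
  rw [← kk_top_sub, relIndex, kk_pcyc_top (L := K.subgroupOf U) (Z := Z.subgroupOf U) (g := ⟨g, hg⟩) (fun x => hgen x x.2)
    hk (fun z hz => mem_center_iff.2 fun u => Subtype.ext (hZ z hz u u.2)) (comap_mono hZK), fx_subgroupOf hKU]

theorem cyc_sylow {P : Sylow p G} (h : IsCyclic (P : Subgroup G)) (Q : Sylow p G) : IsCyclic (Q : Subgroup G) :=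
  (P.equiv Q).isCyclic.1 h

theorem mem_of_order {P : Sylow p G} (h : IsCyclic (P : Subgroup G)) {Y : Subgroup G} (hY : Nat.card Y = p) {x : G}
    (hx : x ^ p = 1) (hn : x ∈ normalizer (Y : Set G)) : x ∈ Y := by
  classical
  have h1 : IsPGroup p (zpowers x) := by
    rintro ⟨_, m, rfl⟩
    refine ⟨1, Subtype.ext ?_⟩
    change (x ^ m) ^ p ^ 1 = 1
    rw [pow_one, ← zpow_natCast, ← zpow_mul, mul_comm, zpow_mul, zpow_natCast, hx, one_zpow]
  obtain ⟨R, hR⟩ := ((IsPGroup.of_card (hY.trans (pow_one p).symm)).to_sup_of_normal_left' h1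
    (zpowers_le.2 hn)).exists_le_sylow
  have := cyc_sylow h R
  have := Fintype.ofFinite R
  have h2 : (Finset.univ.filter fun a : R => (a : G) ∈ Y) = Finset.univ.filter fun a : R => a ^ p = 1 := by
    refine Finset.eq_of_subset_of_card_le (Finset.monotone_filter_right _ fun a _ ha => Subtype.ext ?_)
      ((IsCyclic.card_pow_eq_one_le (Fact.out : p.Prime).pos).trans ?_)
    · have h3 := MK.T.pow_card_mem ha
      rwa [hY] at h3
    · rw [← Fintype.card_subtype, ← Nat.card_eq_fintype_card]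
      exact (hY.symm.trans (Nat.card_congr (subgroupOfEquivOfLe (le_sup_left.trans hR)).toEquiv).symm).le
  exact (Finset.mem_filter.1 (h2.ge (Finset.mem_filter.2
    ⟨Finset.mem_univ (⟨x, hR (mem_sup_right (mem_zpowers x))⟩ : R), Subtype.ext hx⟩))).2

theorem strong {P : Sylow p G} (h : IsCyclic (P : Subgroup G)) {Y : Subgroup G} (hY : Nat.card Y = p) :
    ∀ u ∈ normalizer (Y : Set G), p ∣ orderOf u → ∀ g, g⁻¹ * u * g ∈ normalizer (Y : Set G) →
      g ∈ normalizer (Y : Set G) := by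
  rintro u hu ⟨m, hm⟩ g hg
  have h0 : (u ^ m) ^ p = 1 := by rw [← pow_mul, mul_comm, ← hm, pow_orderOf_eq_one]
  have h1 : g⁻¹ * u ^ m * g⁻¹⁻¹ = (g⁻¹ * u * g) ^ m := by rw [← conj_pow, inv_inv]
  refine inv_mem_iff.1 (ti_iff.1 (ti_of_prime hY) g⁻¹ _ (mem_of_order h hY h0 (pow_mem hu m)) (fun e => ?_)
    (mem_of_order h hY (by rw [conj_pow, h0, mul_one, mul_inv_cancel]) (h1 ▸ pow_mem hg m)))
  have h2 := orderOf_pos u
  have h3 := Nat.le_of_dvd (Nat.pos_of_ne_zero fun e => by simp [e, h2.ne'] at hm) (orderOf_dvd_of_pow_eq_one e)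
  have h4 := (Fact.out : p.Prime).two_le
  nlinarith only [hm, h2, h3, h4]

/-- **a cyclic `p`-group over a group with a cyclic Sylow subgroup** -/
theorem kk_cyclic {L : Subgroup G} [L.Normal] {g : G} (hg : ∀ x : G, ∃ k : ℕ, x * (g ^ k)⁻¹ ∈ L) {k : ℕ}
    (hk : g ^ p ^ k ∈ L) {P : Sylow p L} (hP : IsCyclic (P : Subgroup L)) {Y : Subgroup G} (hY : Nat.card Y = p)
    (hYL : Y ≤ L) (hn : g ∈ normalizer (Y : Set G)) {Z : Subgroup G} (hZ : Z ≤ center G) (hZL : Z ≤ L)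
    (ho : ¬ p ∣ Nat.card Z) (l : G → ℂ) : kk p ⊤ Z l = kk p (normalizer (Y : Set G)) Z l := by
  have h1 : ∀ x ∈ normalizer (Y : Set G), ∃ k : ℕ, x * (g ^ k)⁻¹ ∈ normalizer (Y : Set G) ⊓ L := fun x hx =>
    (hg x).imp fun k hk => mem_inf.2 ⟨mul_mem hx (inv_mem (pow_mem hn k)), hk⟩
  have h2 : normalizer (Y : Set G) ≤ normalizer ((normalizer (Y : Set G) ⊓ L : Subgroup G) : Set G) := fun x hx =>
    mem_normalizer_fintype fun y hy => (mem_inf.2
      ⟨mul_mem (mul_mem hx (mem_inf.1 hy).1) (inv_mem hx), ‹L.Normal›.conj_mem _ (mem_inf.1 hy).2 x⟩ :)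
  have h3 : (normalizer (Y : Set G) ⊓ L).relIndex (normalizer (Y : Set G)) = L.index :=
    Nat.dvd_antisymm ((pow_mem_rel inf_le_left h2 hn h1 _).1 (mem_inf.2 ⟨pow_mem hn _, (pow_mem_iff hg le_rfl _).2 dvd_rfl⟩))
      ((pow_mem_iff hg le_rfl _).1 (mem_inf.1 ((pow_mem_rel inf_le_left h2 hn h1 _).2 dvd_rfl)).2)
  rw [kk_pcyc_top hg hk hZ hZL, kk_pcyc inf_le_left h2 hn h1 (mem_inf.2 ⟨pow_mem hn _, hk⟩)
    (fun z hz u _ => mem_center_iff.1 (hZ hz) u) (le_inf (hZ.trans (center_le_normalizer _)) hZL), h3]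
  have h4 : Nat.card (Y.subgroupOf L) = p := (Nat.card_congr (subgroupOfEquivOfLe hYL).toEquiv).trans hY
  obtain ⟨Q, hQ⟩ := (IsPGroup.of_card (h4.trans (pow_one p).symm)).exists_le_sylow
  have h5 : normalizer ((Y.subgroupOf L : Subgroup L) : Set L) = (normalizer (Y : Set G) ⊓ L).subgroupOf L := by
    rw [← subgroupOf_normalizer_eq hYL, inf_subgroupOf_right]
  have h6 : ∀ x : L, MulAut.conjNormal g x ∈ (normalizer (Y : Set G) ⊓ L).subgroupOf L ↔
      x ∈ (normalizer (Y : Set G) ⊓ L).subgroupOf L := fun x => (mem_normalizer_iff.1 (h2 hn) x).symm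
  have h7 := fix_cyc Q (cyc_sylow hP Q) (fun e => (Fact.out : p.Prime).ne_one (by
      rw [← h4, card_eq_one, eq_bot_iff, ← e]
      exact hQ)) (h5 ▸ H641.normalizer_le_of_isCyclic (cyc_sylow hP Q) hQ) (h5 ▸ strong hP h4) (Z := Z.subgroupOf L)
    (fun z hz => mem_center_iff.2 fun u => Subtype.ext (mem_center_iff.1 (hZ hz) u))
    (by rwa [Nat.card_congr (subgroupOfEquivOfLe hZL).toEquiv]) (fun u => l u) (β := MK.T.res _ _ h6) (fun _ => rfl)
    (k := k) (t := ⟨⟨_, hk⟩, mem_inf.2 ⟨pow_mem hn _, hk⟩⟩) (by rw [← map_pow, ← MulAut.conjNormal_val])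
  refine congrArg _ ((Eq.trans ?_ h7).trans ?_)
  · exact card_iff fun ψ _ => and_congr ⟨fun h z hz => h z hz, fun h z hz => h z hz⟩
      ⟨fun h y => h _ _ rfl, fun h y y' e => (congrArg ψ (Subtype.ext e)).trans (h y)⟩
  · refine card_congr (subgroupOfEquivOfLe inf_le_right) fun ψ _ => and_congr
      ⟨fun h z hz => h ((subgroupOfEquivOfLe inf_le_right).symm z) hz, fun h z hz => h (subgroupOfEquivOfLe inf_le_right z) hz⟩
      ⟨fun h y y' e => (congrArg ψ (Subtype.ext e)).trans (h ((subgroupOfEquivOfLe inf_le_right).symm y)),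
        fun h y => h _ _ rfl⟩

variable {X : Type} [Group X]

theorem mem_center (h : IsQuasisimple X) {y : X} (hn : (zpowers y).Normal) : y ∈ center X := by
  have := h.2
  rcases (hn.map (QuotientGroup.mk' (center X)) (QuotientGroup.mk'_surjective _)).eq_bot_or_eq_top with e | e
  · exact (QuotientGroup.eq_one_iff y).1 (e.le ⟨y, mem_zpowers y, rfl⟩)
  · rw [MonoidHom.map_zpowers] at e
    have : IsCyclic (X ⧸ center X) := ⟨_, fun x => e.ge (mem_top x)⟩
    exact mem_center_iff.2 fun g => ((QuotientGroup.mk' (center X)).isMulCommutative_of_isCyclic_of_ker_le_center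
      (QuotientGroup.ker_mk' _).le).is_comm.comm g y

variable (p) in
/-- `Γ / Inn X` is a `p'`-group extended by a cyclic `p`-group -/
def PC (Γ : Subgroup (MulAut X)) : Prop :=
  ∃ (Λ : Subgroup (MulAut X)) (γ : MulAut X) (k : ℕ), Inn X ≤ Λ ∧ Λ ≤ Γ ∧ ¬ p ∣ (Inn X).relIndex Λ ∧
    (∀ α ∈ Γ, ∀ β ∈ Λ, α * β * α⁻¹ ∈ Λ) ∧ γ ∈ Γ ∧ γ ^ p ^ k ∈ Λ ∧ ∀ α ∈ Γ, ∃ j : ℕ, α * (γ ^ j)⁻¹ ∈ Λ

/-- **cyclic Sylow subgroups, one component** -/
theorem one_of_cyc [Finite X] {Γ : Subgroup (MulAut X)} (s : Sit p X Γ) (Q : Sylow p X) (hQ : IsCyclic (Q : Subgroup X))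
    (h : PC p Γ) : One p X Γ := by
  obtain ⟨Λ, γ, k, h1, h2, h3, h4, h5, h6, h7⟩ := h
  refine one_of_sub s fun G _ _ Z c l _ => ?_
  have := range_normal c
  have : (Λ.comap c.a).Normal := ⟨fun g hg b => by
    rw [mem_comap, map_mul, map_mul, map_inv]
    exact h4 _ (c.mem b) _ hg⟩
  have h8 : Z ⊔ c.e.range ≤ Λ.comap c.a := comap_inn c ▸ comap_mono h1
  obtain ⟨y, hy⟩ := exists_prime_orderOf_dvd_card' (G := Q) p (Q.dvd_card_of_dvd_card s.dvd)
  have hY : Nat.card ((zpowers (y : X)).map c.e) = p := by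
    rw [card_map_of_injective c.inj, Nat.card_zpowers, orderOf_coe, hy]
  have hYQ : (zpowers (y : X)).map c.e ≤ (Q : Subgroup X).map c.e := map_mono (zpowers_le.2 y.2)
  have hc : IsCyclic ((Q : Subgroup X).map c.e) := (equivMapOfInjective _ _ c.inj).isCyclic.1 hQ
  have hN := H641.normalizer_le_of_isCyclic hc hYQ
  have h9 : ¬ p ∣ ((Q : Subgroup X).map c.e).relIndex c.e.range := by
    rw [MonoidHom.range_eq_map, relIndex_map_map_of_injective _ _ c.inj, relIndex_top_right]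
    exact Q.not_dvd_index
  obtain ⟨P, hP⟩ := (Q.isPGroup'.map c.e).exists_le_sylow
  obtain ⟨R, hR⟩ := exists_sylow (P := ((Q : Subgroup X).map c.e).subgroupOf c.e.range)
    (Q.isPGroup'.map c.e).comap_subtype h9
  have h10 : (P : Subgroup G) ⊓ c.e.range = (Q : Subgroup X).map c.e := by
    rw [← map_subgroupOf_eq_of_le (map_le_range c.e _), ← hR,
      ← R.is_maximal' (P.isPGroup'.comap_subtype (K := c.e.range)) (hR ▸ comap_mono hP)]
    exact (subgroupOf_map_subtype _ _).symm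
  obtain ⟨g, hg, n, hn, e⟩ : ∃ g ∈ normalizer (((Q : Subgroup X).map c.e : Subgroup G) : Set G), ∃ n ∈ c.e.range,
      g * n = (c.onto h5).choose := by
    have h11 := R.normalizer_sup_eq_top
    rw [hR, map_subgroupOf_eq_of_le (map_le_range c.e _)] at h11
    have h12 := h11.ge (mem_top (c.onto h5).choose)
    rwa [← SetLike.mem_coe, mul_normal] at h12
  have h12 : ∀ j : ℕ, g ^ j * ((c.onto h5).choose ^ j)⁻¹ ∈ Λ.comap c.a := fun j => by
    rw [← div_eq_mul_inv, ← QuotientGroup.eq_iff_div_mem, QuotientGroup.mk_pow, QuotientGroup.mk_pow, ← e,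
      QuotientGroup.mk_mul_of_mem g (h8 (mem_sup_right hn))]
  obtain ⟨S, hS⟩ := exists_sylow (P := ((Q : Subgroup X).map c.e).subgroupOf (Λ.comap c.a))
    (Q.isPGroup'.map c.e).comap_subtype (by
      change ¬ p ∣ relIndex _ _
      rw [← relIndex_mul_relIndex _ _ _ (map_le_range c.e _) (le_sup_right.trans h8),
        ← relIndex_mul_relIndex _ _ _ le_sup_right h8, relIndex_sup_right, ← comap_inn c, relIndex_comap,
        map_comap_eq_self (h2.trans c.rng.ge)]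
      exact nd_mul' h9 (nd_mul' (nd_of_dvd c.cop (relIndex_dvd_card _ _)) h3))
  refine ⟨P, _, fun e => s.cop ?_, fun x hx => hN (h10 ▸ mem_normalizer_fintype fun z hz => ?_),
    kk_cyclic (L := Λ.comap c.a) (g := g) (fun x => (h7 _ (c.mem x)).imp fun j hj => ?_) (k := k) ?_ (P := S)
      (hS ▸ (subgroupOfEquivOfLe ((map_le_range _ _).trans (le_sup_right.trans h8))).isCyclic.2 hc) hY
      ((map_le_range _ _).trans (le_sup_right.trans h8)) (hN hg) c.cen (le_sup_left.trans h8) c.cop l⟩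
  · refine hy ▸ orderOf_coe y ▸ orderOf_dvd_natCard _ (mem_center s.qs ⟨fun n hn x => ?_⟩)
    obtain ⟨m, hm, h11⟩ := (mem_normalizer_iff.1 (e.ge (mem_top (c.e x))) _).1 ⟨n, hn, rfl⟩
    rw [← map_mul, ← map_inv, ← map_mul] at h11
    exact c.inj h11 ▸ hm
  · exact (mem_inf.2 ⟨(mem_normalizer_iff.1 hx z).1 (mem_inf.1 hz).1, ‹c.e.range.Normal›.conj_mem _ (mem_inf.1 hz).2 x⟩ :)
  · have h13 := mul_mem (show x * ((c.onto h5).choose ^ j)⁻¹ ∈ Λ.comap c.a by
      rwa [mem_comap, map_mul, map_inv, map_pow, (c.onto h5).choose_spec]) (inv_mem (h12 j))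
    rwa [mul_inv_rev, inv_inv, mul_assoc, inv_mul_cancel_left] at h13
  · have h13 := mul_mem (h12 (p ^ k)) (show (c.onto h5).choose ^ p ^ k ∈ Λ.comap c.a by
      rwa [mem_comap, map_pow, (c.onto h5).choose_spec])
    rwa [inv_mul_cancel_right] at h13

end Cfsg.Agent.MO.TI
end

-- part: MO/W/Dom
section
/-!
# MO-W: the integral form is a polynomial ring (helper18)

* `eta` : the complete symmetric functions are algebraically independent and generate `HS`;
* `Mu s` : the multiples of `s` in `HS`; `not_dvd_subE` : a labelled product stays prime to `s` under a substitution in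
  which each colour has a constituent of multiplicity one;
* `subE_mem` : the substituted products lie in the span of the labelled products.
-/

set_option autoImplicit false
set_option linter.unusedSectionVars false

namespace Cfsg.Agent.MO.W

open Cfsg Equiv Finset MvPolynomial Cfsg.Agent.H614 Cfsg.Agent.H614.GLn Cfsg.Agent.Characters.Core
open Cfsg.Agent.OddOrderCharacters.VChar
open Cfsg.Agent.H577.GLB.Std (bsz)
open Cfsg.Agent.H421.GLn (newt newt_unique)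

section newton

variable {A : Type} [CommRing A] [Algebra ℂ A]

/-- the power sums in terms of the complete symmetric functions `H j = h (j + 1)` -/
noncomputable def Nw (H : ℕ → A) : ℕ → A
  | 0 => 0
  | j + 1 => ((j + 1 : ℕ) : A) * H j - ∑ r : Fin j, Nw H (r + 1) * H (j - 1 - r)
decreasing_by omega

theorem hh_Nw (H : ℕ → A) (j : ℕ) : hh (Nw H) (j + 1) = H j := by
  rw [hh_newt]
  refine (newt_unique (N := j + 1) (h := fun n => Nat.casesOn (motive := fun _ => A) n 1 H) rfl (fun n _ => ?_) (j + 1) le_rfl).symm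
  obtain _ | n := n
  · simp only [_root_.Nat.cast_zero, _root_.Nat.rec_zero, _root_.mul_one, _root_.Finset.range_zero, _root_.zero_tsub, _root_.Finset.sum_empty]
  · rw [Finset.sum_range_succ, Nat.add_sub_cancel, Nat.sub_self, Nw, Finset.sum_range]
    have h : ∀ r : Fin n, n - (r : ℕ) = n - 1 - r + 1 := fun r => by omega
    simp only [h, _root_.Nat.cast_add, _root_.Nat.cast_one, _root_.Nat.rec_zero, _root_.mul_one, _root_.add_sub_cancel]

end newton

variable {I J L : Type} {m : ℕ}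

variable (I) in
/-- the polynomials in the complete symmetric functions -/
noncomputable def eta : MvPolynomial (ℕ × I) ℤ →+* R I :=
  eval₂Hom (Int.castRingHom _) fun v => hh (PP v.2) (v.1 + 1)

theorem eta_injective : Function.Injective (eta I) := by
  let ψ : R I →ₐ[ℂ] R I := aeval fun v => Nw (PP v.2) v.1
  have h : (ψ : R I →+* R I).comp (eta I) = MvPolynomial.map (Int.castRingHom ℂ) := by
    refine ringHom_ext (fun r => by simp) fun v => ?_
    simp only [eta, RingHom.comp_apply, eval₂Hom_X', RingHom.coe_coe, map_hh, PP, ψ, aeval_X, map_X]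
    exact hh_Nw _ _
  refine Function.Injective.of_comp (f := ψ) ?_
  rw [show (ψ : R I → R I) ∘ eta I = MvPolynomial.map (Int.castRingHom ℂ) from congrArg DFunLike.coe h]
  exact _root_.MvPolynomial.map_injective _ Int.cast_injective

theorem HS_eq : HS I = (eta I).range := by
  refine le_antisymm (Subring.closure_le.2 ?_) ?_
  · rintro _ ⟨⟨_ | n, c⟩, rfl⟩
    · exact ⟨1, by simp [hh_zero]⟩
    · exact ⟨X (n, c), eval₂Hom_X' _ _ _⟩
  · rintro _ ⟨F, rfl⟩
    induction F using MvPolynomial.induction_on with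
    | C a => simp
    | add p q hp hq => exact map_add (eta I) p q ▸ add_mem hp hq
    | mul_X p v hp => exact map_mul (eta I) p _ ▸ mul_mem hp (by simpa [eta] using PP_good v.2 _)

/-- the multiples of `s` -/
noncomputable def Mu (I : Type) (s : ℕ) : AddSubgroup (R I) :=
  (HS I).toAddSubgroup.map (AddMonoidHom.mulLeft (s : R I))

theorem mem_Mu {s : ℕ} {f : R I} : f ∈ Mu I s ↔ ∃ g ∈ HS I, (s : R I) * g = f := Iff.rfl

theorem smul_mem_Mu {s : ℕ} {f : R I} (hf : f ∈ HS I) {a : ℂ} (h : ∃ k : ℤ, a = s * k) : a • f ∈ Mu I s := by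
  obtain ⟨k, rfl⟩ := h
  refine ⟨k • f, zsmul_mem hf k, ?_⟩
  rw [mul_smul, Int.cast_smul_eq_zsmul, Nat.cast_smul_eq_nsmul, nsmul_eq_mul]
  rfl

theorem prime_Mu {s : ℕ} (hs : s.Prime) {α : Type} (T : Finset α) {f : α → R I} (hf : ∀ a, f a ∈ HS I)
    (h : ∏ a ∈ T, f a ∈ Mu I s) : ∃ a ∈ T, f a ∈ Mu I s := by
  simp only [mem_Mu, HS_eq] at hf h ⊢
  choose F hF using hf
  obtain ⟨_, ⟨G, rfl⟩, h⟩ := h
  have h1 : C (s : ℤ) * G = ∏ a ∈ T, F a := eta_injective (by simpa only [hF, _root_.map_natCast, _root_.map_mul, _root_.map_prod] using h)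
  obtain ⟨a, ha, G', h2⟩ := ((prime_C_iff (ℕ × I)).2 (Nat.prime_iff_prime_int.1 hs)).exists_mem_finset_dvd ⟨G, h1.symm⟩
  exact ⟨a, ha, _, ⟨G', rfl⟩, by simp [← hF, h2]⟩

variable [Fintype I] [Fintype J] [Fintype L]

seal _root_.Finset.sum _root_.Finset.image _root_.Finsupp.sum in
theorem subE_HS (ε : I → ℤˣ) (n : I → J → ℤ) {f : R I} (hf : f ∈ HS I) : subE ε n f ∈ HS J := by
  refine (Subring.closure_le (t := (HS J).comap (subE ε n : R I →+* R J))).2 ?_ hf
  rintro _ ⟨v, rfl⟩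
  change subE ε n (hh _ _) ∈ HS J
  rw [map_hh]
  simpa only [PP, subE, sub_X] using lin_good (ε v.2) (n v.2) v.1

theorem subE_Mu (ε : I → ℤˣ) (n : I → J → ℤ) {s : ℕ} {f : R I} (hf : f ∈ Mu I s) : subE ε n f ∈ Mu J s := by
  obtain ⟨g, hg, rfl⟩ := mem_Mu.1 hf
  exact ⟨_, subE_HS ε n hg, by simp⟩

theorem subE_subE (ε : I → ℤˣ) (n : I → J → ℤ) (n' : J → L → ℤ) (f : R I) :
    subE 1 n' (subE ε n f) = subE ε (fun c k => ∑ i, n c i * n' i k) f := by
  refine DFunLike.congr_fun (show (subE 1 n').comp (subE ε n) = _ from algHom_ext fun v => ?_) f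
  simp only [AlgHom.comp_apply, subE, sub_X, lin, map_sum, map_smul, Finset.smul_sum, smul_smul]
  rw [Finset.sum_comm]
  refine Finset.sum_congr rfl fun k _ => ?_
  simp only [← Finset.sum_smul, Finset.mul_sum, mul_assoc, _root_.Units.val_pow_eq_pow_val, _root_.Int.cast_pow, _root_.Pi.one_apply, _root_.one_pow, _root_.Units.val_one, _root_.Int.cast_one, _root_.one_mul, _root_.Int.cast_sum, _root_.Int.cast_mul]

theorem S_mem {t : I → Fin m → ℕ} (ht : ∀ c, StrictMono (t c)) : S t ∈ HS I :=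
  Subring.prod_mem _ fun c _ => SS_mem (PP_good c) (sum_eq_bsz (ht c))

theorem irr_eq_one {G : Type} [Group G] [Subsingleton G] {χ : G → ℂ} (h : IsIrrCharacter G χ) : χ = 1 := by
  have := Fintype.ofSubsingleton (1 : G)
  by_contra h1
  have h2 := classInner_irr_ne h isIrr_one h1
  rw [classInner_def, Fintype.sum_subsingleton _ 1] at h2
  simp [isIrr_apply_one_ne_zero h] at h2

theorem enum_unit : Enum fun _ : Unit => (1 : Unit → ℂ) :=
  ⟨fun _ => isIrr_one, fun _ _ _ => rfl, fun _ h => ⟨(), (irr_eq_one h).symm⟩⟩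

theorem not_dvd_one {s : ℕ} (hs : s.Prime) (ε : ℤˣ) {β : Fin m → ℕ} (h : StrictMono β) :
    subE (fun _ : Unit => ε) (fun _ (_ : Unit) => 1) (S fun _ => β) ∉ Mu Unit s := by
  rintro ⟨g, hg, h1⟩
  have := Fintype.ofFinite (Wr Unit (Fin (bsz β)))
  have ht : Lb (Fintype.card (Fin (bsz β))) fun _ : Unit => β := ⟨fun _ => h, by simp only [_root_.Finset.univ_unique, _root_.PUnit.default_eq_unit, _root_.Finset.sum_const, _root_.Finset.card_singleton, _root_.smul_eq_mul, _root_.one_mul, _root_.Fintype.card_fin]⟩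
  have h2 := irr_psi enum_unit (fun _ => ε) ht
  obtain ⟨k, hk⟩ := gen_inner (gen_HS (ι := Fin (bsz β)) (fun c => isIrr_isCharacter (enum_unit.irr c)) hg)
    (gen_of_irr h2)
  have h3 : (psi (fun _ : Unit => (1 : Unit → ℂ)) (fun _ => ε) (fun _ => β) : Wr Unit (Fin (bsz β)) → ℂ) =
      (s : ℂ) • fun x => bil g (chW (u0 fun _ : Unit => (1 : Unit → ℂ)) x) := _root_.funext fun x => by
    rw [psi_eq_sub (κ' := fun _ : Unit => (1 : Unit → ℂ)) (n := fun _ _ => 1) (by simp) _ ht.1, ← h1]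
    simp [← nsmul_eq_mul]
  have h4 := classInner_irr_self h2
  nth_rewrite 1 [h3] at h4
  rw [classInner_smul_left, hk] at h4
  exact hs.one_lt.ne' (Nat.dvd_one.1 (Int.natCast_dvd_natCast.1 ⟨k, by exact_mod_cast h4.symm⟩))

/-- **Not divisible by `s`.** -/
theorem not_dvd_subE {s : ℕ} (hs : s.Prime) (ε : I → ℤˣ) {n : I → J → ℤ} (hn : ∀ c, ∃ j, n c j = 1)
    {t : I → Fin m → ℕ} (ht : ∀ c, StrictMono (t c)) : subE ε n (S t) ∉ Mu J s := by
  classical
  intro h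
  rw [S, Sp, map_prod] at h
  obtain ⟨c, -, hc⟩ := prime_Mu hs _ (fun c => subE_SS ε n c (ht c)) h
  obtain ⟨j, hj⟩ := hn c
  have h1 := subE_Mu 1 (fun i (_ : Unit) => if i = j then 1 else 0) hc
  refine not_dvd_one hs (ε c) (ht c) ?_
  convert h1 using 1
  rw [subE_subE, S, Sp, Fintype.prod_unique, map_SS, map_SS]
  simp only [PP, subE, sub_X, hj, _root_.Units.val_pow_eq_pow_val, _root_.Int.cast_pow, _root_.Int.cast_one, _root_.mul_one, _root_.PUnit.default_eq_unit, _root_.mul_ite, _root_.MulZeroClass.mul_zero, _root_.Finset.sum_ite_eq', _root_.Finset.mem_univ, ↓ _root_.reduceIte]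

/-- the span of the monomials of weight `n` -/
noncomputable def GG (I : Type) [Fintype I] (n : ℕ) : Submodule ℂ (R I) :=
  Submodule.span ℂ {f | ∃ s : I → Multiset ℕ, (∀ c, ∀ j ∈ s c, 0 < j) ∧ ∑ c, (s c).sum = n ∧ mono s = f}

theorem GG_le {n : ℕ} (h : n ≤ m) : GG I n ≤ SL I m n :=
  Submodule.span_le.2 (by rintro _ ⟨s, h1, h2, rfl⟩; exact mono_mem h h1 h2)

theorem GG_hm {n : ℕ} {f : R I} (h : f ∈ GG I n) : Hm n f := by
  refine (Submodule.span_le (p := weightedHomogeneousSubmodule ℂ _ n)).2 ?_ h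
  rintro _ ⟨s, -, rfl, rfl⟩
  exact IsWeightedHomogeneous.prod _ _ _ fun c _ => hm_map c _

theorem GG_one : (1 : R I) ∈ GG I 0 := Submodule.subset_span ⟨0, by simp, by simp only [_root_.Pi.zero_apply, _root_.Multiset.sum_zero, _root_.Finset.sum_const_zero], by simp only [mono, _root_.Pi.zero_apply, _root_.Multiset.map_zero, _root_.Multiset.prod_zero, _root_.Finset.prod_const_one]⟩

theorem GG_mul {a b : ℕ} {f g : R I} (hf : f ∈ GG I a) (hg : g ∈ GG I b) : f * g ∈ GG I (a + b) := by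
  have h := Submodule.mul_mem_mul hf hg
  rw [GG, GG, Submodule.span_mul_span] at h
  refine Submodule.span_mono ?_ h
  rintro _ ⟨_, ⟨s, h1, rfl, rfl⟩, _, ⟨s', h2, rfl, rfl⟩, rfl⟩
  refine ⟨s + s', fun c j hj => (Multiset.mem_add.1 hj).elim (h1 c j) (h2 c j), ?_, ?_⟩
  · simp only [Finset.sum_add_distrib, _root_.Pi.add_apply, _root_.Multiset.sum_add, _root_.Nat.add_left_cancel_iff]
  · simp only [mono, Finset.prod_mul_distrib, _root_.Pi.add_apply, _root_.Multiset.map_add, _root_.Multiset.prod_add]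

theorem GG_lin {j : ℕ} (hj : 0 < j) (u : I → ℂ) : lin j u ∈ GG I j := by
  classical
  refine Submodule.sum_mem _ fun c _ => Submodule.smul_mem _ _ (Submodule.subset_span
    ⟨Pi.single c {j}, fun c' i hi => ?_, ?_, ?_⟩)
  · rw [Pi.single_apply] at hi
    split_ifs at hi <;> simp_all only [_root_.Finset.mem_univ, _root_.Multiset.mem_singleton, _root_.Multiset.notMem_zero]
  · simp only [Pi.single_apply, apply_ite Multiset.sum, _root_.Multiset.sum_singleton, _root_.Multiset.sum_zero, _root_.Finset.sum_ite_eq', _root_.Finset.mem_univ, ↓ _root_.reduceIte]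
  · rw [mono, Finset.prod_eq_single c (fun c' _ h => by simp [h]) (by simp only [_root_.Finset.mem_univ, _root_.not_true_eq_false, _root_.Pi.single_eq_same, _root_.Multiset.map_singleton, _root_.Multiset.prod_singleton, _root_.IsEmpty.forall_iff])]
    simp [PP]

theorem GG_SS {P : ℕ → R I} (hP : ∀ j, 0 < j → P j ∈ GG I j) (k : ℕ) (β : Fin m → ℕ) : SS P k β ∈ GG I k := by
  unfold SS ZV
  refine Submodule.sum_mem _ fun ν _ => Submodule.smul_mem _ _ (Submodule.smul_mem _ _ ?_)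
  have h : ∀ s : Multiset ℕ, (∀ j ∈ s, 0 < j) → (s.map P).prod ∈ GG I s.sum := fun s => by
    induction s using Multiset.induction_on with
    | empty => simpa only [_root_.Multiset.notMem_zero, _root_.IsEmpty.forall_iff, _root_.implies_true, _root_.Multiset.sum_zero, _root_.Multiset.map_zero, _root_.Multiset.prod_zero, _root_.forall_const] using GG_one
    | cons a s ih =>
      intro h
      rw [Multiset.map_cons, Multiset.prod_cons, Multiset.sum_cons]
      exact GG_mul (hP a (h a (Multiset.mem_cons_self _ _))) (ih fun j hj => h j (Multiset.mem_cons_of_mem hj))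
  simpa only [ν.parts_sum] using h ν.parts fun j hj => ν.parts_pos hj

theorem subE_mem (ε : I → ℤˣ) (n : I → J → ℤ) (t : I → Fin m → ℕ) : subE ε n (S t) ∈ GG J (∑ c, bsz (t c)) := by
  classical
  rw [S, Sp, map_prod]
  generalize (univ : Finset I) = T
  induction T using Finset.induction_on with
  | empty => simpa only [_root_.Finset.sum_empty, _root_.Finset.prod_empty] using GG_one
  | insert c T hc ih =>
    rw [Finset.prod_insert hc, Finset.sum_insert hc, map_SS]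
    exact GG_mul (GG_SS (fun j hj => by simpa only [PP, subE, sub_X] using GG_lin hj _) _ _) ih

end Cfsg.Agent.MO.W
end

-- part: MO/W/Prim
section
/-!
# MO-W: restrictions which are not divisible by a prime (helper18)

`wPrimE : WPrimE`, `wPrim2E : WPrim2E` : the boxes `WPrim`, `WPrim2` for an enumeration `κ` of the irreducible characters.
-/

set_option autoImplicit false
set_option linter.unusedSectionVars false

namespace Cfsg.Agent.MO.W

open Cfsg Equiv Finset MvPolynomial Cfsg.Agent.H614 Cfsg.Agent.H614.GLn Cfsg.Agent.Characters.Core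
open Cfsg.Agent.OddOrderCharacters
open Cfsg.Agent.H577.GLB.Std (bsz)
open scoped ComplexConjugate

/-- the restriction to `K' ≀ Perm ι` is not divisible by `s` -/
def WPrimE : Prop :=
  ∀ (K K' ι I : Type) [Group K] [Finite K] [Group K'] [Fintype K'] [Fintype ι] [Fintype I] [DecidableEq I]
    (κ : I → K → ℂ) (ε : I → ℤˣ) (m : ℕ) (t : I → Fin m → ℕ) (r : K' →* K) (s : ℕ), s.Prime →
    Enum κ → Lb (Fintype.card ι) t →
    (∀ c, ∃ β, IsIrrCharacter K' β ∧ classInner (fun g => κ c (r g)) β = 1) →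
    Prim s (Wr K' ι) fun x => psi κ ε t (mapW ι r x)

/-- the restriction to the subgroup of index two of `K' ≀ Perm ι` given by `δ` and the sign is not divisible by `s` -/
def WPrim2E : Prop :=
  ∀ (K K' ι I : Type) [Group K] [Finite K] [Group K'] [Fintype K'] [Fintype ι] [DecidableEq ι] [Fintype I]
    [DecidableEq I] (κ : I → K → ℂ) (ε : I → ℤˣ) (m : ℕ) (t : I → Fin m → ℕ) (r : K' →* K) (s : ℕ) (δ : K' →* ℤˣ)
    (z : K'), s.Prime → Enum κ → Lb (Fintype.card ι) t →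
    (∀ c, ∃ β, IsIrrCharacter K' β ∧ classInner (fun g => κ c (r g)) β = 1) →
    z ∈ Subgroup.center K' → δ z = -1 → (∀ c, κ c (r z) = κ c 1 ∨ κ c (r z) = - κ c 1) → z * z = 1 →
    Prim s (linW ι δ * sgW K' ι).ker fun x => psi κ ε t (mapW ι r (x : Wr K' ι))

section chars

variable {G : Type} [Group G] {s : ℕ}

theorem dvd_of_not [Fintype G] {f : G → ℂ} (hf : IsCharacter G f)
    (h : ¬ ∃ (β : G → ℂ) (n : ℕ), IsIrrCharacter G β ∧ classInner f β = n ∧ ¬ s ∣ n) {β : G → ℂ}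
    (hβ : IsCharacter G β) : ∃ k : ℤ, classInner f β = s * k := by
  have := finite_irr (G := G)
  have := Fintype.ofFinite (IrrCharacter G)
  obtain ⟨a, rfl⟩ := exists_nat_comb hβ
  have h1 : ∀ θ : IrrCharacter G, ∃ k : ℕ, classInner f θ = s * k := fun θ => by
    obtain ⟨n, hn⟩ := classInner_isNat hf (isIrr_isCharacter θ.2)
    obtain ⟨k, rfl⟩ : s ∣ n := by_contra fun h2 => h ⟨θ, n, θ.2, hn, h2⟩
    exact ⟨k, by rw [hn, Nat.cast_mul]⟩
  choose k hk using h1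
  refine ⟨∑ θ, a θ * k θ, ?_⟩
  simp only [classInner_sum_right, ← Nat.cast_smul_eq_nsmul ℂ, classInner_smul_right, hk, map_natCast]
  push_cast
  rw [Finset.mul_sum]
  exact Finset.sum_congr rfl fun θ _ => by ring

theorem inner_ker [Fintype G] (τ : G →* ℤˣ) [Fintype τ.ker] (h2 : τ.ker.index = 2) (f g : G → ℂ) :
    classInner (fun x : τ.ker => f x) (fun x : τ.ker => g x) =
      classInner f g + classInner f fun x => g x * ((τ x : ℤ) : ℂ) := by
  classical
  rw [classInner_def, classInner_def, classInner_def, ← mul_add, ← Finset.sum_add_distrib,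
    ← Finset.sum_subtype (univ.filter fun x => x ∈ τ.ker) (by simp) fun x => f x * conj (g x), Finset.sum_filter,
    ← Subgroup.card_mul_index τ.ker, h2, Nat.cast_mul, mul_inv, mul_assoc, Finset.mul_sum univ _ ((2 : ℕ) : ℂ)⁻¹]
  refine congrArg _ (Finset.sum_congr rfl fun x _ => ?_)
  rcases Int.units_eq_one_or (τ x) with h | h <;> simp only [MonoidHom.mem_ker, h, ↓ _root_.reduceIte, _root_.Nat.cast_ofNat, _root_.Units.val_one, _root_.Int.cast_one, _root_.mul_one, _root_.neg_units_ne_self, _root_.Units.val_neg, _root_.Int.reduceNeg, _root_.Int.cast_neg, _root_.mul_neg, _root_.map_neg, _root_.add_neg_cancel, _root_.MulZeroClass.mul_zero]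
  ring

theorem index_two (τ : G →* ℤˣ) {x : G} (hx : τ x = -1) : τ.ker.index = 2 := by
  rw [Subgroup.index_ker, MonoidHom.range_eq_top.2 fun y => ?_, Subgroup.card_top, Nat.card_eq_fintype_card,
    Fintype.card_units_int]
  rcases Int.units_eq_one_or y with rfl | rfl
  exacts [⟨1, map_one τ⟩, ⟨x, hx⟩]

theorem dvd_fixed [Fintype G] (τ : G →* ℤˣ) [Fintype τ.ker] (h2 : τ.ker.index = 2) {f β : G → ℂ}
    (hf : IsCharacter G f) (h : ∀ θ, IsCharacter τ.ker θ → ∃ k : ℤ, classInner (fun x : τ.ker => f x) θ = s * k)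
    (hβ : IsIrrCharacter G β) (hτ : (fun x => β x * ((τ x : ℤ) : ℂ)) = β) : ∃ k : ℤ, classInner f β = s * k := by
  have := finite_irr (G := τ.ker)
  have := Fintype.ofFinite (IrrCharacter τ.ker)
  have := finite_irr (G := G)
  have := Fintype.ofFinite (IrrCharacter G)
  have h1 := inner_ker τ h2 β β
  rw [hτ, classInner_irr_self hβ] at h1
  have hr : IsCharacter τ.ker fun x => β x := isCharacter_comp τ.ker.subtype (isIrr_isCharacter hβ)
  obtain ⟨θ, hθ⟩ : ∃ θ : IrrCharacter τ.ker, classInner (fun x : τ.ker => β x) θ ≠ 0 := by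
    by_contra h3
    push Not at h3
    rw [classInner_eq_sum (isCharacter_isClassFunction hr) (isCharacter_isClassFunction hr)] at h1
    simp only [h3, zero_mul, Finset.sum_const_zero] at h1
    norm_num at h1
  rcases restrict_two τ.ker h2 hβ θ.2 hθ with h3 | ⟨h3, -⟩
  · rw [_root_.funext h3, classInner_irr_self θ.2] at h1
    simp at h1
  · have h4 := IndRes.isCharacter_indFun τ.ker (isIrr_isCharacter θ.2)
    obtain ⟨a, ha⟩ := exists_nat_comb h4
    have h5 : a ⟨β, hβ⟩ ≠ 0 := fun h5 => hθ (by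
      have h6 := classInner_sum_nsmul_irr a ⟨β, hβ⟩
      rw [← ha, h5, IndRes.classInner_indFun_left _ _ (isIrr_isClassFunction hβ), Nat.cast_zero] at h6
      rw [← classInner_conj_symm, show classInner θ.1 (fun x : τ.ker => β x) = 0 from h6, map_zero])
    choose d hd hd1 using fun χ : IrrCharacter G => isIrr_apply_one χ.2
    have h6 : ∑ χ, a χ * d χ = d ⟨β, hβ⟩ := by
      have h7 := congrFun ha 1
      rw [IndRes.indFun_apply_one, h2, Nat.cast_ofNat, ← h3, Finset.sum_apply] at h7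
      simp only [Pi.smul_apply, hd1, nsmul_eq_mul] at h7
      exact_mod_cast h7.symm.trans (hd1 ⟨β, hβ⟩)
    classical
    rw [← Finset.add_sum_erase _ _ (mem_univ ⟨β, hβ⟩)] at h6
    have h7 := Nat.le_mul_of_pos_left (d ⟨β, hβ⟩) (Nat.pos_of_ne_zero h5)
    have h10 : ∑ χ ∈ univ.erase ⟨β, hβ⟩, a χ * d χ = 0 := by omega
    have h8 : a ⟨β, hβ⟩ = 1 := (Nat.mul_eq_right (hd ⟨β, hβ⟩).ne').1 (by omega)
    have h9 : indFun τ.ker θ.1 = β := by
      rw [ha, ← Finset.add_sum_erase _ _ (mem_univ ⟨β, hβ⟩), h8, one_smul, Finset.sum_eq_zero fun χ hχ => ?_, add_zero]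
      rw [(mul_eq_zero.1 (Finset.sum_eq_zero_iff.1 h10 χ hχ)).resolve_right (hd χ).ne', zero_smul]
    rw [← h9, IndRes.classInner_indFun_right _ _ (isCharacter_isClassFunction hf)]
    exact h _ (isIrr_isCharacter θ.2)

theorem exists_sign {z : G} (hz : z ∈ Subgroup.center G) (h2 : z * z = 1) {β : G → ℂ} (hβ : IsIrrCharacter G β) :
    ∃ e : ℤˣ, β z = ((e : ℤ) : ℂ) * β 1 := by
  have h0 := isIrr_apply_one_ne_zero hβ
  obtain ⟨n, ρ, hρ, rfl⟩ := hβ
  obtain ⟨c, hc⟩ := Characters.Central.exists_smul_of_comm ρ hρ (ρ z) fun g => by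
    rw [← map_mul, ← map_mul, Subgroup.mem_center_iff.1 hz]
  have h3 : ρ.character z = c * ρ.character 1 := by
    rw [Representation.character, Representation.character, hc, map_smul, map_one ρ, smul_eq_mul]
  have h4 : ρ.character 1 = c * c * ρ.character 1 := by
    nth_rewrite 1 [← h2]
    rw [Representation.character, Representation.character, map_mul, hc, smul_mul_smul_comm, mul_one, map_smul,
      map_one ρ, smul_eq_mul]
  rcases mul_self_eq_one_iff.1 ((mul_eq_right₀ h0).1 h4.symm) with h | h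
  · exact ⟨1, by simp only [h3, h, _root_.Representation.char_one, _root_.Module.finrank_fintype_fun_eq_card, _root_.Fintype.card_fin, _root_.one_mul, _root_.Units.val_one, _root_.Int.cast_one]⟩
  · exact ⟨-1, by simp only [h3, h, _root_.Representation.char_one, _root_.Module.finrank_fintype_fun_eq_card, _root_.Fintype.card_fin, _root_.neg_mul, _root_.one_mul, _root_.Units.val_neg, _root_.Units.val_one, _root_.Int.reduceNeg, _root_.Int.cast_neg, _root_.Int.cast_one]⟩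

theorem irr_mul_sign [Finite G] (δ : G →* ℤˣ) {β : G → ℂ} (hβ : IsIrrCharacter G β) :
    IsIrrCharacter G fun g => β g * ((δ g : ℤ) : ℂ) := by
  have := Fintype.ofFinite G
  refine isIrr_of_classInner_self (isCharacter_mul (isIrr_isCharacter hβ) (CharDeep.LinearChar.isCharacter_of_hom
    ((Units.map (Int.castRingHom ℂ : ℤ →* ℂ)).comp δ))) ?_
  rw [← classInner_irr_self hβ, classInner_def, classInner_def]
  refine congrArg _ (Finset.sum_congr rfl fun g _ => ?_)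
  rcases Int.units_eq_one_or (δ g) with h | h <;> simp only [h, _root_.Units.val_one, _root_.Int.cast_one, _root_.mul_one, _root_.Units.val_neg, _root_.Int.reduceNeg, _root_.Int.cast_neg, _root_.mul_neg, _root_.map_neg, _root_.neg_mul, _root_.neg_neg]

theorem enum_val : Enum (Subtype.val : IrrCharacter G → G → ℂ) :=
  ⟨fun c => c.2, Subtype.val_injective, fun χ h => ⟨⟨χ, h⟩, rfl⟩⟩

end chars

variable {K K' ι I J : Type} [Group K] [Group K'] [Fintype I] [DecidableEq I] [Fintype J] [DecidableEq J] {m : ℕ}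

theorem psi_eq_sub' [Finite ι] {κ : I → K → ℂ} {κ' : J → K' → ℂ} {n : I → J → ℤ} (r : K' →* K)
    (h : ∀ c g, κ c (r g) = ∑ i, n c i * κ' i g) {ε ε₁ : I → ℤˣ} {ε' : J → ℤˣ}
    (hε : ∀ c i, n c i ≠ 0 → ε₁ c * ε' i = ε c) {t : I → Fin m → ℕ} (ht : ∀ c, StrictMono (t c)) (x : Wr K' ι) :
    psi κ ε t (mapW ι r x) = bil (subE ε₁ n (S t)) (chW (uE κ' ε') x) := by
  rw [wMap K' K ι I I (fun c g => κ c (r g)) κ ε m t r (Equiv.refl I) (fun _ _ => rfl), subE, bil_sub]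
  refine (psi_eq _ ε ht x).trans (congrArg _ (congrArg (chW · x) (_root_.funext fun j => _root_.funext fun g => _root_.funext fun c => ?_)))
  simp only [uE, h, Finset.mul_sum]
  refine Finset.sum_congr rfl fun i _ => ?_
  by_cases h1 : n c i = 0
  · simp [h1]
  · rw [← hε c i h1, mul_pow]
    push_cast
    ring

theorem exists_mult [Fintype K'] {κ : I → K → ℂ} (hκ : Enum κ) {κ' : J → K' → ℂ} (hκ' : Enum κ') (r : K' →* K) :
    ∃ n : I → J → ℕ, (∀ c i, classInner (fun g => κ c (r g)) (κ' i) = n c i) ∧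
      ∀ c g, κ c (r g) = ∑ i, ((n c i : ℤ) : ℂ) * κ' i g := by
  have h := fun c => isCharacter_comp r (isIrr_isCharacter (hκ.irr c))
  choose n hn using fun c i => classInner_isNat (h c) (isIrr_isCharacter (hκ'.irr i))
  exact ⟨n, hn, fun c g => (hκ'.eq_sum (isCharacter_isClassFunction (h c)) g).trans (by simp only [hn, _root_.Int.cast_natCast])⟩

theorem wPrimE : WPrimE := by
  intro K K' ι I _ _ _ _ _ _ _ κ ε m t r s hs hκ ht h1 _
  classical
  have := finite_irr (G := K')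
  have := Fintype.ofFinite (IrrCharacter K')
  have := Fintype.ofFinite {t : IrrCharacter K' → Fin (Fintype.card ι) → ℕ // Lb (Fintype.card ι) t}
  by_contra h
  obtain ⟨n, hn, hn'⟩ := exists_mult hκ enum_val r
  have h2 := _root_.funext (psi_eq_sub' (ι := ι) r hn' (ε := ε) (ε₁ := ε) (ε' := 1) (fun _ _ _ => mul_one _) ht.1)
  have h3 := ht.2 ▸ subE_mem ε (fun c i => n c i) t
  refine not_dvd_subE hs ε (n := fun c i => n c i) (fun c => ?_) ht.1 ?_
  · obtain ⟨β, hβ, h4⟩ := h1 c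
    exact ⟨⟨β, hβ⟩, by exact_mod_cast (hn c ⟨β, hβ⟩).symm.trans h4⟩
  · rw [eq_sum_of_mem (GG_le le_rfl h3)]
    refine sum_mem fun t' _ => smul_mem_Mu (S_mem t'.2.1) ?_
    rw [bil_comm, ← inner_S enum_val 1 (GG_hm h3) t'.2.1, ← h2]
    exact dvd_of_not (isCharacter_comp (mapW ι r) (isIrr_isCharacter (irr_psi hκ ε ht))) h
      (isIrr_isCharacter (irr_psi enum_val 1 t'.2))

theorem wPrim2E : WPrim2E := by
  intro K K' ι I _ _ _ _ _ _ _ _ κ ε m t r s δ z hs hκ ht h1 hz hδ hκz hzz _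
  classical
  have hψ := isCharacter_comp (mapW ι r) (isIrr_isCharacter (irr_psi hκ ε ht))
  rcases isEmpty_or_nonempty ι with hι | ⟨⟨a₀⟩⟩
  · have : Subsingleton (Wr K ι) := SemidirectProduct.equivProd.subsingleton
    rw [irr_eq_one (irr_psi hκ ε ht)]
    exact ⟨1, 1, isIrr_one, (classInner_irr_self isIrr_one).trans Nat.cast_one.symm, hs.not_dvd_one⟩
  have := finite_irr (G := K')
  have := Fintype.ofFinite (IrrCharacter K')
  have := Fintype.ofFinite {t : IrrCharacter K' → Fin (Fintype.card ι) → ℕ // Lb (Fintype.card ι) t}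
  have := Fintype.ofFinite (Wr K' ι)
  by_contra h
  have hi : (linW ι δ * sgW K' ι).ker.index = 2 :=
    index_two _ (x := SemidirectProduct.inl (Pi.mulSingle a₀ z)) (by
      simp only [linW_apply, sgW_apply, Pi.mulSingle_apply, apply_ite δ, hδ, _root_.MonoidHom.mul_apply, _root_.SemidirectProduct.left_inl, _root_.map_one, _root_.Finset.prod_ite_eq', _root_.Finset.mem_univ, ↓ _root_.reduceIte, _root_.SemidirectProduct.right_inl, _root_.Equiv.Perm.sign_one, _root_.mul_one])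
  have hd := fun θ (hθ : IsCharacter _ θ) =>
    dvd_of_not (isCharacter_comp (linW ι δ * sgW K' ι).ker.subtype hψ) h hθ
  obtain ⟨n, hn, hn'⟩ := exists_mult hκ enum_val r
  choose sg hsg using fun β : IrrCharacter K' => exists_sign hz hzz β.2
  have hinv : Function.Involutive fun β : IrrCharacter K' => (⟨_, irr_mul_sign δ β.2⟩ : IrrCharacter K') :=
    fun β => Subtype.ext (_root_.funext fun g => by rcases Int.units_eq_one_or (δ g) with h | h <;> simp [h])
  let τ : IrrCharacter K' ≃ IrrCharacter K' := hinv.toPerm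
  have hτ : ∀ β g, (τ β).1 g = β.1 g * ((δ g : ℤ) : ℂ) := fun _ _ => rfl
  have hsτ : ∀ β, sg (τ β) = -1 * sg β := fun β => by
    have h2 := hsg (τ β)
    rw [hτ, hτ, hsg, hδ, map_one] at h2
    have h3 : ((sg (τ β) : ℤ) : ℂ) = ((-1 * sg β : ℤˣ) : ℤ) :=
      mul_right_cancel₀ (isIrr_apply_one_ne_zero β.2) (by simpa only [_root_.neg_mul, _root_.one_mul, _root_.Units.val_neg, _root_.Int.cast_neg, _root_.Units.val_one, _root_.Int.cast_one, _root_.mul_one, _root_.Int.reduceNeg, _root_.mul_neg] using h2.symm)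
    exact Units.ext (Int.cast_injective h3)
  obtain ⟨sc, hsc⟩ : ∃ sc : I → ℤˣ, ∀ c, κ c (r z) = ((sc c : ℤ) : ℂ) * κ c 1 :=
    Classical.axiomOfChoice (r := fun c (e : ℤˣ) => κ c (r z) = ((e : ℤ) : ℂ) * κ c 1) fun c =>
      (hκz c).elim (fun h => ⟨1, by simpa using h⟩) fun h => ⟨-1, by simpa using h⟩
  have hns : ∀ c i, n c i ≠ 0 → sg i = sc c := fun c i hi => by
    choose d hd hd1 using fun χ : IrrCharacter K' => isIrr_apply_one χ.2
    have h2 := hsc c
    rw [← map_one r, hn', hn', Finset.mul_sum, ← sub_eq_zero, ← Finset.sum_sub_distrib] at h2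
    simp only [hsg, hd1] at h2
    have h3 : ∑ i, (n c i : ℤ) * d i * (1 - ((sc c * sg i : ℤˣ) : ℤ)) = 0 := by
      refine Int.cast_injective (α := ℂ) ?_
      rw [Int.cast_zero, ← mul_zero (-((sc c : ℤ) : ℂ)), ← h2, Finset.mul_sum, Int.cast_sum]
      refine Finset.sum_congr rfl fun i _ => ?_
      rcases Int.units_eq_one_or (sc c) with h | h <;> simp only [h, _root_.one_mul, _root_.Int.cast_mul, _root_.Int.cast_natCast, _root_.Int.cast_sub, _root_.Int.cast_one, _root_.Units.val_one, _root_.neg_mul, _root_.neg_sub, _root_.Units.val_neg, _root_.sub_neg_eq_add, _root_.Int.cast_add, _root_.Int.reduceNeg, _root_.Int.cast_neg, _root_.neg_neg] <;> ring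
    have h4 := (Finset.sum_eq_zero_iff_of_nonneg fun i _ => mul_nonneg (by (clear * -; positivity)) (by
      rcases Int.units_eq_one_or (sc c * sg i) with h | h <;> simp [h])).1 h3 i (mem_univ i)
    have h5 := (hd i).ne'
    rcases Int.units_eq_one_or (sc c) with h | h <;> rcases Int.units_eq_one_or (sg i) with h' | h' <;> simp_all only [_root_.Int.cast_natCast, _root_.exists_and_left, _root_.not_exists, _root_.not_and, _root_.Decidable.not_not, _root_.Subgroup.coe_subtype, _root_.Subtype.forall, _root_.neg_mul, _root_.one_mul, _root_.ne_eq, _root_.Units.val_one, _root_.Int.cast_one, _root_.Finset.sum_sub_distrib, _root_.mul_one, _root_.sub_self, _root_.MulZeroClass.mul_zero, _root_.mul_neg, _root_.Units.val_neg, _root_.Int.reduceNeg, _root_.sub_neg_eq_add, _root_.Int.reduceAdd, _root_.mul_eq_zero, _root_.Int.natCast_eq_zero, _root_.or_self, _root_.OfNat.ofNat_ne_zero, _root_.Int.cast_neg, _root_.neg_neg]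
  have h2 := _root_.funext (psi_eq_sub' (ι := ι) r hn' (ε := ε) (ε₁ := fun c => ε c * sc c) (ε' := sg) (fun c i hi => by
    rw [hns c i (by exact_mod_cast hi), mul_assoc, Int.units_mul_self, mul_one]) ht.1)
  have h3 := ht.2 ▸ subE_mem (fun c => ε c * sc c) (fun c i => n c i) t
  let ρ : IrrCharacter K' → IrrCharacter K' := fun i => if sg i = 1 then i else τ i
  have hρ : ∀ i, ρ (τ i) = ρ i := fun i => by
    rcases Int.units_eq_one_or (sg i) with h | h <;> simp [ρ, hsτ, h]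
    exact hinv i
  let μ := subE (1 : IrrCharacter K' → ℤˣ) fun i j => if ρ i = j then 1 else 0
  refine not_dvd_subE hs (fun c => ε c * sc c) (n := fun c j => ∑ i, n c i * if ρ i = j then 1 else 0)
    (fun c => ?_) ht.1 ?_
  · obtain ⟨β, hβ, h4⟩ := h1 c
    have h5 : n c ⟨β, hβ⟩ = 1 := by exact_mod_cast (hn c ⟨β, hβ⟩).symm.trans h4
    refine ⟨ρ ⟨β, hβ⟩, ?_⟩
    rw [Finset.sum_eq_single ⟨β, hβ⟩ (fun i _ hi => ?_) fun h => absurd (mem_univ _) h]
    · simp [h5]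
    · by_cases h6 : n c i = 0
      · simp [h6]
      · have h7 := (hns c i h6).trans (hns c ⟨β, hβ⟩ (by omega)).symm
        rw [if_neg, mul_zero]
        simp only [ρ, h7]
        split_ifs
        exacts [hi, τ.injective.ne hi]
  rw [← subE_subE, eq_sum_of_mem (GG_le le_rfl h3), map_sum, ← QuotientAddGroup.eq_zero_iff, QuotientAddGroup.mk_sum]
  have hw : ∀ t' : IrrCharacter K' → Fin (Fintype.card ι) → ℕ, (psi Subtype.val sg (fun c => t' (τ c)) : Wr K' ι → ℂ) =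
      fun x => psi Subtype.val sg t' x * (((linW ι δ * sgW K' ι) x : ℤ) : ℂ) := fun t' => _root_.funext fun x => by
    rw [wTw K' ι _ Subtype.val sg sg _ (fun c => t' (τ c)) ((Units.map (Int.castRingHom ℂ : ℤ →* ℂ)).comp δ) (-1) τ hτ
      hsτ x, if_neg (by decide), mul_assoc]
    (with_reducible congr 1)
    · exact congrArg (psi _ _ · x) (_root_.funext fun c => congrArg t' (hinv c))
    · simp only [linW_apply, _root_.MonoidHom.coe_comp, _root_.Function.comp_apply, _root_.Units.coe_prod, _root_.Units.coe_map, _root_.MonoidHom.coe_coe, _root_.eq_intCast, _root_.MonoidHom.mul_apply, _root_.Units.val_mul, _root_.Int.cast_mul, _root_.Int.cast_prod]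
  have hm : ∀ t' : IrrCharacter K' → Fin (Fintype.card ι) → ℕ, (∀ c, StrictMono (t' c)) →
      bil (S t') (subE (fun c => ε c * sc c) (fun c i => n c i) (S t)) =
        classInner (fun x => psi κ ε t (mapW ι r x)) (psi Subtype.val sg t') := fun t' h' => by
    rw [bil_comm, ← inner_S enum_val sg (GG_hm h3) h', ← h2]
  have hμ : ∀ t' : IrrCharacter K' → Fin (Fintype.card ι) → ℕ, μ (S fun c => t' (τ c)) = μ (S t') := fun t' => by
    simp only [S, Sp, map_prod, map_SS]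
    rw [← τ.prod_comp fun c => SS (fun j => μ (PP c j)) (bsz (t' c)) (t' c)]
    simp only [μ, PP, subE, sub_X, hρ, Pi.one_apply]
  have hfix : ∀ t' : {t : IrrCharacter K' → Fin (Fintype.card ι) → ℕ // Lb (Fintype.card ι) t},
      (fun c => t'.1 (τ c)) = t'.1 → (QuotientAddGroup.mk (μ (bil (S t'.1)
        (subE (fun c => ε c * sc c) (fun c i => n c i) (S t)) • S t'.1)) : _ ⧸ Mu _ s) = 0 := fun t' h' => by
    rw [QuotientAddGroup.eq_zero_iff, map_smul, hm _ t'.2.1]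
    exact smul_mem_Mu (subE_HS _ _ (S_mem t'.2.1))
      (dvd_fixed _ hi hψ hd (irr_psi enum_val sg t'.2) (by rw [← hw, h']))
  refine Finset.sum_involution (fun t' _ => ⟨fun c => t'.1 (τ c), fun c => t'.2.1 _,
    (τ.sum_comp fun c => bsz (t'.1 c)).trans t'.2.2⟩) (fun t' _ => ?_)
    (fun t' _ h' h'' => h' (hfix t' (congrArg Subtype.val h''))) (fun _ _ => mem_univ _)
    fun t' _ => Subtype.ext (_root_.funext fun c => congrArg t'.1 (hinv c))
  rw [← QuotientAddGroup.mk_add, QuotientAddGroup.eq_zero_iff, map_smul, map_smul, hμ, ← add_smul, hm _ t'.2.1,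
    hm _ fun c => t'.2.1 _, hw, ← inner_ker _ hi]
  exact smul_mem_Mu (subE_HS _ _ (S_mem t'.2.1)) (hd _ (isCharacter_comp (linW ι δ * sgW K' ι).ker.subtype
    (isIrr_isCharacter (irr_psi enum_val sg t'.2))))

end Cfsg.Agent.MO.W
end

-- part: MO/Tri/Defs
section
/-!
# MO/Tri: the equality `One` if a triality is present, the interface (helper92)

* `FrT p G M Sg E π Γ` : the frame; `X` has no centre, an element of `Γ` acts without fixed points on `Gt / G Z`;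
* `TrEqS p G M E` : `TrEq0` on the characters which are fixed by a set of pairs;
* `Cn p M E` : numbers of fixed characters; `BtG p E`, `BtL p M E` : all commutator traces are `1`;
* `BoxTri p`, `BoxTriS p` (proved in `MO/Tri/Main.lean`).
-/

set_option autoImplicit false

namespace Cfsg.Agent.MO.Tri

open Cfsg Subgroup Cfsg.Agent.MO.Om

section frame

variable (p : ℕ) {Gt : Type} [Group Gt] (G M : Subgroup Gt)

/-- **a frame with a triality** -/
structure FrT (Sg : Subgroup (MulAut Gt)) (E : Set (MulAut Gt)) {X : Type} [Group X] (π : G →* X)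
    (Γ : Subgroup (MulAut X)) : Prop where
  comm : ∀ a b : Gt, a * b * a⁻¹ * b⁻¹ ∈ G
  sup : ∀ t : Gt, ∃ g ∈ G, ∃ m ∈ M, t = g * m
  cen : center Gt ≤ M
  ne : ¬ G ≤ M
  surj : Function.Surjective π
  fai : ∀ t : Gt, Ind G π (MulAut.conj t) 1 → t ∈ center Gt
  sG : ∀ σ ∈ Sg, ∀ g ∈ G, σ g ∈ G
  sM : ∀ σ ∈ Sg, ∀ g ∈ M, σ g ∈ M
  inn : ∀ m ∈ M, MulAut.conj m ∈ Sg
  rep : ∀ σ ∈ Sg, ∃ m ∈ M, ∃ e ∈ E, σ = MulAut.conj m * e
  lift : ∀ α ∈ Γ, ∃ σ ∈ Sg, ∃ (x : X) (β : MulAut X), Ind G π σ β ∧ α = MulAut.conj x * β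
  syl : ∃ Q : Sylow p G, ∀ g ∈ normalizer ((Q : Subgroup G) : Set G), (g : Gt) ∈ M
  zX : center X = ⊥
  cop : ¬ p ∣ (G ⊔ center Gt).index
  sm : (G ⊔ center Gt).index < Nat.card X
  /-- the triality -/
  tri : ∃ σ ∈ Sg, ∃ τ ∈ Γ, Ind G π σ τ ∧ (∃ (k : ℕ) (x : X), τ ^ p ^ k = MulAut.conj x) ∧
    ∀ t : Gt, t * (σ t)⁻¹ ∈ G ⊔ center Gt → t ∈ G ⊔ center Gt
  /-- a subgroup of index at most two is abelian modulo the inner automorphisms -/
  ab : ∃ A : Subgroup (MulAut Gt), (∀ t, MulAut.conj t ∈ A) ∧ (∀ σ ∈ Sg, ∀ σ' ∈ Sg, σ ∉ A → σ' ∉ A → σ * σ' ∈ A) ∧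
    ∀ σ ∈ Sg, ∀ σ' ∈ Sg, σ ∈ A → σ' ∈ A → ∃ m ∈ M, σ * σ' * σ⁻¹ * σ'⁻¹ = MulAut.conj m
  /-- a commutator which is inner-diagonal on `X` is inner -/
  out : ∀ σ ∈ Sg, ∀ σ' ∈ Sg, ∀ t : Gt, Ind G π (σ * σ' * σ⁻¹ * σ'⁻¹ * MulAut.conj t) 1 →
    ∃ m ∈ M, σ * σ' * σ⁻¹ * σ'⁻¹ = MulAut.conj m

/-- **the traces agree on the characters which are fixed by a set of pairs** -/
def TrEqS (E : Set (MulAut Gt)) : Prop :=
  ∀ (S : Set (Tw Gt × Tw M)) (ω : Gt → ℂ) (a b : Tw Gt) (a' b' : Tw M) (m : M),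
    (∀ x ∈ S, Adm G E x.1 ∧ Rs M x.1 x.2) → Adm G E a → Adm G E b → Rs M a a' → Rs M b b' →
    a * b * a⁻¹ * b⁻¹ = inn (m : Gt) →
    TT {χ | χ ∈ PT0 p (center Gt) ω ∧ ∀ x ∈ S, x.1 ∈ _root_.Cfsg.Agent.MO.Om.Fix χ} a b m =
      TT {ψ | (ψ ∈ PT0 p ((center Gt).subgroupOf M) fun x => ω x) ∧ ∀ x ∈ S, x.2 ∈ _root_.Cfsg.Agent.MO.Om.Fix ψ} a' b' m

/-- the numbers of the fixed characters agree (trivial central character) -/
def Cn (E : Set (MulAut Gt)) : Prop :=
  ∀ S ⊆ E, Nat.card {χ : Gt → ℂ // χ ∈ PT0 p (center Gt) 1 ∧ ∀ σ ∈ S, ∀ t, χ (σ t) = χ t} =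
    Nat.card {ψ : M → ℂ // ψ ∈ PT0 p ((center Gt).subgroupOf M) 1 ∧ ∀ σ ∈ S, ∀ y y' : M, (y' : Gt) = σ y → ψ y' = ψ y}

/-- the commutator traces of `Gt` are `1` -/
def BtG (E : Set (MulAut Gt)) : Prop :=
  ∀ χ ∈ PT0 p (center Gt) 1, ∀ a ∈ E, ∀ b ∈ E, ∀ m : Gt, a * b * a⁻¹ * b⁻¹ = MulAut.conj m → aut a ∈ _root_.Cfsg.Agent.MO.Om.Fix χ → aut b ∈ _root_.Cfsg.Agent.MO.Om.Fix χ →
    OmT χ (aut a) (aut b) m = 1

/-- the commutator traces of `M` are `1` -/
def BtL (E : Set (MulAut Gt)) : Prop :=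
  ∀ ψ ∈ PT0 p ((center Gt).subgroupOf M) 1, ∀ a ∈ E, ∀ b ∈ E, ∀ (a' b' : MulAut M) (m : M), Rs M (aut a) (aut a') →
    Rs M (aut b) (aut b') → a * b * a⁻¹ * b⁻¹ = MulAut.conj (m : Gt) → aut a' ∈ _root_.Cfsg.Agent.MO.Om.Fix ψ → aut b' ∈ _root_.Cfsg.Agent.MO.Om.Fix ψ →
    OmT ψ (aut a') (aut b') m = 1

end frame

/-- **the box** -/
def BoxTri (p : ℕ) : Prop :=
  ∀ (Gt : Type) [Group Gt] [Finite Gt] (G M : Subgroup Gt) (Sg : Subgroup (MulAut Gt)) (E : Set (MulAut Gt))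
    (X : Type) [Group X] [Finite X] (π : G →* X) (Γ : Subgroup (MulAut X)),
    FrT p G M Sg E π Γ → Cn p M E → BtG p E → BtL p M E → Sit p X Γ → MO.One p X Γ

/-- the box with traces -/
def BoxTriS (p : ℕ) : Prop :=
  ∀ (Gt : Type) [Group Gt] [Finite Gt] (G M : Subgroup Gt) (Sg : Subgroup (MulAut Gt)) (E : Set (MulAut Gt))
    (X : Type) [Group X] [Finite X] (π : G →* X) (Γ : Subgroup (MulAut X)),
    FrT p G M Sg E π Γ → TrEqS p G M E → BtG p E → Sit p X Γ → MO.One p X Γ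

end Cfsg.Agent.MO.Tri
end

-- part: MO/Cb/Path
section
/-!
# MO-Cb: paths of beads on runners (helper26)

* `mv`, `fr` : a bead moves down one step; `ff Y` : the number of paths of one runner, `NP w t` : of several runners;
* `NP_formula`, `NP_zero` : the multinomial formula;
* `fam β`, `cr β` : the runners and the core of a tuple of beads; `runner` : **the runner lemma**;
* `FM_eq_ff`, `exists_nm` : comparison with `β`-tuples of a fixed length.
-/

set_option autoImplicit false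

namespace Cfsg.Agent.MO.Cb

open Finset Function Cfsg.Agent.H614 Cfsg.Agent.MO.A.Glob
open Cfsg.Agent.H577.GLB.Std (bsz)

/-! ### one runner -/

/-- the bead `x` moves down -/
def mv (Y : Finset ℕ) (x : ℕ) : Finset ℕ := insert (x - 1) (Y.erase x)

/-- the beads which can move down -/
def fr (Y : Finset ℕ) : Finset ℕ := {x ∈ Y | 1 ≤ x ∧ x - 1 ∉ Y}

/-- the number of beads below -/
def lo (Y : Finset ℕ) (y : ℕ) : ℕ := #{h ∈ range y | h ∈ Y}

section one

variable {Y : Finset ℕ} {x : ℕ}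

theorem mem_fr : x ∈ fr Y ↔ x ∈ Y ∧ 1 ≤ x ∧ x - 1 ∉ Y := mem_filter

theorem mem_mv {y : ℕ} : y ∈ mv Y x ↔ y = x - 1 ∨ y ≠ x ∧ y ∈ Y := by rw [mv, mem_insert, mem_erase]

theorem card_mv (h : x ∈ fr Y) : #(mv Y x) = #Y := by
  obtain ⟨h1, -, h3⟩ := mem_fr.1 h
  rw [mv, card_insert_of_notMem fun e => h3 (mem_of_mem_erase e), card_erase_add_one h1]

theorem sz_mv (h : x ∈ fr Y) : sz (mv Y x) + 1 = sz Y := by
  have h4 := sum_eq (mv Y x)
  have h5 := sum_eq Y
  rw [card_mv h] at h4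
  obtain ⟨h1, h2, h3⟩ := mem_fr.1 h
  rw [mv, sum_insert fun e => h3 (mem_of_mem_erase e)] at h4
  rw [← add_sum_erase _ _ h1] at h5
  unfold mv
  omega

theorem lo_mv (h : x ∈ fr Y) {y : ℕ} (hy : y ≠ x) : lo (mv Y x) y = lo Y y := by
  obtain ⟨h1, h2, h3⟩ := mem_fr.1 h
  rcases lt_or_gt_of_ne hy with h4 | h4
  · refine congrArg card (filter_congr fun z hz => ?_)
    have := mem_range.1 hz
    rw [mem_mv]
    exact ⟨fun h5 => h5.elim (fun e => by omega) (·.2), fun h5 => Or.inr ⟨by omega, h5⟩⟩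
  · have e : {h ∈ range y | h ∈ mv Y x} = insert (x - 1) (({h ∈ range y | h ∈ Y} : Finset ℕ).erase x) := by
      ext z
      simp only [mem_filter, mem_range, mem_mv, mem_insert, mem_erase]
      constructor
      · rintro ⟨h5, h6 | h6⟩
        · exact Or.inl h6
        · exact Or.inr ⟨h6.1, h5, h6.2⟩
      · rintro (h5 | h5)
        · exact ⟨by omega, Or.inl h5⟩
        · exact ⟨h5.2.1, Or.inr ⟨h5.1, h5.2.2⟩⟩
    rw [lo, e, card_insert_of_notMem fun e => h3 (mem_filter.1 (mem_of_mem_erase e)).2,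
      card_erase_add_one (mem_filter.2 ⟨mem_range.2 h4, h1⟩), lo]

theorem lo_mv_self (h : x ∈ fr Y) : lo (mv Y x) (x - 1) = lo Y x := by
  obtain ⟨h1, h2, h3⟩ := mem_fr.1 h
  refine congrArg card (Finset.ext fun z => ?_)
  simp only [mem_filter, mem_range, mem_mv]
  refine ⟨fun h5 => ⟨by omega, h5.2.elim (fun e => by omega) (·.2)⟩, fun h5 => ?_⟩
  have : z ≠ x - 1 := fun e => h3 (e ▸ h5.2)
  exact ⟨by omega, Or.inr ⟨by omega, h5.2⟩⟩

theorem lo_lt {y : ℕ} (hx : x ∈ Y) (h : x < y) : lo Y x < lo Y y :=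
  card_lt_card ⟨fun z hz => by
    rw [mem_filter, mem_range] at hz ⊢
    exact ⟨hz.1.trans h, hz.2⟩, fun h1 => lt_irrefl x (mem_range.1 (mem_filter.1
      (h1 (mem_filter.2 ⟨mem_range.2 h, hx⟩))).1)⟩

theorem lo_inj {y : ℕ} (hx : x ∈ Y) (hy : y ∈ Y) (h : lo Y x = lo Y y) : x = y := by
  rcases lt_trichotomy x y with h1 | h1 | h1
  · exact absurd h (lo_lt hx h1).ne
  · exact h1
  · exact absurd h (lo_lt hy h1).ne'

theorem image_lo (Y : Finset ℕ) : Y.image (lo Y) = range #Y := by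
  refine eq_of_subset_of_card_le (fun z hz => ?_) (by rw [card_range, card_image_of_injOn fun _ h _ h' => lo_inj h h'])
  obtain ⟨x, hx, rfl⟩ := mem_image.1 hz
  exact mem_range.2 (card_lt_card ⟨fun y hy => (mem_filter.1 hy).2,
    fun h4 => lt_irrefl _ (mem_range.1 (mem_filter.1 (h4 hx)).1)⟩)

theorem lo_of_sz (h : sz Y = 0) (hx : x ∈ Y) : lo Y x = x := by
  rw [eq_range h] at hx ⊢
  rw [lo, filter_true_of_mem fun z hz => mem_range.2 ((mem_range.1 hz).trans (mem_range.1 hx)), card_range]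

end one

/-- the number of paths of length `k` -/
def f1 : ℕ → Finset ℕ → ℕ
  | 0, _ => 1
  | k + 1, Y => ∑ x ∈ fr Y, f1 k (mv Y x)

/-- the number of paths to the empty partition -/
def ff (Y : Finset ℕ) : ℕ := f1 (sz Y) Y

theorem ff_rec (Y : Finset ℕ) : sz Y * ff Y = sz Y * ∑ x ∈ fr Y, ff (mv Y x) := by
  rcases h : sz Y with _ | k
  · rw [zero_mul, zero_mul]
  · rw [ff, h, f1]
    refine congrArg _ (sum_congr rfl fun x hx => ?_)
    have := sz_mv hx
    rw [ff, show sz (mv Y x) = k by omega]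

/-! ### several runners -/

section many

variable {R : Type} [Fintype R] [DecidableEq R]

/-- the number of paths of length `w` -/
def NP : ℕ → (R → Finset ℕ) → ℕ
  | 0, _ => 1
  | w + 1, t => ∑ ρ, ∑ x ∈ fr (t ρ), NP w (update t ρ (mv (t ρ) x))

/-- the weight -/
def wg (t : R → Finset ℕ) : ℕ := ∑ ρ, sz (t ρ)

theorem wg_mv {t : R → Finset ℕ} {ρ : R} {x : ℕ} (h : x ∈ fr (t ρ)) : wg (update t ρ (mv (t ρ) x)) + 1 = wg t := by
  rw [wg, wg, ← add_sum_erase _ _ (mem_univ ρ), ← add_sum_erase _ (fun ρ => sz (t ρ)) (mem_univ ρ), update_self,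
    sum_congr rfl fun σ hσ => by rw [update_of_ne (ne_of_mem_erase hσ)], ← sz_mv h]
  ring

theorem NP_zero : ∀ (w : ℕ) (t : R → Finset ℕ), wg t < w → NP w t = 0
  | 0, _, h => absurd h (Nat.not_lt_zero _)
  | w + 1, t, h => sum_eq_zero fun ρ _ => sum_eq_zero fun x hx => NP_zero w _ (by have := wg_mv hx; omega)

/-- **the multinomial formula** -/
theorem NP_formula : ∀ (w : ℕ) (t : R → Finset ℕ), wg t = w →
    NP w t * ∏ ρ, (sz (t ρ)).factorial = w.factorial * ∏ ρ, ff (t ρ)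
  | 0, t, h => by
    have h1 := fun ρ => sum_eq_zero_iff.1 h ρ (mem_univ ρ)
    simp only [NP, ff, h1, f1, Nat.factorial_zero]
  | w + 1, t, h => by
    have k : ∀ ρ, (∑ x ∈ fr (t ρ), NP w (update t ρ (mv (t ρ) x))) * ∏ ρ, (sz (t ρ)).factorial =
        sz (t ρ) * (w.factorial * ∏ ρ, ff (t ρ)) := fun ρ => by
      rw [← mul_prod_erase _ (fun ρ => ff (t ρ)) (mem_univ ρ), mul_left_comm, ← mul_assoc (sz _), ff_rec, mul_assoc,
        sum_mul, sum_mul, mul_sum, mul_sum]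
      refine sum_congr rfl fun x hx => ?_
      have h1 := NP_formula w _ (show wg (update t ρ (mv (t ρ) x)) = w by have := wg_mv hx; omega)
      rw [← mul_prod_erase _ _ (mem_univ ρ), ← mul_prod_erase _ (fun σ => ff (update t ρ (mv (t ρ) x) σ)) (mem_univ ρ),
        update_self, prod_congr rfl fun σ hσ => by rw [update_of_ne (ne_of_mem_erase hσ)],
        prod_congr (f := fun σ => ff (update t ρ (mv (t ρ) x) σ)) rfl fun σ hσ => by
          rw [update_of_ne (ne_of_mem_erase hσ)]] at h1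
      rw [← mul_prod_erase _ _ (mem_univ ρ), ← sz_mv hx, Nat.factorial_succ, mul_left_comm w.factorial, ← h1]
      ring
    rw [NP, sum_mul, sum_congr rfl fun ρ _ => k ρ, ← sum_mul, ← wg, h, Nat.factorial_succ, mul_assoc]

omit [DecidableEq R] in
theorem wg_comp {R' : Type} [Fintype R'] (e : R' ≃ R) (t : R → Finset ℕ) : wg (fun ρ => t (e ρ)) = wg t :=
  e.sum_comp fun ρ => sz (t ρ)

end many

/-! ### tuples -/

section tuple

variable {R α : Type} [DecidableEq R] [Fintype α] [DecidableEq α]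

/-- the runners of a tuple -/
def fam (β : α → R × ℕ) (ρ : R) : Finset ℕ := (univ.filter fun j => (β j).1 = ρ).image fun j => (β j).2

/-- the core: the beads are pushed down on their runners -/
def cr (β : α → R × ℕ) (j : α) : R × ℕ := ((β j).1, lo (fam β (β j).1) (β j).2)

/-- the bead `j` moves down -/
def dnP (β : α → R × ℕ) (j : α) : α → R × ℕ := update β j ((β j).1, (β j).2 - 1)

variable {β : α → R × ℕ}

omit [DecidableEq α] in
theorem mem_fam {ρ : R} {x : ℕ} : x ∈ fam β ρ ↔ ∃ j, β j = (ρ, x) := by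
  simp only [fam, mem_image, mem_filter, mem_univ, true_and, Prod.ext_iff]

omit [DecidableEq α] in
theorem self_mem_fam (j : α) : (β j).2 ∈ fam β (β j).1 := mem_fam.2 ⟨j, rfl⟩

omit [DecidableEq α] in
theorem sum_fam [Fintype R] {M : Type} [AddCommMonoid M] (h : Injective β) (g : R × ℕ → M) :
    ∑ j, g (β j) = ∑ ρ, ∑ x ∈ fam β ρ, g (ρ, x) := by
  rw [← sum_fiberwise (s := univ) (g := fun j => (β j).1)]
  refine sum_congr rfl fun ρ _ => ?_
  rw [fam, sum_image fun i hi j hj e => h (Prod.ext ((mem_filter.1 hi).2.trans (mem_filter.1 hj).2.symm) e)]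
  exact sum_congr rfl fun j hj => by rw [← (mem_filter.1 hj).2]

theorem inj_dnP (h : Injective β) {j : α} (hj : 1 ≤ (β j).2) : Injective (dnP β j) ↔ (β j).2 ∈ fr (fam β (β j).1) := by
  rw [mem_fr, and_iff_right (self_mem_fam j), and_iff_right hj, mem_fam]
  constructor
  · rintro h1 ⟨i, hi⟩
    have h2 : i ≠ j := by
      rintro rfl
      have := congrArg Prod.snd hi
      simp only at this
      omega
    exact h2 (h1 (by rw [dnP, update_self, update_of_ne h2, hi]))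
  · intro h1 i k e
    by_cases hi : i = j <;> by_cases hk : k = j
    · rw [hi, hk]
    · rw [hi, dnP, update_self, update_of_ne hk] at e
      exact absurd ⟨k, e.symm⟩ h1
    · rw [hk, dnP, update_self, update_of_ne hi] at e
      exact absurd ⟨i, e⟩ h1
    · rw [dnP, update_of_ne hi, update_of_ne hk] at e
      exact h e

theorem fam_dnP (h : Injective β) (j : α) :
    fam (dnP β j) = update (fam β) (β j).1 (mv (fam β (β j).1) (β j).2) := by
  funext ρ
  ext x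
  rw [mem_fam]
  by_cases e : ρ = (β j).1
  · subst e
    rw [update_self, mem_mv, mem_fam]
    constructor
    · rintro ⟨i, hi⟩
      by_cases e : i = j
      · subst e
        rw [dnP, update_self] at hi
        exact Or.inl (congrArg Prod.snd hi).symm
      · rw [dnP, update_of_ne e] at hi
        exact Or.inr ⟨fun e' => e (h (by rw [hi, e'])), i, hi⟩
    · rintro (rfl | ⟨h1, i, hi⟩)
      · exact ⟨j, update_self ..⟩
      · exact ⟨i, by rw [dnP, update_of_ne (by rintro rfl; exact h1 (congrArg Prod.snd hi).symm), hi]⟩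
  · rw [update_of_ne e, mem_fam]
    refine exists_congr fun i => ?_
    by_cases e' : i = j
    · subst e'
      rw [dnP, update_self]
      exact iff_of_false (fun h1 => e (congrArg Prod.fst h1).symm) fun h1 => e (congrArg Prod.fst h1).symm
    · rw [dnP, update_of_ne e']

theorem cr_dnP (h : Injective β) {j : α} (hj : (β j).2 ∈ fr (fam β (β j).1)) : cr (dnP β j) = cr β := by
  funext i
  rw [cr, cr, fam_dnP h]
  by_cases e : i = j
  · subst e
    rw [dnP, update_self, update_self, lo_mv_self hj]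
  · rw [dnP, update_of_ne e]
    by_cases e' : (β i).1 = (β j).1
    · rw [e', update_self, lo_mv hj fun e'' => e (h (Prod.ext e' e''))]
    · rw [update_of_ne e']

omit [DecidableEq α] in
theorem cr_inj (h : Injective β) : Injective (cr β) := fun i j e => by
  obtain ⟨e1, e2⟩ := Prod.mk.inj e
  rw [e1] at e2
  exact h (Prod.ext e1 (lo_inj (e1 ▸ self_mem_fam i) (self_mem_fam j) e2))

omit [DecidableEq α] in
theorem fam_cr (β : α → R × ℕ) (ρ : R) : fam (cr β) ρ = range #(fam β ρ) := by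
  rw [← image_lo]
  ext x
  rw [mem_fam, mem_image]
  constructor
  · rintro ⟨j, hj⟩
    obtain ⟨rfl, rfl⟩ := Prod.mk.inj hj
    exact ⟨_, self_mem_fam j, rfl⟩
  · rintro ⟨y, hy, rfl⟩
    obtain ⟨j, hj⟩ := mem_fam.1 hy
    exact ⟨j, by rw [cr, hj]⟩

/-- **the runner lemma** -/
theorem runner [Fintype R] {W : Type} [AddCommMonoid W] (Φ : ℕ → (α → R × ℕ) → W) (w : ℕ)
    (h0 : ∀ k < w, ∀ β, ¬ Injective β → Φ k β = 0)
    (hs : ∀ k < w, ∀ β, Injective β → Φ (k + 1) β = ∑ j, if 1 ≤ (β j).2 then Φ k (dnP β j) else 0) :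
    ∀ β, Injective β → wg (fam β) ≤ w → Φ w β = NP w (fam β) • Φ 0 (cr β) := by
  induction w with
  | zero =>
    intro β _ h
    rw [NP, one_smul]
    exact congrArg _ (funext fun j => Prod.ext rfl
      (lo_of_sz (sum_eq_zero_iff.1 (Nat.le_zero.1 h) _ (mem_univ _)) (self_mem_fam j)).symm)
  | succ w ih =>
    intro β hβ h
    have ih := ih (fun k hk => h0 k (by omega)) fun k hk => hs k (by omega)
    rw [hs w (by omega) β hβ, NP, sum_smul, sum_congr rfl fun j _ => ?_,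
      sum_fam hβ fun z => if z.2 ∈ fr (fam β z.1) then
        NP w (update (fam β) z.1 (mv (fam β z.1) z.2)) • Φ 0 (cr β) else 0]
    · refine sum_congr rfl fun ρ _ => ?_
      rw [sum_smul, ← sum_filter]
      exact sum_congr (by ext x; rw [mem_filter, and_iff_right_of_imp fun h => (mem_fr.1 h).1]) fun _ _ => rfl
    · by_cases h1 : (β j).2 ∈ fr (fam β (β j).1)
      · have h2 := (mem_fr.1 h1).2.1
        have h3 := wg_mv h1
        rw [if_pos h1, if_pos h2, ih _ ((inj_dnP hβ h2).2 h1) (by rw [fam_dnP hβ]; omega), fam_dnP hβ, cr_dnP hβ h1]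
      · rw [if_neg h1]
        split_ifs with h2
        · exact h0 w (by omega) _ fun h3 => h1 ((inj_dnP hβ h2).1 h3)
        · rfl

end tuple

/-! ### `β`-tuples -/

section beta

variable {m : ℕ}

theorem bsz_eq_sz {β : Fin m → ℕ} (h : Injective β) : bsz β = sz (univ.image β) := by
  rw [bsz, (sz_im h).2 rfl, Nat.add_sub_cancel]

theorem FM_eq_ff {β : Fin m → ℕ} (h : StrictMono β) :
    FM (Multiset.replicate (bsz β) 1) β = ff (univ.image β) := by
  have hi : Injective fun j => (((), β j) : Unit × ℕ) := fun i j e => h.injective (congrArg Prod.snd e)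
  have h1 : fam (fun j => (((), β j) : Unit × ℕ)) = fun _ => univ.image β := funext fun _ => by simp only [fam, _root_.Finset.filter_true]
  have h2 : wg (fun _ : Unit => univ.image β) = bsz β := by rw [wg, Fintype.sum_unique, bsz_eq_sz h.injective]
  have h3 := runner (fun k (γ : Fin m → Unit × ℕ) => FM (Multiset.replicate k 1) fun j => (γ j).2) (bsz β)
    (fun k _ γ hγ => (FM_alt _).eq_zero_of_not_injective two_torsion_int fun h => hγ fun i j e =>
      h (congrArg Prod.snd e))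
    (fun k _ γ _ => by
      rw [Multiset.replicate_succ, FM_cons]
      refine sum_congr rfl fun j _ => if_congr Iff.rfl (congrArg _ (funext fun i => ?_)) rfl
      by_cases e : i = j
      · subst e
        rw [dn_self, dnP, update_self]
      · rw [dn_ne _ _ e, dnP, update_of_ne e]) _ hi (by rw [h1, h2])
  have h4 := NP_formula _ _ h2
  rw [Fintype.prod_unique, Fintype.prod_unique, ← bsz_eq_sz h.injective, mul_comm] at h4
  have h5 : (fun j => (cr (fun j => (((), β j) : Unit × ℕ)) j).2) = fun j : Fin m => (j : ℕ) := funext fun j => by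
    rw [cr, h1, lo, ← Fin.card_Iio, ← card_image_of_injective (Iio j) h.injective]
    dsimp only
    refine congrArg card (Finset.ext fun x => ?_)
    simp only [mem_filter, mem_range, mem_image, mem_univ, true_and, mem_Iio]
    exact ⟨fun ⟨h6, i, hi⟩ => ⟨i, h.lt_iff_lt.1 (hi ▸ h6), hi⟩, fun ⟨i, h6, hi⟩ => ⟨hi ▸ h h6, i, hi⟩⟩
  rw [h1, Nat.eq_of_mul_eq_mul_left (Nat.factorial_pos _) h4, h5, Multiset.replicate_zero, FM_zero, vac_eq_pair,
    pair_self_of_strictMono Fin.val_strictMono, nsmul_eq_mul, mul_one] at h3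
  exact h3

end beta

/-! ### shifts -/

/-- a new bead at the bottom -/
def sh (Y : Finset ℕ) : Finset ℕ := insert 0 (Y.image (· + 1))

theorem succ_mem_sh {Y : Finset ℕ} {x : ℕ} : x + 1 ∈ sh Y ↔ x ∈ Y := by simp only [sh, _root_.Finset.mem_insert, _root_.Nat.add_eq_zero_iff, _root_.one_ne_zero, _root_.and_false, _root_.Finset.mem_image, _root_.Nat.add_right_cancel_iff, _root_.exists_eq_right, _root_.false_or]

theorem zero_mem_sh (Y : Finset ℕ) : 0 ∈ sh Y := mem_insert_self _ _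

theorem card_sh (Y : Finset ℕ) : #(sh Y) = #Y + 1 := by
  rw [sh, card_insert_of_notMem (by simp), card_image_of_injective _ (add_left_injective 1)]

theorem sz_sh (Y : Finset ℕ) : sz (sh Y) = sz Y := by
  have h1 := sum_eq (sh Y)
  have h2 := sum_eq Y
  rw [card_sh, tri, sum_range_succ, ← tri, sh, sum_insert (by simp),
    sum_image fun _ _ _ _ e => add_left_injective 1 e, sum_add_distrib, ← card_eq_sum_ones, ← sh] at h1
  omega

theorem fr_sh (Y : Finset ℕ) : fr (sh Y) = (fr Y).image (· + 1) := by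
  ext x
  rcases x with _ | _ | x
  · simp only [mem_fr, _root_.nonpos_iff_eq_zero, _root_.one_ne_zero, _root_.zero_tsub, _root_.false_and, _root_.and_false, _root_.Finset.mem_image, _root_.Nat.add_eq_zero_iff, _root_.exists_const]
  · simp only [mem_fr, zero_mem_sh, _root_.zero_add, _root_.Std.le_refl, _root_.tsub_self, _root_.not_true_eq_false, _root_.and_false, _root_.Finset.mem_image, _root_.Nat.add_eq_right, _root_.exists_eq_right, _root_.nonpos_iff_eq_zero, _root_.one_ne_zero, _root_.zero_tsub, _root_.false_and]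
  · simp only [mem_fr, succ_mem_sh, _root_.le_add_iff_nonneg_left, _root_.zero_le, _root_.add_tsub_cancel_right, _root_.true_and, _root_.Finset.mem_image, _root_.Nat.add_right_cancel_iff, _root_.exists_eq_right]

theorem mv_sh (Y : Finset ℕ) {x : ℕ} (h : 1 ≤ x) : mv (sh Y) (x + 1) = sh (mv Y x) := by
  ext y
  rcases y with _ | y
  · simp only [mem_mv, zero_mem_sh, _root_.add_tsub_cancel_right, _root_.ne_eq, _root_.Nat.right_eq_add, _root_.Nat.add_eq_zero_iff, _root_.one_ne_zero, _root_.and_false, _root_.not_false_eq_true, _root_.and_self, _root_.or_true]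
  · rw [mem_mv, succ_mem_sh, succ_mem_sh, mem_mv]
    exact or_congr (by omega) (and_congr_left' (by omega))

theorem f1_sh : ∀ (k : ℕ) (Y : Finset ℕ), f1 k (sh Y) = f1 k Y
  | 0, _ => rfl
  | k + 1, Y => by
    rw [f1, f1, fr_sh, sum_image fun _ _ _ _ e => add_left_injective 1 e]
    exact sum_congr rfl fun x hx => by rw [mv_sh _ (mem_fr.1 hx).2.1, f1_sh]

theorem ff_sh (Y : Finset ℕ) : ff (sh Y) = ff Y := by rw [ff, ff, sz_sh, f1_sh]

/-- sets of `a` beads of size at most `w` -/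
abbrev Bd (w a : ℕ) : Type := {Y : Finset ℕ // #Y = a ∧ sz Y ≤ w}

theorem exists_le {w a : ℕ} (h : w ≤ a) :
    ∃ e : Bd w w ≃ Bd w a, ∀ Y, sz (e Y).1 = sz Y.1 ∧ ff (e Y).1 = ff Y.1 := by
  induction a, h using Nat.le_induction with
  | base => exact ⟨Equiv.refl _, fun _ => ⟨rfl, rfl⟩⟩
  | succ a h ih =>
    obtain ⟨e, he⟩ := ih
    refine ⟨e.trans (Equiv.ofBijective (fun Y => ⟨sh Y.1, by rw [card_sh, sz_sh, Y.2.1]; exact ⟨rfl, Y.2.2⟩⟩)
      ⟨fun Y Y' e => Subtype.ext (Finset.ext fun x => ?_), fun Y => ?_⟩), fun Y => ⟨(sz_sh _).trans (he Y).1,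
        (ff_sh _).trans (he Y).2⟩⟩
    · rw [← succ_mem_sh, show sh Y.1 = sh Y'.1 from congrArg Subtype.val e, succ_mem_sh]
    · have h1 : sh ((Y.1.erase 0).image (· - 1)) = Y.1 := Finset.ext fun x => by
        rcases x with _ | x
        · exact iff_of_true (zero_mem_sh _) (mem_of_lt (by have := Y.2; omega))
        · rw [succ_mem_sh, mem_image]
          refine ⟨?_, fun h => ⟨x + 1, mem_erase.2 ⟨by omega, h⟩, rfl⟩⟩
          rintro ⟨y, hy, rfl⟩
          have := mem_erase.1 hy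
          rw [show y - 1 + 1 = y by omega]
          exact this.2
      have h2 := Y.2
      rw [← h1, card_sh, sz_sh] at h2
      exact ⟨⟨_, by omega, h2.2⟩, Subtype.ext h1⟩

/-- a normal form of the partitions of size at most `w` -/
structure Nm (w : ℕ) {M : ℕ} (nm : Finset ℕ → Fin M → ℕ) : Prop where
  mono : ∀ Y, w ≤ #Y → sz Y ≤ w → StrictMono (nm Y)
  size : ∀ Y, w ≤ #Y → sz Y ≤ w → bsz (nm Y) = sz Y
  deg : ∀ Y, w ≤ #Y → sz Y ≤ w → FM (Multiset.replicate (sz Y) 1) (nm Y) = ff Y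
  inj : ∀ Y Y', w ≤ #Y → #Y = #Y' → sz Y ≤ w → sz Y' ≤ w → nm Y = nm Y' → Y = Y'
  surj : ∀ a β, w ≤ a → StrictMono β → bsz β ≤ w → ∃ Y, #Y = a ∧ sz Y ≤ w ∧ nm Y = β

theorem exists_nm {w M : ℕ} (hM : w ≤ M) : ∃ nm : Finset ℕ → Fin M → ℕ, Nm w nm := by
  classical
  choose e he using @exists_le w
  let E : ∀ {a}, w ≤ a → Bd w a ≃ Bd w M := fun h => (e h).symm.trans (e hM)
  have hE : ∀ {a} (h : w ≤ a) Y, sz (E h Y).1 = sz Y.1 ∧ ff (E h Y).1 = ff Y.1 := fun h Y => by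
    have h1 := he h ((e h).symm Y)
    rw [Equiv.apply_symm_apply] at h1
    exact ⟨(he hM _).1.trans h1.1.symm, (he hM _).2.trans h1.2.symm⟩
  let nm : Finset ℕ → Fin M → ℕ := fun Y => if h : w ≤ #Y ∧ sz Y ≤ w then
    (E h.1 ⟨Y, rfl, h.2⟩).1.orderEmbOfFin (E h.1 ⟨Y, rfl, h.2⟩).2.1 else 0
  have k : ∀ Y (h1 : w ≤ #Y) (h2 : sz Y ≤ w), StrictMono (nm Y) ∧ univ.image (nm Y) = (E h1 ⟨Y, rfl, h2⟩).1 :=
    fun Y h1 h2 => by
      simp only [nm, dif_pos (And.intro h1 h2)]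
      exact ⟨OrderEmbedding.strictMono _, image_orderEmbOfFin_univ _ _⟩
  have k2 : ∀ Y, w ≤ #Y → sz Y ≤ w → bsz (nm Y) = sz Y := fun Y h1 h2 => by
    rw [bsz_eq_sz (k Y h1 h2).1.injective, (k Y h1 h2).2, (hE h1 _).1]
  refine ⟨nm, fun Y h1 h2 => (k Y h1 h2).1, k2, fun Y h1 h2 => ?_, fun Y Y' h1 h2 h3 h4 h5 => ?_, fun a β h1 h2 h3 => ?_⟩
  · rw [← k2 Y h1 h2, FM_eq_ff (k Y h1 h2).1, (k Y h1 h2).2, (hE h1 _).2]
  · have h6 := (k Y h1 h3).2
    rw [h5, (k Y' (h2 ▸ h1) h4).2] at h6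
    have h7 : ∀ {a b} (_ : a = b) (ha : w ≤ a) (hb : w ≤ b) (Y : Bd w a) (Y' : Bd w b), (E ha Y).1 = (E hb Y').1 →
        Y.1 = Y'.1 := by
      rintro a _ rfl ha hb Y Y' h
      exact congrArg Subtype.val ((E ha).injective (Subtype.ext h))
    exact (h7 h2.symm _ _ _ _ h6).symm
  · obtain ⟨⟨Y, rfl, hY⟩, h4⟩ := (E h1).surjective ⟨univ.image β, card_im h2.injective, bsz_eq_sz h2.injective ▸ h3⟩
    refine ⟨Y, rfl, hY, ((k Y h1 hY).1.range_inj h2).1 ?_⟩
    rw [← Set.image_univ, ← Set.image_univ, ← coe_univ, ← coe_image, ← coe_image, (k Y h1 hY).2, h4]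

end Cfsg.Agent.MO.Cb
end

-- part: MO/Cb/Sym
section
/-!
# MO-Cb: symbols, cores and quotients (helper26)

A symbol is a finite set of beads `X : Finset (B × ℕ)`; the rows form a finite commutative group `B` (`Unit` for partitions,
`ℤˣ` for the symbols of the types `B`, `C`, `D`).  A cycle `(k, e)` moves a bead from `(b, x)` to `(e * b, x - k)`.

* `col`, `ps`, `rn`, `co` : rows, the coordinates on the runners, the runners, the core;
* `en`, `sn`, `tp` : the sum of the entries, the product of the rows, the translation of the rows;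
* `runnerS` : the runner lemma; `deg_nm` : the coefficient is the degree of a character of a wreath product;
* `lab_bij` : **cores and quotients**.
-/

set_option autoImplicit false

namespace Cfsg.Agent.MO.Cb

open Finset Function Cfsg.Agent.H614 Cfsg.Agent.MO.A.Glob
open Cfsg.Agent.H577.GLB.Std (bsz)
open Cfsg.Agent.MO.W (Lb psi Wr)

section col

variable {R : Type} [DecidableEq R]

/-- the rows -/
def col (X : Finset (R × ℕ)) (ρ : R) : Finset ℕ := (X.filter fun z => z.1 = ρ).image Prod.snd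

theorem mem_col {X : Finset (R × ℕ)} {ρ : R} {x : ℕ} : x ∈ col X ρ ↔ (ρ, x) ∈ X := by
  simp only [col, mem_image, mem_filter]
  exact ⟨fun ⟨z, ⟨h1, h2⟩, h3⟩ => by rwa [← h2, ← h3], fun h => ⟨_, ⟨h, rfl⟩, rfl⟩⟩

theorem col_inj : Injective (col (R := R)) := fun X Y h => Finset.ext fun z => by
  rw [← z.eta, ← mem_col, h, mem_col]

theorem col_image {α : Type} [Fintype α] (β : α → R × ℕ) : col (univ.image β) = fam β :=
  funext fun ρ => Finset.ext fun x => by simp only [mem_col, mem_fam, mem_image, mem_univ, true_and]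

variable [Fintype R]

/-- the set with the given rows -/
def jn (t : R → Finset ℕ) : Finset (R × ℕ) := univ.biUnion fun ρ => (t ρ).image (Prod.mk ρ)

theorem col_jn (t : R → Finset ℕ) : col (jn t) = t := funext fun ρ => Finset.ext fun x => by
  simp only [mem_col, jn, _root_.Finset.mem_biUnion, _root_.Finset.mem_univ, _root_.Finset.mem_image, _root_.Prod.mk.injEq, _root_.exists_eq_right_right, _root_.true_and, _root_.exists_eq_right]

theorem prod_col {M : Type} [CommMonoid M] (X : Finset (R × ℕ)) (g : R × ℕ → M) :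
    ∏ z ∈ X, g z = ∏ ρ, ∏ x ∈ col X ρ, g (ρ, x) := by
  rw [← prod_fiberwise (s := X) (g := Prod.fst)]
  refine prod_congr rfl fun ρ _ => ?_
  rw [col, prod_image fun i hi j hj e => Prod.ext ((mem_filter.1 hi).2.trans (mem_filter.1 hj).2.symm) e]
  exact prod_congr rfl fun j hj => by rw [← (mem_filter.1 hj).2]

theorem sum_col (X : Finset (R × ℕ)) (g : R × ℕ → ℕ) : ∑ z ∈ X, g z = ∑ ρ, ∑ x ∈ col X ρ, g (ρ, x) :=
  prod_col (M := Multiplicative ℕ) X g

theorem card_col (X : Finset (R × ℕ)) : #X = ∑ ρ, #(col X ρ) := by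
  simp only [card_eq_sum_ones, sum_col X]

end col

variable {B : Type} [CommGroup B] (k : ℕ) [NeZero k] (e : B)

/-- the coordinates on the runners -/
def ps : B × ℕ ≃ (Fin k × B) × ℕ where
  toFun z := ((⟨z.2 % k, Nat.mod_lt _ (NeZero.pos k)⟩, e ^ (z.2 / k) * z.1), z.2 / k)
  invFun y := ((e ^ y.2)⁻¹ * y.1.2, k * y.2 + y.1.1)
  left_inv z := Prod.ext (inv_mul_cancel_left _ _) (Nat.div_add_mod _ _)
  right_inv y := by
    have h : (k * y.2 + y.1.1) / k = y.2 := by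
      rw [Nat.mul_add_div (NeZero.pos k), Nat.div_eq_of_lt y.1.1.2, add_zero]
    refine Prod.ext (Prod.ext (Fin.ext ?_) ?_) h
    · exact (Nat.mul_add_mod _ _ _).trans (Nat.mod_eq_of_lt y.1.1.2)
    · dsimp only
      rw [h, mul_inv_cancel_left]

theorem ps_symm (y : (Fin k × B) × ℕ) : (ps k e).symm y = ((e ^ y.2)⁻¹ * y.1.2, k * y.2 + y.1.1) := rfl

/-- the sum of the entries -/
def en (X : Finset (B × ℕ)) : ℕ := ∑ z ∈ X, z.2

/-- the product of the rows -/
def sn (X : Finset (B × ℕ)) : B := ∏ z ∈ X, z.1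

/-- the translation of the rows -/
def tp (u : B) (X : Finset (B × ℕ)) : Finset (B × ℕ) := X.map ((Equiv.mulLeft u⁻¹).prodCongr (Equiv.refl ℕ)).toEmbedding

theorem mem_tp {u : B} {X : Finset (B × ℕ)} {z : B × ℕ} : z ∈ tp u X ↔ (u * z.1, z.2) ∈ X := by
  rw [tp, mem_map_equiv]
  simp [Prod.map]

theorem card_tp (u : B) (X : Finset (B × ℕ)) : #(tp u X) = #X := card_map _

theorem en_tp (u : B) (X : Finset (B × ℕ)) : en (tp u X) = en X := sum_map _ _ _

theorem sn_tp (u : B) (X : Finset (B × ℕ)) : sn (tp u X) = u⁻¹ ^ #X * sn X := by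
  rw [sn, tp, prod_map, ← prod_const, sn, ← prod_mul_distrib]
  rfl

theorem tp_tp (u v : B) (X : Finset (B × ℕ)) : tp u (tp v X) = tp (v * u) X := Finset.ext fun z => by
  simp only [mem_tp, mul_assoc]

theorem tp_one (X : Finset (B × ℕ)) : tp 1 X = X := Finset.ext fun z => by rw [mem_tp, one_mul]

variable [DecidableEq B]

/-- the runners -/
def rn (X : Finset (B × ℕ)) : Fin k × B → Finset ℕ := col (X.map (ps k e).toEmbedding)

variable {k e}

theorem mem_rn {X : Finset (B × ℕ)} {ρ : Fin k × B} {h : ℕ} : h ∈ rn k e X ρ ↔ ((e ^ h)⁻¹ * ρ.2, k * h + ρ.1) ∈ X := by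
  rw [rn, mem_col, mem_map_equiv, ps_symm]

theorem rn_inj : Injective (rn k e) := fun _ _ h => map_injective _ (col_inj h)

theorem rn_tp (u : B) (X : Finset (B × ℕ)) (ρ : Fin k × B) : rn k e (tp u X) ρ = rn k e X (ρ.1, u * ρ.2) :=
  Finset.ext fun h => by rw [mem_rn, mem_rn, mem_tp, mul_left_comm]

theorem rn_image {α : Type} [Fintype α] (τ : α → B × ℕ) : rn k e (univ.image τ) = fam fun j => ps k e (τ j) := by
  rw [rn, ← col_image, map_eq_image, image_image]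
  rfl

theorem le_card_rn {X : Finset (B × ℕ)} {w : ℕ} (h : ∀ b, ∀ y < k * w, (b, y) ∈ X) (ρ : Fin k × B) :
    w ≤ #(rn k e X ρ) := by
  rw [← card_range w]
  refine card_le_card fun y hy => mem_rn.2 (h _ _ ?_)
  have h1 := Nat.mul_le_mul_left k (Nat.succ_le_of_lt (mem_range.1 hy))
  have := ρ.1.2
  rw [Nat.mul_succ] at h1
  omega

variable [Fintype B]

theorem exists_rn (t : Fin k × B → Finset ℕ) : ∃ X, rn k e X = t :=
  ⟨(jn t).map (ps k e).symm.toEmbedding, by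
    rw [rn, map_map, ← Equiv.trans_toEmbedding, Equiv.symm_trans_self, Equiv.refl_toEmbedding, map_refl, col_jn]⟩

variable (k e) in
/-- the core -/
noncomputable def co (X : Finset (B × ℕ)) : Finset (B × ℕ) := (exists_rn (e := e) fun ρ => range #(rn k e X ρ)).choose

theorem rn_co (X : Finset (B × ℕ)) (ρ : Fin k × B) : rn k e (co k e X) ρ = range #(rn k e X ρ) :=
  congrFun (exists_rn (e := e) fun ρ => range #(rn k e X ρ)).choose_spec ρ

theorem wg_co (X : Finset (B × ℕ)) : wg (rn k e (co k e X)) = 0 := sum_eq_zero fun ρ _ => by rw [rn_co, sz_range]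

theorem co_eq_iff {X κ : Finset (B × ℕ)} (h : wg (rn k e κ) = 0) : co k e X = κ ↔ ∀ ρ, #(rn k e X ρ) = #(rn k e κ ρ) :=
  ⟨fun h1 ρ => by rw [← h1, rn_co, card_range], fun h1 => rn_inj (funext fun ρ => by
    rw [rn_co, h1, ← eq_range (sum_eq_zero_iff.1 h ρ (mem_univ ρ))])⟩

theorem co_tp (u : B) (X : Finset (B × ℕ)) : co k e (tp u X) = tp u (co k e X) :=
  rn_inj (funext fun ρ => by rw [rn_co, rn_tp, rn_tp, rn_co])

theorem wg_tp (u : B) (X : Finset (B × ℕ)) : wg (rn k e (tp u X)) = wg (rn k e X) := by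
  rw [funext (rn_tp u X)]
  exact wg_comp ((Equiv.refl _).prodCongr (Equiv.mulLeft u)) _

theorem prod_rn {M : Type} [CommMonoid M] (X : Finset (B × ℕ)) (g : B × ℕ → M) :
    ∏ z ∈ X, g z = ∏ ρ, ∏ h ∈ rn k e X ρ, g ((e ^ h)⁻¹ * ρ.2, k * h + ρ.1) := by
  refine Eq.trans ?_ (prod_col (X.map (ps k e).toEmbedding) fun y => g ((ps k e).symm y))
  simp only [prod_map, Equiv.coe_toEmbedding, Equiv.symm_apply_apply]

theorem card_rn (X : Finset (B × ℕ)) : #X = ∑ ρ, #(rn k e X ρ) := by rw [rn, ← card_col, card_map]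

theorem card_co (X : Finset (B × ℕ)) : #(co k e X) = #X := by
  simp only [card_rn (k := k) (e := e), rn_co, card_range]

theorem en_co (X : Finset (B × ℕ)) : en X = en (co k e X) + k * wg (rn k e X) := by
  have h : ∀ X : Finset (B × ℕ), en X = k * wg (rn k e X) + ∑ ρ, (k * tri #(rn k e X ρ) + #(rn k e X ρ) * ρ.1) := fun X => by
    rw [wg, mul_sum, ← sum_add_distrib]
    have h : en X = ∑ ρ, ∑ h ∈ rn k e X ρ, (k * h + ρ.1) := prod_rn (M := Multiplicative ℕ) X fun z => z.2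
    refine h.trans (sum_congr rfl fun ρ _ => ?_)
    rw [sum_add_distrib, ← mul_sum, sum_eq, sum_const, smul_eq_mul, mul_add, add_assoc]
  rw [h, h (co k e X), wg_co]
  simp only [rn_co, card_range]
  ring

theorem sn_co (X : Finset (B × ℕ)) : sn (co k e X) = sn X * e ^ wg (rn k e X) := by
  have h : ∀ X : Finset (B × ℕ), sn X * e ^ wg (rn k e X) =
      ∏ ρ, ((e ^ tri #(rn k e X ρ))⁻¹ * ρ.2 ^ #(rn k e X ρ)) := fun X => by
    rw [sn, prod_rn (k := k) (e := e), wg, ← prod_pow_eq_pow_sum, ← prod_mul_distrib]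
    refine prod_congr rfl fun ρ _ => ?_
    rw [prod_mul_distrib, prod_inv_distrib, prod_pow_eq_pow_sum, sum_eq, prod_const, pow_add, mul_inv,
      mul_assoc (e ^ _)⁻¹, mul_right_comm, inv_mul_cancel, one_mul]
  have h1 := h (co k e X)
  rw [wg_co, pow_zero, mul_one] at h1
  simp only [h1, h, rn_co, card_range]

/-! ### the runner lemma -/

section tuple

variable {α : Type} [Fintype α] [DecidableEq α]

variable (k e) in
/-- the bead `j` moves -/
def dnS (τ : α → B × ℕ) (j : α) : α → B × ℕ := update τ j (e * (τ j).1, (τ j).2 - k)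

variable (k e) in
/-- the core of a tuple -/
def crS (τ : α → B × ℕ) (j : α) : B × ℕ := (ps k e).symm (cr (fun j => ps k e (τ j)) j)

omit [DecidableEq α] [Fintype B] in
theorem crS_inj {τ : α → B × ℕ} (hτ : Injective τ) : Injective (crS k e τ) :=
  (ps k e).symm.injective.comp (cr_inj ((ps k e).injective.comp hτ))

omit [DecidableEq α] in
theorem image_crS (τ : α → B × ℕ) : univ.image (crS k e τ) = co k e (univ.image τ) :=
  rn_inj (k := k) (e := e) (funext fun ρ => by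
    simp only [rn_co, rn_image, crS, Equiv.apply_symm_apply]
    exact fam_cr _ ρ)

/-- **the runner lemma for symbols** -/
theorem runnerS {W : Type} [AddCommMonoid W] (Φ : ℕ → (α → B × ℕ) → W) (w : ℕ)
    (h0 : ∀ i < w, ∀ τ, ¬ Injective τ → Φ i τ = 0)
    (hs : ∀ i < w, ∀ τ, Injective τ → Φ (i + 1) τ = ∑ j, if k ≤ (τ j).2 then Φ i (dnS k e τ j) else 0)
    {τ : α → B × ℕ} (hτ : Injective τ) (hw : wg (rn k e (univ.image τ)) ≤ w) :
    Φ w τ = NP w (rn k e (univ.image τ)) • Φ 0 (crS k e τ) := by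
  have hi : Injective fun j => ps k e (τ j) := (ps k e).injective.comp hτ
  have h := runner (fun i β => Φ i fun j => (ps k e).symm (β j)) w
    (fun i hi β hβ => h0 i hi _ fun h => hβ (Injective.of_comp (f := (ps k e).symm) h))
    (fun i hi β hβ => by
      refine (hs i hi _ ((ps k e).symm.injective.comp hβ)).trans (sum_congr rfl fun j _ => ?_)
      dsimp only [comp_def]
      have h1 := (β j).1.1.2
      rcases h2 : (β j).2 with _ | h
      · rw [if_neg (by rw [ps_symm, h2]; dsimp only; omega), if_neg (by omega)]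
      · rw [if_pos (by rw [ps_symm, h2, Nat.mul_succ]; dsimp only; omega), if_pos (by omega)]
        refine congrArg _ (funext fun j' => ?_)
        by_cases h3 : j' = j
        · rw [h3, dnS, dnP, update_self, update_self, ps_symm, ps_symm, h2, Nat.add_sub_cancel, pow_succ, Nat.mul_succ]
          exact Prod.ext (by rw [mul_inv_rev, mul_assoc, mul_inv_cancel_left]) (by dsimp only; omega)
        · rw [dnS, dnP, update_of_ne h3, update_of_ne h3]) _ hi (by rwa [rn_image] at hw)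
  simp only [Equiv.symm_apply_apply] at h
  rw [rn_image]
  exact h

end tuple

/-! ### labels -/

section lab

variable {R : Type} [Fintype R] [DecidableEq R] {w M : ℕ} {nm : Finset ℕ → Fin M → ℕ}

omit [DecidableEq R] in
theorem sz_le {t : R → Finset ℕ} (h : wg t = w) (ρ : R) : sz (t ρ) ≤ w :=
  h ▸ single_le_sum (f := fun ρ => sz (t ρ)) (fun _ _ => Nat.zero_le _) (mem_univ ρ)

omit [DecidableEq R] in
theorem Nm.lb (H : Nm w nm) {t : R → Finset ℕ} (h : wg t = w) (h1 : ∀ ρ, w ≤ #(t ρ)) : Lb w fun ρ => nm (t ρ) :=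
  ⟨fun ρ => H.mono _ (h1 ρ) (sz_le h ρ), (sum_congr rfl fun ρ _ => H.size _ (h1 ρ) (sz_le h ρ)).trans h⟩

/-- **the coefficient is a degree** -/
theorem Nm.deg_psi (H : Nm w nm) {t : R → Finset ℕ} (h : wg t = w) (h1 : ∀ ρ, w ≤ #(t ρ)) {K ι : Type} [Group K]
    [Fintype ι] (hι : Fintype.card ι = w) (κ : R → K → ℂ) (hκ : ∀ ρ, κ ρ 1 = 1) (ε : R → ℤˣ) :
    psi κ ε (fun ρ => nm (t ρ)) (1 : Wr K ι) = NP w t := by
  have h2 := W.wDeg K ι R κ ε M _ (hι ▸ H.lb h h1)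
  have h3 := congrArg (Nat.cast (R := ℂ)) (NP_formula w t h)
  simp only [hκ, one_pow, one_mul, hι, fun ρ => H.size _ (h1 ρ) (sz_le h ρ), fun ρ => H.deg _ (h1 ρ) (sz_le h ρ),
    Int.cast_natCast] at h2
  push_cast at h3
  exact mul_right_cancel₀ (prod_ne_zero_iff.2 fun ρ _ => Nat.cast_ne_zero.2 (Nat.factorial_ne_zero _)) (h2.trans h3.symm)

end lab

/-- no symbol below the level `E` -/
def Bot (k : ℕ) (e : B) (m E : ℕ) (p : B → Prop) : Prop :=
  ∀ (X : Finset (B × ℕ)) (j : ℕ), 0 < j → #X = m → en X + k * j = E → ¬ p (sn X / e ^ j)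

section main

variable {m E w M : ℕ} {p : B → Prop} {nm : Finset ℕ → Fin M → ℕ}

theorem Bot.wg_le (h : Bot k e m E p) {X : Finset (B × ℕ)} (h1 : #X = m) (h2 : en X = E + k * w) (h3 : p (sn X * e ^ w)) :
    wg (rn k e X) ≤ w := by
  by_contra h4
  obtain ⟨j, hj⟩ := Nat.exists_eq_add_of_lt (not_le.1 h4)
  have h5 := en_co (k := k) (e := e) X
  rw [hj, h2, add_assoc, mul_add] at h5
  refine h (co k e X) (j + 1) j.succ_pos ((card_co X).trans h1) (by omega) ?_
  rwa [sn_co, hj, add_assoc, pow_add, ← mul_assoc, mul_div_cancel_right]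

/-- **cores and quotients** -/
theorem lab_bij (H : Nm w nm) (h : Bot k e m E p)
    (hw : ∀ κ : Finset (B × ℕ), #κ = m → en κ = E → ∀ b, ∀ y < k * w, (b, y) ∈ κ) :
    Set.BijOn (fun X => (co k e X, fun ρ => nm (rn k e X ρ)))
      {X | #X = m ∧ en X = E + k * w ∧ p (sn X * e ^ w) ∧ wg (rn k e X) = w}
      ({κ | #κ = m ∧ en κ = E ∧ p (sn κ)} ×ˢ {t | Lb w t}) ∧
    ∀ X, #X = m → en X = E + k * w → wg (rn k e X) = w → ∀ ρ, w ≤ #(rn k e X ρ) := by
  have k1 : ∀ X, #X = m → en X = E + k * w → wg (rn k e X) = w → en (co k e X) = E ∧ ∀ ρ, w ≤ #(rn k e X ρ) :=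
    fun X h1 h2 h3 => by
      have h5 := en_co (k := k) (e := e) X
      rw [h3, h2] at h5
      refine ⟨by omega, fun ρ => ?_⟩
      have h6 := le_card_rn (e := e) (hw _ ((card_co (k := k) (e := e) X).trans h1) (by omega)) ρ
      rwa [rn_co, card_range] at h6
  refine ⟨⟨fun X ⟨h1, h2, h3, h4⟩ => ⟨⟨(card_co X).trans h1, (k1 X h1 h2 h4).1, by rwa [sn_co, h4]⟩,
    H.lb h4 (k1 X h1 h2 h4).2⟩, fun X ⟨h1, h2, _, h4⟩ Y ⟨_, _, _, h4'⟩ h5 => rn_inj (k := k) (e := e) (funext fun ρ => ?_),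
    fun ⟨κ, t⟩ ⟨⟨h1, h2, h3⟩, h4⟩ => ?_⟩, fun X h1 h2 h3 => (k1 X h1 h2 h3).2⟩
  · obtain ⟨h6, h7⟩ := Prod.mk.inj h5
    refine H.inj _ _ ((k1 X h1 h2 h4).2 ρ) ?_ (sz_le h4 ρ) (sz_le h4' ρ) (congrFun h7 ρ)
    rw [← card_range #(rn k e X ρ), ← rn_co, h6, rn_co, card_range]
  · have h5 : wg (rn k e κ) = 0 := Nat.le_zero.1 (h.wg_le h1 (by rw [h2, mul_zero, add_zero]) (by rwa [pow_zero, mul_one]))
    have h6 := le_card_rn (e := e) (hw κ h1 h2)
    choose Y hY using fun ρ => H.surj _ (t ρ) (h6 ρ) (h4.1 ρ)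
      (h4.2 ▸ single_le_sum (f := fun ρ => bsz (t ρ)) (fun _ _ => Nat.zero_le _) (mem_univ ρ))
    obtain ⟨X, rfl⟩ := exists_rn (e := e) Y
    have h7 := (co_eq_iff h5).2 fun ρ => (hY ρ).1
    have h8 : wg (rn k e X) = w := (sum_congr rfl fun ρ _ => by
      rw [← H.size _ ((hY ρ).1 ▸ h6 ρ) (hY ρ).2.1, (hY ρ).2.2]).trans h4.2
    refine ⟨X, ⟨by rw [← card_co (k := k) (e := e), h7, h1], by rw [en_co (k := k) (e := e), h7, h2, h8], ?_, h8⟩,
      Prod.ext h7 (funext fun ρ => (hY ρ).2.2)⟩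
    rwa [← h8, ← sn_co, h7]

end main

end Cfsg.Agent.MO.Cb
end

-- part: MO/Cb/Mod
section
/-!
# MO-Cb: cores and quotients of the labels of the model `MO.J` (helper26)

* `Emb κ B` : the beads of the kind `κ` as pairs (row, position); `embA`, `embU`, `embB`;
* `E.rn k η u`, `E.co k η u`, `E.wt k η u` : the runners, the core and the weight of a label for the cycle `(k, η)`;
* `Emb.val`, `Emb.val_zero` : the values on `w` cycles `(k, η)`;
* `Ty κ M ε u` : the type of a label of the kind `D`; `Min κ k η r ε` : the rest contains no cycle `(k, η)`;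
* `Cor` : **cores and quotients**; `corA`, `corU`, `corB`; `rn_sw`, `co_sw` : the exchange of the rows.
-/

set_option autoImplicit false

namespace Cfsg.Agent.MO.Cb

open Finset Function Cfsg.Agent.H614 Cfsg.Agent.MO.A.Glob
open Cfsg.Agent.MO.W (Lb psi Wr)
open Cfsg.Agent.MO.J (Pt Cy Kn YK YM tup IsLab bs mk AltT sw' row Ok fl)

/-! ### tuples -/

theorem tup_eq {M : ℕ} {u : Finset Pt} (h : #u = M) (i : Fin M) :
    tup M u i = (u.sort J.Le)[i.1]'(by rw [length_sort, h]; exact i.2) := List.getD_eq_getElem _ _ _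

theorem tup_inj {M : ℕ} {u : Finset Pt} (h : #u = M) : Injective (tup M u) := fun i j e => by
  rw [tup_eq h, tup_eq h] at e
  exact Fin.ext ((u.sort_nodup J.Le).getElem_inj_iff.1 e)

theorem image_tup {M : ℕ} {u : Finset Pt} (h : #u = M) : univ.image (tup M u) = u :=
  eq_of_subset_of_card_le (fun a ha => by
    obtain ⟨i, -, rfl⟩ := mem_image.1 ha
    rw [tup_eq h]
    exact (mem_sort J.Le).1 (List.getElem_mem _))
    (by rw [card_image_of_injective _ (tup_inj h), card_univ, Fintype.card_fin, h])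

theorem exists_perm {M : ℕ} {Ω : Type} [DecidableEq Ω] {τ τ' : Fin M → Ω} (h' : Injective τ')
    (e : univ.image τ = univ.image τ') : ∃ σ : Equiv.Perm (Fin M), τ' = τ ∘ σ := by
  choose f hf using fun i => mem_image.1 (e.ge (mem_image_of_mem τ' (mem_univ i)))
  have h1 : Injective f := fun i j e => h' (by rw [← (hf i).2, e, (hf j).2])
  exact ⟨Equiv.ofBijective f (Finite.injective_iff_bijective.1 h1), funext fun i => (hf i).2.symm⟩

/-- the functions of the kind `κ` on tuples -/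
def YT {M : ℕ} : Kn → Multiset Cy → (Fin M → Pt) → ℤ
  | .A, s, τ => FM (s.map Prod.fst) fun i => J.ps .A (τ i)
  | .U, s, τ => FM (s.map Prod.fst) fun i => J.ps .U (τ i)
  | _, s, τ => YM s τ

section YT

variable {M : ℕ} {κ : Kn}

theorem YK_eq (s : Multiset Cy) (u : Finset Pt) : YK κ M s u = YT κ s (tup M u) := by cases κ <;> rfl

theorem YT_alt (H : J.BMN) (s : Multiset Cy) : AltT (YT (M := M) κ s) := by
  cases κ
  · exact fun σ τ => FM_alt _ σ fun i => J.ps .A (τ i)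
  · exact fun σ τ => FM_alt _ σ fun i => J.ps .U (τ i)
  · exact H.alt M s
  · exact H.alt M s

theorem alt_zero {Ω : Type} {Φ : (Fin M → Ω) → ℤ} (h : AltT Φ) {τ : Fin M → Ω} (hτ : ¬ Injective τ) : Φ τ = 0 := by
  obtain ⟨i, j, e, hij⟩ := not_injective_iff.1 hτ
  have h1 := h (Equiv.swap i j) τ
  rw [show τ ∘ Equiv.swap i j = τ from funext fun k => Equiv.apply_swap_eq_self e k, sg, Equiv.Perm.sign_swap hij] at h1
  simp only [Units.val_neg, Units.val_one, neg_smul, one_smul] at h1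
  omega

theorem ps_U (x : ℕ) : J.ps .U (x / 2, decide (x % 2 = 1)) = x := by
  change 2 * (x / 2) + (decide (x % 2 = 1)).toNat = _
  rcases Nat.mod_two_eq_zero_or_one x with h | h <;> simp only [h] <;>
    simp only [Nat.zero_ne_one, decide_false, decide_true, Bool.toNat_false, Bool.toNat_true] <;> omega

theorem ps_mk_U (c : Cy) (a : Pt) : J.ps .U (mk .U c a) = J.ps .U a - c.1 := ps_U _

theorem YT_cons (c : Cy) (s : Multiset Cy) (τ : Fin M → Pt) :
    YT κ (c ::ₘ s) τ = ∑ j, if c.1 ≤ J.ps κ (τ j) then YT κ s (update τ j (_root_.Cfsg.Agent.MO.J.mk κ c (τ j))) else 0 := by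
  have k : ∀ κ, (∀ a, J.ps κ (_root_.Cfsg.Agent.MO.J.mk κ c a) = J.ps κ a - c.1) → FM ((c ::ₘ s).map Prod.fst) (fun i => J.ps κ (τ i)) =
      ∑ j, if c.1 ≤ J.ps κ (τ j) then FM (s.map Prod.fst) (fun i => J.ps κ (update τ j (_root_.Cfsg.Agent.MO.J.mk κ c (τ j)) i)) else 0 :=
    fun κ h => by
      rw [Multiset.map_cons, FM_cons]
      refine sum_congr rfl fun j _ => if_congr Iff.rfl (congrArg _ (funext fun i => ?_)) rfl
      by_cases e : i = j
      · rw [e, dn_self, update_self, h]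
      · rw [dn_ne _ _ e, update_of_ne e]
  cases κ
  · exact k .A fun _ => rfl
  · exact k .U (ps_mk_U c)
  · exact J.YM_cons c s τ
  · exact J.YM_cons c s τ

end YT

/-- the beads of the kind `κ` as pairs (row, position) -/
structure Emb (κ : Kn) (B : Type) [CommGroup B] where
  ι : B × ℕ ↪ Pt
  rw : ℤˣ → B
  ps_ι : ∀ z, J.ps κ (ι z) = z.2
  mk_ι : ∀ c z, _root_.Cfsg.Agent.MO.J.mk κ c (ι z) = ι (rw c.2 * z.1, z.2 - c.1)
  rng : ∀ a, (κ = .A → a.2 = false) ↔ ∃ z, ι z = a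

/-- the type of a label of the kind `D` -/
def Ty (κ : Kn) (M : ℕ) (ε : ℤˣ) (u : Finset Pt) : Prop := κ = .D → (-1) ^ (#(row u true) + M / 2) = ε

/-- a rest of rank `r` and type `ε` contains no cycle `(k, η)` -/
def Min (κ : Kn) (k : ℕ) (η : ℤˣ) (r : ℕ) (ε : ℤˣ) : Prop := r < k ∨ κ = .D ∧ r = k ∧ ε ≠ η

namespace Emb

variable {κ : Kn} {B : Type} [CommGroup B] (E : Emb κ B) {M n : ℕ} {u : Finset Pt}

/-- the symbol of a label -/
noncomputable def pl (u : Finset Pt) : Finset (B × ℕ) := u.preimage E.ι E.ι.injective.injOn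

theorem pl_map (X : Finset (B × ℕ)) : E.pl (X.map E.ι) = X := Finset.ext fun z => by rw [pl, mem_preimage, mem_map' ]

theorem map_pl (h : κ = .A → ∀ a ∈ u, a.2 = false) : (E.pl u).map E.ι = u := Finset.ext fun a => by
  rw [mem_map]
  refine ⟨fun ⟨z, hz, e⟩ => e ▸ mem_preimage.1 hz, fun ha => ?_⟩
  obtain ⟨z, rfl⟩ := (E.rng a).1 fun e => h e a ha
  exact ⟨z, mem_preimage.2 ha, rfl⟩

theorem isLab_map {X : Finset (B × ℕ)} : IsLab κ M n (X.map E.ι) ↔ #X = M ∧ en X = bs κ M + n := by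
  rw [IsLab, card_map, sum_map, sum_congr rfl fun z _ => E.ps_ι z, add_comm, and_iff_left fun e a ha => ?_]
  · rfl
  · obtain ⟨z, -, h⟩ := mem_map.1 ha
    exact (E.rng a).2 ⟨z, h⟩ e

theorem isLab_pl (h : IsLab κ M n u) : #(E.pl u) = M ∧ en (E.pl u) = bs κ M + n :=
  E.isLab_map.1 (by rwa [E.map_pl h.2.2])

variable [DecidableEq B] [Fintype B] (k : ℕ) [NeZero k] (η : ℤˣ)

/-- the runners -/
noncomputable def rn (u : Finset Pt) : Fin k × B → Finset ℕ := Cb.rn k (E.rw η) (E.pl u)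

/-- the weight -/
noncomputable def wt (u : Finset Pt) : ℕ := wg (E.rn k η u)

/-- the core -/
noncomputable def co (u : Finset Pt) : Finset Pt := (Cb.co k (E.rw η) (E.pl u)).map E.ι

variable {k η}

/-- **the values on `w` cycles `(k, η)`** -/
theorem val (H : J.BMN) (hu : IsLab κ M n u) {w : ℕ} (hw : E.wt k η u ≤ w) : ∃ ε : ℤˣ, ∀ s,
    YK κ M (Multiset.replicate w (k, η) + s) u = ε * NP w (E.rn k η u) * YK κ M s (E.co k η u) := by
  choose τ hτ using fun i => (E.rng (tup M u i)).1 fun e => hu.2.2 e _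
    ((image_tup hu.1).le (mem_image_of_mem _ (mem_univ i)))
  have h1 : Injective τ := fun i j e => tup_inj hu.1 (by rw [← hτ, e, hτ])
  have h2 : univ.image τ = E.pl u := map_injective E.ι (by
    rw [E.map_pl hu.2.2, map_eq_image, image_image, show E.ι ∘ τ = tup M u from funext hτ, image_tup hu.1])
  have h3 : #(E.co k η u) = M := by rw [co, card_map, card_co, (E.isLab_pl hu).1]
  obtain ⟨σ, hσ⟩ := exists_perm (τ := tup M (E.co k η u)) (E.ι.injective.comp (crS_inj (k := k) (e := E.rw η) h1))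
    (by rw [image_tup h3, ← image_image, image_crS, h2, co, map_eq_image])
  refine ⟨Equiv.Perm.sign σ, fun s => ?_⟩
  have h4 := runnerS (k := k) (e := E.rw η) (fun i τ => YT κ (Multiset.replicate i (k, η) + s) (E.ι ∘ τ)) w
    (fun i _ τ h => alt_zero (YT_alt H _) fun h' => h h'.of_comp)
    (fun i _ τ _ => by
      rw [Multiset.replicate_succ, Multiset.cons_add, YT_cons]
      refine sum_congr rfl fun j _ => ?_
      rw [comp_apply, E.ps_ι, E.mk_ι, dnS, comp_update]) h1 (by rw [h2]; exact hw)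
  rw [show E.ι ∘ τ = tup M u from funext hτ, h2, hσ, Multiset.replicate_zero, zero_add, YT_alt H] at h4
  rw [YK_eq, YK_eq, h4, nsmul_eq_mul, smul_eq_mul, mul_left_comm, mul_assoc]
  rfl

theorem val_zero (H : J.BMN) (hu : IsLab κ M n u) {w : ℕ} (hw : E.wt k η u < w) (s : Multiset Cy) :
    YK κ M (Multiset.replicate w (k, η) + s) u = 0 := by
  obtain ⟨ε, h⟩ := E.val H hu hw.le
  rw [h, NP_zero _ _ hw, Nat.cast_zero, mul_zero, zero_mul]

variable (k η) in
/-- **cores and quotients** : rank `r + k w`, the rest has the type `ε` -/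
structure Cor (M r w : ℕ) (ε : ℤˣ) : Prop where
  le : ∀ u, IsLab κ M (r + k * w) u → Ty κ M (ε * η ^ w) u → E.wt k η u ≤ w
  big : ∀ u, IsLab κ M (r + k * w) u → E.wt k η u = w → ∀ ρ, w ≤ #(E.rn k η u ρ)
  bij : ∀ {m : ℕ} {nm : Finset ℕ → Fin m → ℕ}, Nm w nm → Set.BijOn (fun u => (E.co k η u, fun ρ => nm (E.rn k η u ρ)))
    {u | IsLab κ M (r + k * w) u ∧ Ty κ M (ε * η ^ w) u ∧ E.wt k η u = w}
    ({v | IsLab κ M r v ∧ Ty κ M ε v} ×ˢ {t | Lb w t})

theorem cor {r w : ℕ} {ε : ℤˣ} (p : B → Prop) (h : Bot k (E.rw η) M (bs κ M + r) p)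
    (hw : ∀ X : Finset (B × ℕ), #X = M → en X = bs κ M + r → ∀ b, ∀ y < k * w, (b, y) ∈ X)
    (hp : ∀ X j, Ty κ M (ε * η ^ j) (X.map E.ι) ↔ p (sn X * E.rw η ^ j)) : E.Cor k η M r w ε where
  le u h1 h2 := h.wg_le (E.isLab_pl h1).1 (by rw [(E.isLab_pl h1).2, add_assoc]) ((hp _ _).1 (by rwa [E.map_pl h1.2.2]))
  big u h1 h2 := by
    obtain ⟨nm, H⟩ := exists_nm (le_refl w)
    exact (lab_bij H h hw).2 _ (E.isLab_pl h1).1 (by rw [(E.isLab_pl h1).2, add_assoc]) h2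
  bij {m nm} H := by
    have h1 : Set.BijOn E.pl {u | IsLab κ M (r + k * w) u ∧ Ty κ M (ε * η ^ w) u ∧ E.wt k η u = w}
        {X | #X = M ∧ en X = bs κ M + r + k * w ∧ p (sn X * E.rw η ^ w) ∧ wg (Cb.rn k (E.rw η) X) = w} :=
      ⟨fun u hu => ⟨(E.isLab_pl hu.1).1, by rw [(E.isLab_pl hu.1).2, add_assoc],
        (hp _ _).1 (by rw [E.map_pl hu.1.2.2]; exact hu.2.1), hu.2.2⟩,
        fun u hu v hv e => by rw [← E.map_pl hu.1.2.2, e, E.map_pl hv.1.2.2],
        fun X hX => ⟨X.map E.ι, ⟨E.isLab_map.2 ⟨hX.1, by rw [hX.2.1, add_assoc]⟩, (hp _ _).2 hX.2.2.1, by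
          rw [wt, rn, pl_map]; exact hX.2.2.2⟩, E.pl_map X⟩⟩
    have h3 : ∀ X, Ty κ M ε (X.map E.ι) ↔ p (sn X) := fun X => by simpa only [pow_zero, mul_one] using hp X 0
    have h2 : Set.BijOn (fun X : Finset (B × ℕ) => X.map E.ι) {X | #X = M ∧ en X = bs κ M + r ∧ p (sn X)}
        {v | IsLab κ M r v ∧ Ty κ M ε v} :=
      ⟨fun X hX => ⟨E.isLab_map.2 ⟨hX.1, hX.2.1⟩, (h3 X).2 hX.2.2⟩, fun _ _ _ _ e => map_injective _ e,
        fun v hv => ⟨E.pl v, ⟨(E.isLab_pl hv.1).1, (E.isLab_pl hv.1).2, (h3 _).1 (by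
          rw [E.map_pl hv.1.2.2]; exact hv.2)⟩, E.map_pl hv.1.2.2⟩⟩
    exact ((h2.prodMap (Set.bijOn_id _)).comp (lab_bij H h hw).1).comp h1

end Emb

/-! ### one row -/

theorem cor_one {κ : Kn} (E : Emb κ Unit) (hκ : κ ≠ .D) {M k r w : ℕ} [NeZero k] {η ε : ℤˣ} (hb : bs κ M = M * (M - 1) / 2)
    (hM : r + k * w ≤ M) (hr : r < k) : E.Cor k η M r w ε := by
  have h1 : ∀ X : Finset (Unit × ℕ), #X = M → en X = bs κ M + sz (col X ()) ∧ #(col X ()) = M := fun X h => by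
    have h2 := card_col X
    rw [Fintype.sum_unique, h] at h2
    rw [en, sum_col, Fintype.sum_unique, sum_eq, ← h2, hb, ← tri_mul, Nat.mul_div_cancel _ two_pos, add_comm]
    exact ⟨rfl, rfl⟩
  refine E.cor (fun _ => True) (fun X j hj h2 h3 _ => ?_) (fun X h2 h3 b y hy => mem_col.1 (mem_of_lt ?_))
    fun _ _ => iff_of_true (fun h => absurd h hκ) trivial
  · have := (h1 X h2).1
    have := Nat.mul_le_mul_left k hj
    omega
  · have := h1 X h2
    change y + sz (col X ()) < #(col X ())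
    omega

/-- partitions -/
def embA : Emb .A Unit where
  ι := ⟨fun z => (z.2, false), fun _ _ h => Prod.ext rfl (congrArg Prod.fst h)⟩
  rw _ := ()
  ps_ι _ := rfl
  mk_ι _ _ := rfl
  rng a := ⟨fun h => ⟨((), a.1), Prod.ext rfl (h rfl).symm⟩, fun ⟨_, h⟩ _ => h ▸ rfl⟩

/-- partitions, the unitary kind -/
def embU : Emb .U Unit where
  ι := ⟨fun z => (z.2 / 2, decide (z.2 % 2 = 1)), fun z z' h => Prod.ext rfl
    ((ps_U z.2).symm.trans ((congrArg (J.ps .U) h).trans (ps_U z'.2)))⟩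
  rw _ := ()
  ps_ι z := ps_U z.2
  mk_ι c z := congrArg (fun x => ((x - c.1) / 2, decide ((x - c.1) % 2 = 1))) (ps_U z.2)
  rng a := iff_of_true nofun ⟨((), J.ps .U a), by
    obtain ⟨x, _ | _⟩ := a
    · exact Prod.ext (show (2 * x + 0) / 2 = x by omega) (decide_eq_false (show ¬ (2 * x + 0) % 2 = 1 by omega))
    · exact Prod.ext (show (2 * x + 1) / 2 = x by omega) (decide_eq_true (show (2 * x + 1) % 2 = 1 by omega))⟩

theorem corA {M k r w : ℕ} [NeZero k] {η ε : ℤˣ} (hM : Ok .A M (r + k * w)) (hr : Min .A k η r ε) :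
    embA.Cor k η M r w ε := cor_one _ (by decide) rfl hM (hr.resolve_right fun h => nomatch h.1)

theorem corU {M k r w : ℕ} [NeZero k] {η ε : ℤˣ} (hM : Ok .U M (r + k * w)) (hr : Min .U k η r ε) :
    embU.Cor k η M r w ε := cor_one _ (by decide) rfl hM (hr.resolve_right fun h => nomatch h.1)

/-! ### two rows -/

/-- symbols -/
def embB {κ : Kn} (h : κ = .B ∨ κ = .D) : Emb κ ℤˣ where
  ι := ⟨fun z => (z.2, fl z.1 false), fun z z' e => by
    obtain ⟨e1, e2⟩ := Prod.mk.inj e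
    refine Prod.ext ?_ e1
    revert e2
    rcases Int.units_eq_one_or z.1 with h | h <;> rcases Int.units_eq_one_or z'.1 with h' | h' <;> rw [h, h'] <;> decide⟩
  rw := id
  ps_ι _ := by rcases h with rfl | rfl <;> rfl
  mk_ι c z := by
    have k : fl c.2 (fl z.1 false) = fl (c.2 * z.1) false := by
      rcases Int.units_eq_one_or c.2 with h | h <;> rcases Int.units_eq_one_or z.1 with h' | h' <;> rw [h, h'] <;> decide
    rcases h with rfl | rfl <;> exact Prod.ext rfl k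
  rng a := iff_of_true (by rcases h with rfl | rfl <;> exact nofun) (by
    obtain ⟨x, _ | _⟩ := a
    · exact ⟨(1, x), rfl⟩
    · exact ⟨(-1, x), rfl⟩)

theorem univ_units {V : Type} [CommMonoid V] (f : ℤˣ → V) : ∏ b, f b = f 1 * f (-1) := by
  rw [UnitsInt.univ, prod_pair (by decide)]

theorem tri_le (a b : ℕ) : (a + b) / 2 * ((a + b - 1) / 2) ≤ tri a + tri b ∧
    ((a + b) % 2 = 0 → (a + b) / 2 * ((a + b - 1) / 2) = tri a + tri b → b = (a + b) / 2) := by
  have h1 := tri_add a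
  have h2 := tri_add b
  obtain ⟨N, h | h⟩ := Nat.even_or_odd' (a + b)
  · rcases N with _ | N
    · obtain ⟨rfl, rfl⟩ : a = 0 ∧ b = 0 := by omega
      simp
    rw [show (a + b) / 2 = N + 1 by (clear * - h; omega), show (a + b - 1) / 2 = N by (clear * - h; omega)]
    have h3 : (a : ℤ) = 2 * (N + 1) - b := by omega
    zify at h1 h2 ⊢
    rw [h3] at h1
    exact ⟨by linarith only [h1, h2, sq_nonneg ((b : ℤ) - (N + 1))], fun _ h4 => by nlinarith only [h1, h2, h4]⟩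
  · rw [show (a + b) / 2 = N by (clear * - h; omega), show (a + b - 1) / 2 = N by (clear * - h; omega)]
    refine ⟨?_, by omega⟩
    have h3 : (a : ℤ) = 2 * N + 1 - b := by omega
    zify at h1 h2 ⊢
    rw [h3] at h1
    rcases le_or_gt (b : ℤ) N with h4 | h4 <;> nlinarith only [h1, h2, h4]

section two

variable {κ : Kn} (hκ : κ = .B ∨ κ = .D) {X : Finset (ℤˣ × ℕ)} {M : ℕ}

theorem en_two (X : Finset (ℤˣ × ℕ)) (b : ℤˣ) : en X = sz (col X b) + tri #(col X b) + (sz (col X (-b)) + tri #(col X (-b))) ∧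
    #X = #(col X b) + #(col X (-b)) := by
  have h1 : en X = ∑ x ∈ col X 1, x + ∑ x ∈ col X (-1), x := by rw [en, sum_col, UnitsInt.univ, sum_pair (by decide)]
  have h2 : #X = #(col X 1) + #(col X (-1)) := by rw [card_col, UnitsInt.univ, sum_pair (by decide)]
  rw [sum_eq, sum_eq] at h1
  rcases Int.units_eq_one_or b with rfl | rfl
  · exact ⟨h1, h2⟩
  · rw [neg_neg]
    omega

theorem sn_two (X : Finset (ℤˣ × ℕ)) : sn X = (-1) ^ #(col X (-1)) := by
  rw [sn, prod_col, univ_units]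
  simp only [_root_.Finset.prod_const_one, _root_.Finset.prod_const, _root_.one_mul]

theorem row_map (X : Finset (ℤˣ × ℕ)) (b : ℤˣ) : row (X.map (embB hκ).ι) (fl b false) = col X b := by
  ext x
  rw [mem_col, ← mem_map' (embB hκ).ι, row, mem_image]
  refine ⟨?_, fun h => ⟨_, mem_filter.2 ⟨h, rfl⟩, rfl⟩⟩
  rintro ⟨a, ha, rfl⟩
  obtain ⟨h1, h2⟩ := mem_filter.1 ha
  change (a.1, fl b false) ∈ _
  rwa [← h2]

include hκ in
theorem bs_two (M : ℕ) : bs κ M = M / 2 * ((M - 1) / 2) := by rcases hκ with rfl | rfl <;> rfl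

theorem corB {k r w : ℕ} [NeZero k] {η ε : ℤˣ} (hM : Ok κ M (r + k * w)) (hr : Min κ k η r ε) :
    (embB hκ).Cor k η M r w ε := by
  have h0 : r + k * w ≤ M / 2 := by rcases hκ with rfl | rfl <;> exact hM.2
  refine (embB hκ).cor (fun b => κ = .D → b * (-1) ^ (M / 2) = ε) (fun X j hj h2 h3 h4 => ?_)
    (fun X h2 h3 b y hy => mem_col.1 (mem_of_lt ?_)) fun X j => imp_congr_right fun _ => ?_
  · obtain ⟨h5, h6⟩ := en_two X 1
    obtain ⟨h7, h8⟩ := tri_le #(col X 1) #(col X (-1))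
    have h9 := Nat.mul_le_mul_left k hj
    rw [← h6, h2, ← bs_two hκ] at h7 h8
    rcases hr with hr | ⟨rfl, rfl, hr⟩
    · omega
    · obtain rfl : j = 1 := by
        have := NeZero.pos r
        by_contra h10
        have := Nat.mul_le_mul_left r (show 2 ≤ j by omega)
        omega
      refine hr ?_
      rw [← h4 rfl, sn_two, h8 hM.1 (by omega), pow_one, div_eq_mul_inv, mul_right_comm, Int.units_mul_self, one_mul]
      exact Int.units_inv_eq_self η
  · obtain ⟨h5, h6⟩ := en_two X b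
    have h7 := (tri_le (#(col X b) + 1) #(col X (-b))).1
    rw [tri, sum_range_succ, ← tri, add_right_comm, ← h6, h2, Nat.add_sub_cancel] at h7
    rw [bs_two hκ] at h3
    rcases Nat.eq_zero_or_pos M with rfl | h8
    · omega
    rw [show (M + 1) / 2 = (M - 1) / 2 + 1 by (clear * - h8; omega), add_mul, mul_comm] at h7
    omega
  · rw [show row (X.map (embB hκ).ι) true = col X (-1) from
      (show fl (-1) false = true by decide) ▸ row_map hκ X (-1), pow_add, ← sn_two, mul_right_comm,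
      ← mul_inv_eq_iff_eq_mul, Int.units_inv_eq_self]
    rfl

theorem pl_sw (u : Finset Pt) : (embB hκ).pl (sw' u) = tp (-1) ((embB hκ).pl u) := by
  ext z
  have k : fl (-1 * z.1) false = !fl z.1 false := by rcases Int.units_eq_one_or z.1 with h | h <;> rw [h] <;> decide
  rw [mem_tp, Emb.pl, Emb.pl, mem_preimage, mem_preimage, sw', mem_image]
  change _ ↔ (z.2, fl (-1 * z.1) false) ∈ u
  rw [k]
  refine ⟨?_, fun h => ⟨_, h, Prod.ext rfl (Bool.not_not _)⟩⟩
  rintro ⟨a, ha, e⟩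
  obtain ⟨e1, e2⟩ := Prod.mk.inj e
  rwa [← e1, ← e2, Bool.not_not]

theorem map_pl (u : Finset Pt) : ((embB hκ).pl u).map (embB hκ).ι = u :=
  (embB hκ).map_pl (by rcases hκ with rfl | rfl <;> exact nofun)

variable {k : ℕ} [NeZero k] {η : ℤˣ}

theorem rn_sw (u : Finset Pt) (ρ : Fin k × ℤˣ) : (embB hκ).rn k η (sw' u) ρ = (embB hκ).rn k η u (ρ.1, -ρ.2) := by
  rw [Emb.rn, pl_sw, rn_tp, neg_one_mul, Emb.rn]

theorem wt_sw (u : Finset Pt) : (embB hκ).wt k η (sw' u) = (embB hκ).wt k η u := by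
  rw [Emb.wt, Emb.rn, pl_sw, wg_tp, Emb.wt, Emb.rn]

theorem co_sw (u : Finset Pt) : (embB hκ).co k η (sw' u) = sw' ((embB hκ).co k η u) := by
  rw [← map_pl hκ (sw' (Emb.co _ k η u)), pl_sw, Emb.co, Emb.co, pl_sw, co_tp, Emb.pl_map]

end two

end Cfsg.Agent.MO.Cb
end

-- part: MO/Tri/Ext
section
/-!
# MO/Tri: extensions, and the inputs for all automorphisms (helper92)

* `ext_q` : extension to a quotient, if a subgroup of index at most two is abelian modulo `D` and all traces are `1`;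
* `Cn.rep`, `BtG.rep`, `BtL.rep`, `TrEqS.rep` : from the representatives to all automorphisms;
* `TrEqS.cn`, `TrEqS.btL` : the inputs of `BoxTri` from the traces.
-/

set_option autoImplicit false
set_option maxHeartbeats 400000

namespace Cfsg.Agent.MO.Tri

open Cfsg Subgroup Cfsg.Agent.Characters.Core Cfsg.Agent.MO.B Cfsg.Agent.MO.Om

/-- **extension to a quotient** -/
theorem ext_q {D K Q : Type} [Group D] [Finite D] [Group K] [Group Q] (i : D →* K) (ac : K →* MulAut D) (κ : K →* Q)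
    (hκ : Function.Surjective κ) (hi : ∀ k d, k * i d * k⁻¹ = i (ac k d)) {θ : D → ℂ} (hθ : IsIrrCharacter D θ)
    (hk : ∀ d, κ (i d) = 1 → θ d = θ 1) (hv : ∀ k d, θ (ac k d) = θ d) (A : Subgroup K)
    (h2 : ∀ a b, a ∉ A → b ∉ A → a * b ∈ A) (hA : ∀ a ∈ A, ∀ b ∈ A, ∃ m, a * b * a⁻¹ * b⁻¹ = i m)
    (ho : ∀ a b m, κ (a * b * a⁻¹ * b⁻¹) = κ (i m) → ∃ m, a * b * a⁻¹ * b⁻¹ = i m)
    (hβ : ∀ a b m, a * b * a⁻¹ * b⁻¹ = i m → Om θ (ac a) (ac b) m = 1) :
    ∃ Ψ, IsCharacter Q Ψ ∧ ∀ d, Ψ (κ (i d)) = θ d := by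
  let f := (κ.comp i).rangeRestrict
  have hf : Function.Surjective f := (κ.comp i).rangeRestrict_surjective
  have : Finite (κ.comp i).range := Finite.of_surjective f hf
  have e1 : ∀ k d, κ k * κ (i d) * (κ k)⁻¹ = κ (i (ac k d)) := fun k d => by rw [← hi, map_mul, map_mul, map_inv]
  have : (κ.comp i).range.Normal := ⟨by
    rintro _ ⟨d, rfl⟩ x
    obtain ⟨k, rfl⟩ := hκ x
    exact ⟨ac k d, (e1 k d).symm⟩⟩
  have e2 : ∀ k d, f (ac k d) = MulAut.conjNormal (κ k) (f d) := fun k d => Subtype.ext (e1 k d).symm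
  obtain ⟨ξ, hξ, e⟩ := ODD.Red.exists_quot f hf hθ fun d hd => hk d (congrArg Subtype.val hd)
  have e3 : ∀ k u, ξ (MulAut.conjNormal (κ k) u) = ξ u := fun k u => by
    obtain ⟨d, rfl⟩ := hf u
    rw [← e2, e, e, hv]
  have e4 : ∀ a b m, a * b * a⁻¹ * b⁻¹ = i m → κ a * κ b * (κ a)⁻¹ * (κ b)⁻¹ = f m ∧
      Om ξ (MulAut.conjNormal (H := (κ.comp i).range) (κ a)) (MulAut.conjNormal (H := (κ.comp i).range) (κ b)) (f m) = 1 :=
    fun a b m h => by
      have h1 : κ a * κ b * (κ a)⁻¹ * (κ b)⁻¹ = f m := by rw [← map_inv, ← map_inv, ← map_mul, ← map_mul, ← map_mul, h]; rfl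
      refine ⟨h1, ?_⟩
      rw [om_res hξ (e3 a) (e3 b) (by rw [← MulAut.conjNormal_val, ← h1]; simp only [map_mul, map_inv]) f
        (by rwa [funext e]) (e2 a) (e2 b) (n := m) (c := 1) fun _ => by rw [one_mul, map_mul], funext e, hβ a b m h, one_mul]
  have : A.Normal := ⟨fun a ha g => by
    by_cases hg : g ∈ A
    · exact mul_mem (mul_mem hg ha) (inv_mem hg)
    · exact h2 _ _ (fun e => hg ((mul_mem_cancel_right ha).1 e)) fun e => hg (inv_mem_iff.1 e)⟩
  have := this.map κ hκ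
  obtain ⟨g, hg⟩ : ∃ g, ∀ x, ∃ a ∈ A, ∃ j : ℤ, x = a * g ^ j := by
    by_cases h : ∀ g, g ∈ A
    · exact ⟨1, fun x => ⟨x, h x, 0, by simp⟩⟩
    obtain ⟨g, hg⟩ := not_forall.1 h
    refine ⟨g, fun x => ?_⟩
    by_cases hx : x ∈ A
    · exact ⟨x, hx, 0, by simp⟩
    · exact ⟨_, h2 _ _ hx fun e => hg (inv_mem_iff.1 e), 1, by simp⟩
  obtain ⟨Ψ, h1, h3⟩ := Lc.ext_of_om (Lc.nl_sub (κ.comp i).range) hξ (fun x u => by obtain ⟨k, rfl⟩ := hκ x; exact e3 k u)
    (A.map κ) (κ g) (fun x => by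
      obtain ⟨k, rfl⟩ := hκ x
      obtain ⟨a, ha, j, rfl⟩ := hg k
      exact ⟨_, ⟨a, ha, rfl⟩, j, by rw [map_mul, map_zpow]⟩) (by
      rintro _ ⟨a, ha, rfl⟩ _ ⟨b, hb, rfl⟩
      exact (hA a ha b hb).elim fun m hm => ⟨f m, e4 a b m hm⟩) (by
      rintro _ ⟨a, -, rfl⟩ u hu
      obtain ⟨m, rfl⟩ := hf u
      obtain ⟨m', hm⟩ := ho g a m (by rw [map_mul, map_mul, map_mul, map_inv, map_inv]; exact hu)
      rw [show f m = f m' from Subtype.ext (hu.symm.trans (e4 g a m' hm).1)]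
      exact (e4 g a m' hm).2)
  exact ⟨Ψ, h1, fun d => (h3 (f d)).trans (e d)⟩

section rep

variable {D : Type} [Group D]

theorem aut_mem {ξ : D → ℂ} {a : MulAut D} : aut a ∈ _root_.Cfsg.Agent.MO.Om.Fix ξ ↔ ∀ u, ξ (a u) = ξ u :=
  mem_Fix.trans (forall_congr' fun _ => by rw [aut_z, Units.val_one, one_mul, aut_α])

theorem comm_aut {a b : MulAut D} {m : D} (h : a * b * a⁻¹ * b⁻¹ = MulAut.conj m) :
    aut a * aut b * (aut a)⁻¹ * (aut b)⁻¹ = inn m := by
  rw [← map_inv, ← map_inv, ← map_mul, ← map_mul, ← map_mul, h]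
  rfl

theorem comm_rep {a b : MulAut D} {m : D} (h : a * b * a⁻¹ * b⁻¹ = MulAut.conj m) (s t : D) :
    MulAut.conj s * a * (MulAut.conj t * b) * (MulAut.conj s * a)⁻¹ * (MulAut.conj t * b)⁻¹ =
      MulAut.conj ((MulAut.conj s * a) t * (s * m * (b s)⁻¹) * t⁻¹) :=
  congrArg Tw.α (comm_mul_inn (comm_inn_mul (comm_aut h) s) t)

theorem omT_rep [Finite D] (ξ : D → ℂ) (a b : MulAut D) (s t m : D) :
    OmT ξ (aut (MulAut.conj s * a)) (aut (MulAut.conj t * b)) ((MulAut.conj s * a) t * (s * m * (b s)⁻¹) * t⁻¹) =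
      OmT ξ (aut a) (aut b) m := by
  have h1 := omT_mul_inn ξ (aut (MulAut.conj s * a)) (aut b) t (s * m * (b s)⁻¹)
  have h2 := omT_inn_mul ξ (aut a) (aut b) s m
  rw [aut_z, Units.val_one, one_mul] at h2
  rw [aut_z, inv_one, Units.val_one, one_mul] at h1
  rw [map_mul aut (MulAut.conj t), ← h2]
  exact h1.trans (by rw [map_mul aut]; rfl)

theorem fix_rep {ξ : D → ℂ} (hξ : IsClassFunction D ξ) {a : MulAut D} (s : D) :
    aut (MulAut.conj s * a) ∈ _root_.Cfsg.Agent.MO.Om.Fix ξ ↔ aut a ∈ _root_.Cfsg.Agent.MO.Om.Fix ξ := by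
  rw [map_mul]
  exact mul_mem_cancel_left (inn_mem hξ s)

theorem omT_conj [Finite D] {ξ : D → ℂ} (hξ : IsIrrCharacter D ξ) (a b : MulAut D) (m : D) :
    starRingEnd ℂ (OmT ξ (aut a) (aut b) m) = OmT ξ (aut b) (aut a) m⁻¹ := by
  have := Fintype.ofFinite D
  have h := isCharacter_apply_inv (isIrr_isCharacter hξ)
  rw [omT_aut, omT_aut, om_def, om_def, Finset.sum_comm, map_mul, map_mul, ← h, inv_one, map_inv₀, map_pow, map_natCast, map_sum]
  refine congrArg _ (Finset.sum_congr rfl fun u _ => ?_)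
  rw [map_sum]
  refine Finset.sum_congr rfl fun v _ => ?_
  rw [← h]
  congr 1
  group

theorem TT_card [Finite D] {S : Set (D → ℂ)} (h : Irs S) {a b : Tw D} {m : D} (e : ∀ χ ∈ S, OmT χ a b m = 1) :
    TT S a b m = Nat.card S := by
  rw [Nat.card_coe_set_eq, Set.ncard_eq_toFinset_card _ h.finite, Finset.card_eq_sum_ones, Nat.cast_sum, Nat.cast_one]
  exact (finsum_mem_eq_finite_toFinset_sum _ h.finite).trans
    (Finset.sum_congr rfl fun χ hχ => e χ (h.finite.mem_toFinset.1 hχ))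

theorem eq_one_of_TT [Finite D] {S : Set (D → ℂ)} (h : Irs S) {a b : Tw D} {m : D}
    (e : ∀ χ ∈ S, OmT χ a b m * starRingEnd ℂ (OmT χ a b m) = 1) (h1 : TT S a b m = Nat.card S) :
    ∀ χ ∈ S, OmT χ a b m = 1 := fun χ hχ => by
  have h2 : ∀ χ ∈ S, Complex.normSq (OmT χ a b m) = 1 := fun χ hχ => by
    have h3 := e χ hχ
    rwa [Complex.mul_conj, Complex.ofReal_eq_one] at h3
  rw [Nat.card_coe_set_eq, Set.ncard_eq_toFinset_card _ h.finite, Finset.card_eq_sum_ones, Nat.cast_sum, Nat.cast_one] at h1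
  have h3 := congrArg Complex.re ((finsum_mem_eq_finite_toFinset_sum _ h.finite).symm.trans h1)
  rw [Complex.re_sum, Complex.re_sum] at h3
  have h4 := (Finset.sum_eq_sum_iff_of_le fun ψ hψ => by
    have h5 := h2 ψ (h.finite.mem_toFinset.1 hψ)
    rw [Complex.normSq_apply] at h5
    rw [Complex.one_re]
    linarith only [h5, mul_self_nonneg (OmT ψ a b m).im, mul_self_nonneg ((OmT ψ a b m).re - 1)]).1 h3 χ (h.finite.mem_toFinset.2 hχ)
  have h5 := h2 χ hχ
  rw [Complex.normSq_apply, h4, Complex.one_re, mul_one, add_eq_left, mul_self_eq_zero] at h5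
  exact Complex.ext h4 h5

variable {p : ℕ} {G M : Subgroup D} {E E' : Set (MulAut D)}

theorem Cn.rep (h : Cn p M E) (hr : ∀ σ ∈ E', ∃ m ∈ M, ∃ e ∈ E, σ = MulAut.conj m * e) : Cn p M E' := fun S hS => by
  refine Eq.trans (Nat.card_congr (Equiv.subtypeEquivRight fun χ => and_congr_right fun hχ => ?_))
    ((h {e | e ∈ E ∧ ∃ m ∈ M, MulAut.conj m * e ∈ S} fun _ he => he.1).trans
      (Nat.card_congr (Equiv.subtypeEquivRight fun ψ => and_congr_right fun hψ => ?_)))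
  · have c := isIrr_isClassFunction hχ.1.1
    refine ⟨fun k e ⟨_, m, _, he⟩ t => (c _ m).symm.trans (k _ he t), fun k σ hσ t => ?_⟩
    obtain ⟨m, hm, e, he, rfl⟩ := hr σ (hS hσ)
    exact (c _ m).trans (k e ⟨he, m, hm, hσ⟩ t)
  · have c := isIrr_isClassFunction hψ.1.1
    refine ⟨fun k σ hσ y y' hy => ?_, fun k e ⟨_, m, hm, he⟩ y y' hy => (c _ ⟨m, hm⟩).symm.trans
      (k _ he y _ (congrArg (m * · * m⁻¹) hy))⟩
    obtain ⟨m, hm, e, he, rfl⟩ := hr σ (hS hσ)
    refine (c _ ⟨m, hm⟩⁻¹).symm.trans (k e ⟨he, m, hm, hσ⟩ y _ ?_)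
    simp only [hy, mul_assoc, _root_.inv_inv, _root_.Subgroup.coe_mul, _root_.InvMemClass.coe_inv, _root_.MulAut.mul_apply, _root_.MulAut.conj_apply, _root_.inv_mul_cancel, _root_.mul_one, _root_.inv_mul_cancel_left]

variable [Finite D]

theorem BtG.rep (h : BtG p E) (hr : ∀ σ ∈ E', ∃ m, ∃ e ∈ E, σ = MulAut.conj m * e) : BtG p E' := by
  intro χ hχ a ha b hb m hm h1 h2
  have c := isIrr_isClassFunction hχ.1.1
  obtain ⟨s, e, he, e1⟩ := hr a ha
  obtain ⟨t, e', he', e2⟩ := hr b hb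
  rw [← inv_mul_eq_iff_eq_mul, ← map_inv] at e1 e2
  subst e1 e2
  exact (omT_rep χ a b _ _ m).symm.trans (h χ hχ _ he _ he' _ (comm_rep hm _ _) ((fix_rep c _).2 h1) ((fix_rep c _).2 h2))

omit [Finite D] in
theorem rs_rep {a : MulAut D} {a' : MulAut M} (h : Rs M (aut a) (aut a')) (s : M) :
    Rs M (aut (MulAut.conj (s : D) * a)) (aut (MulAut.conj s * a')) := by
  rw [map_mul, map_mul]
  exact (rs_inn s).mul h

theorem BtL.rep (h : BtL p M E) (hr : ∀ σ ∈ E', ∃ m ∈ M, ∃ e ∈ E, σ = MulAut.conj m * e) : BtL p M E' := by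
  intro ψ hψ a ha b hb a' b' m ra rb hm h1 h2
  have c := isIrr_isClassFunction hψ.1.1
  obtain ⟨s, hs, e, he, e1⟩ := hr a ha
  obtain ⟨t, ht, e', he', e2⟩ := hr b hb
  rw [← inv_mul_eq_iff_eq_mul, ← map_inv] at e1 e2
  subst e1 e2
  have ra' := rs_rep ra ⟨s, hs⟩⁻¹
  refine (omT_rep ψ a' b' ⟨s, hs⟩⁻¹ ⟨t, ht⟩⁻¹ m).symm.trans (h ψ hψ _ he _ he' _ _ _ ra' (rs_rep rb _)
    ((comm_rep hm _ _).trans (congrArg _ ?_)) ((fix_rep c _).2 h1) ((fix_rep c _).2 h2))
  exact (congrArg₂ (fun x y => x * (s⁻¹ * m * y⁻¹) * t⁻¹⁻¹) (ra' ⟨t, ht⟩⁻¹).2 (rb ⟨s, hs⟩⁻¹).2).symm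

theorem TrEqS.rep (h : TrEqS p G M E) (hr : ∀ σ ∈ E', ∃ m ∈ M, ∃ e ∈ E, σ = MulAut.conj m * e) : TrEqS p G M E' := by
  intro S ω a b a' b' m hS ha hb ra rb e
  have k : ∀ {a : Tw D}, Adm G E' a → ∃ g : M, Adm G E (inn (g : D) * a) := fun {a} ha => by
    obtain ⟨g, hg, σ, hσ, e⟩ := hr _ ha.2
    refine ⟨⟨g, hg⟩⁻¹, fun u hu => (inn_mul_z _ _ _).trans (ha.1 u hu), ?_⟩
    rwa [Tw.mul_α, e, inn_α, coe_inv, map_inv, inv_mul_cancel_left]
  obtain ⟨g, ha⟩ := k ha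
  obtain ⟨g', hb⟩ := k hb
  choose γ hγ using fun x : S => k (hS x x.2).1
  have ra' := (rs_inn g).mul ra
  have e1 := h (Set.range fun x : S => (inn (γ x : D) * x.1.1, inn (γ x) * x.1.2)) ω _ _ _ _
    ((inn g * a').α g' * (g * m * (b'.α g)⁻¹) * g'⁻¹) (Set.forall_mem_range.2 fun x => ⟨hγ x, (rs_inn _).mul (hS x x.2).2⟩)
    ha hb ra' ((rs_inn g').mul rb) (by
    rw [comm_mul_inn (comm_inn_mul e g), ← (rb g).2, ← (ra' g').2]
    rfl)
  have f1 : ∀ {A : Type} [Group A] [Finite A] {T : Set (A → ℂ)} {Q : (A → ℂ) → Prop}, Irs T → {χ | χ ∈ T ∧ Q χ}.Finite :=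
    fun h => h.finite.subset fun _ h => h.1
  rw [TT_mul_inn (f1 (irs_PT0 _ _ _)), TT_inn_mul (f1 (irs_PT0 _ _ _)), coe_mul, coe_mul, coe_mul, coe_mul, coe_inv,
    coe_inv, (rb g).2, (ra' g').2, TT_mul_inn (f1 (irs_PT0 _ _ _)), TT_inn_mul (f1 (irs_PT0 _ _ _)), (rb g).1,
    (ra' g').1] at e1
  convert mul_left_cancel₀ (Units.ne_zero _) (mul_left_cancel₀ (Units.ne_zero _) e1) using 4 with χ ψ
  all_goals
    refine and_congr_right fun h => ?_
    simp only [Set.forall_mem_range, mul_mem_cancel_left (inn_mem (isIrr_isClassFunction h.1.1) _), Subtype.forall]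

theorem TrEqS.cn (h : TrEqS p G M E) (h1 : 1 ∈ E) (hr : ∀ σ ∈ E, ∃ σ', Rs M (aut σ) (aut σ')) : Cn p M E := fun S hS => by
  have e := h {x | Rs M x.1 x.2 ∧ ∃ σ ∈ S, x.1 = aut σ} 1 1 1 1 1 1
    (by rintro x ⟨h2, σ, h3, e⟩; exact ⟨e ▸ ⟨fun _ _ => rfl, hS h3⟩, h2⟩) ⟨fun _ _ => rfl, h1⟩ ⟨fun _ _ => rfl, h1⟩
    (fun _ => ⟨rfl, rfl⟩) (fun _ => ⟨rfl, rfl⟩) (by simp only [_root_.mul_one, _root_.inv_one, _root_.OneMemClass.coe_one, _root_.map_one])
  rw [coe_one, TT_card (fun _ h => h.1.1.1) fun _ h => omT_self h.1.1.1 (one_mem _),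
    TT_card (fun _ h => h.1.1.1) fun _ h => omT_self h.1.1.1 (one_mem _), Nat.cast_inj] at e
  refine Eq.trans (Nat.card_congr (Equiv.subtypeEquivRight fun χ => and_congr_right fun _ => ?_))
    (e.trans (Nat.card_congr (Equiv.subtypeEquivRight fun ψ => and_congr_right fun _ => ?_)))
  · refine ⟨fun k x ⟨_, σ, h3, e⟩ => e ▸ aut_mem.2 (k σ h3), fun k σ hσ => ?_⟩
    obtain ⟨σ', r⟩ := hr σ (hS hσ)
    exact aut_mem.1 (k (aut σ, aut σ') ⟨r, σ, hσ, rfl⟩)
  · refine ⟨fun k σ hσ y y' hy => ?_, fun k x ⟨r, σ, h3, e⟩ => mem_Fix.2 fun y => ?_⟩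
    · obtain ⟨σ', r⟩ := hr σ (hS hσ)
      rw [show y' = σ' y from Subtype.ext (hy.trans (r y).2.symm)]
      exact aut_mem.1 (k (aut σ, aut σ') ⟨r, σ, hσ, rfl⟩) y
    · rw [(r y).1, e, aut_z, Units.val_one, one_mul, k σ h3 y _ ((r y).2.trans (by rw [e]; rfl))]

theorem TrEqS.btL (h : TrEqS p G M E) (h1 : 1 ∈ E) (hG : BtG p E) : BtL p M E := by
  intro ψ hψ a ha b hb a' b' m ra rb hm k1 k2
  have hS : ∀ x ∈ ({(aut a, aut a'), (aut b, aut b')} : Set (Tw D × Tw M)), Adm G E x.1 ∧ Rs M x.1 x.2 := by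
    rintro x (rfl | rfl)
    exacts [⟨⟨fun _ _ => rfl, ha⟩, ra⟩, ⟨⟨fun _ _ => rfl, hb⟩, rb⟩]
  have e := h _ 1 1 1 1 1 1 hS ⟨fun _ _ => rfl, h1⟩ ⟨fun _ _ => rfl, h1⟩ (fun _ => ⟨rfl, rfl⟩) (fun _ => ⟨rfl, rfl⟩) (by simp)
  have e' := h _ 1 _ _ _ _ m hS ⟨fun _ _ => rfl, ha⟩ ⟨fun _ _ => rfl, hb⟩ ra rb (comm_aut hm)
  rw [coe_one, TT_card (fun _ h => h.1.1.1) fun _ h => omT_self h.1.1.1 (one_mem _),
    TT_card (fun _ h => h.1.1.1) fun _ h => omT_self h.1.1.1 (one_mem _)] at e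
  rw [TT_card (fun _ h => h.1.1.1) fun χ h => hG χ h.1 a ha b hb m hm (h.2 _ (.inl rfl)) (h.2 _ (.inr rfl)), e] at e'
  refine eq_one_of_TT (fun _ h => h.1.1.1) (fun χ h => ?_) e'.symm ψ ⟨hψ, by rintro x (rfl | rfl); exacts [k1, k2]⟩
  rw [omT_conj h.1.1.1]
  exact omT_swap h.1.1.1 (h.2 _ (.inl rfl)) (h.2 _ (.inr rfl)) (ra.comm rb (comm_aut hm))

end rep

end Cfsg.Agent.MO.Tri
end

-- part: MO/Tri/Cl
section
/-!
# MO/Tri: Clifford and Gallagher from equal marks (helper92)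

`Sd Z V D` : the image of `D` is normal in `V` and meets `Z` trivially; `s.CS p` : the characters of the image;
`kk_cg` : equal numbers of fixed characters and extensions to the stabilisers give `kk W = kk U`.
-/

set_option autoImplicit false
set_option maxHeartbeats 400000

namespace Cfsg.Agent.MO.Tri

open Cfsg Subgroup Cfsg.Agent.Characters.Core Cfsg.Agent.H672
open Cfsg.Agent.MK (Ov deg_comp)
open Cfsg.Agent.MK.C (Nr exists_desc cen_of_over eq_of_prop index_comap_eq)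
open scoped ComplexConjugate

variable {P : Type} [Group P]

/-- one side -/
structure Sd (Z V : Subgroup P) (D : Type) [Group D] where
  f : D →* P
  φ : V → MulAut D
  mem : ∀ d, f d ∈ V
  zV : Z ≤ V
  cen : Z ≤ center P
  nr : ∀ (v : V) d, f (φ v d) = v * f d * (v : P)⁻¹
  ind : ∀ d, f d ∈ Z → f d = 1

namespace Sd

variable {Z V : Subgroup P} {D : Type} [Group D] (s : Sd Z V D)

/-- constant on the fibres -/
def Fc (θ : D → ℂ) : Prop := ∀ d d', s.f d = s.f d' → θ d = θ d'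

/-- the characters which matter -/
def CS (p : ℕ) : Set (D → ℂ) := {θ | PI p D θ ∧ s.Fc θ}

/-- fixed by `w` -/
def Fx (w : P) (θ : D → ℂ) : Prop := ∀ d d', s.f d' = w * s.f d * w⁻¹ → θ d' = θ d

variable {s} {θ : D → ℂ}

theorem Fc.fx (h : s.Fc θ) {v : V} : s.Fx v θ ↔ ∀ d, θ (s.φ v d) = θ d :=
  ⟨fun k d => k d _ (s.nr v d), fun k d _ e => (h _ _ (e.trans (s.nr v d).symm)).trans (k d)⟩

theorem Fc.cj (h : s.Fc θ) (v : V) : s.Fc fun d => θ (s.φ v d) := fun d d' e => h _ _ (by rw [s.nr, s.nr, e])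

theorem Fc.mul (h : s.Fc θ) (u v : V) (d : D) : θ (s.φ (u * v) d) = θ (s.φ u (s.φ v d)) :=
  h _ _ (by rw [s.nr, s.nr, s.nr, coe_mul]; group)

theorem Fc.one (h : s.Fc θ) (d : D) : θ (s.φ 1 d) = θ d := h _ _ (by rw [s.nr, coe_one]; group)

/-- the stabiliser -/
def st (h : s.Fc θ) : Subgroup V where
  carrier := {v | s.Fx v θ}
  one_mem' := h.fx.2 h.one
  mul_mem' {u v} hu hv := h.fx.2 fun d => by rw [h.mul, h.fx.1 hu, h.fx.1 hv]
  inv_mem' {u} hu := h.fx.2 fun d => by rw [← h.fx.1 hu, ← h.mul, mul_inv_cancel, h.one]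

/-- the character extends to its stabiliser, trivially on `Z` -/
def Ex (h : s.Fc θ) : Prop :=
  ∃ Ψ : st h → ℂ, IsCharacter _ Ψ ∧ ∀ (u : st h) (z : Z) (d : D), ((u : V) : P) = z * s.f d → Ψ u = θ d

variable (s)

/-- the product map -/
def q : Z × D →* V := MonoidHom.mk' (fun x => ⟨x.1 * s.f x.2, mul_mem (s.zV x.1.2) (s.mem _)⟩) fun x y => Subtype.ext (by
  change ((x.1 : P) * y.1) * s.f (x.2 * y.2) = x.1 * s.f x.2 * (y.1 * s.f y.2)
  rw [map_mul, mul_assoc, mul_assoc, ← mul_assoc (s.f x.2), mem_center_iff.1 (s.cen y.1.2) (s.f x.2), mul_assoc])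

theorem q_coe (x : Z × D) : (s.q x : P) = x.1 * s.f x.2 := rfl

theorem nrq : Nr s.q fun v x => (x.1, s.φ v x.2) := fun v x => Subtype.ext (by
  rw [q_coe, s.nr, coe_mul, coe_mul, q_coe, ← mul_assoc (v : P), mem_center_iff.1 (s.cen x.1.2) v, coe_inv]
  group)

theorem q_mem (hθ : IsClassFunction D θ) (h : s.Fc θ) (x : Z × D) : s.q x ∈ st h := fun d d' e => by
  rw [← hθ d x.2]
  refine h _ _ ?_
  rw [e, q_coe, map_mul, map_mul, map_inv, mul_assoc (x.1 : P), mul_assoc (x.1 : P), ← mem_center_iff.1 (s.cen x.1.2)]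
  group

include s in
theorem cen_D (z : Z) : ((z, 1) : Z × D) ∈ center _ :=
  mem_center_iff.2 fun d => Prod.ext (Subtype.ext (mem_center_iff.1 (s.cen z.2) d.1)) (by simp)

theorem cen_V (z : Z) : s.q (z, 1) ∈ center V := mem_center_iff.2 fun v => Subtype.ext (by
  rw [coe_mul, coe_mul, q_coe, map_one, mul_one]
  exact mem_center_iff.1 (s.cen z.2) v)

end Sd

/-- the product character -/
noncomputable def Th {Z D : Type} [Group Z] (m : Z →* ℂˣ) (θ : D → ℂ) : Z × D → ℂ := fun x => m x.1 * θ x.2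

theorem Th_snd {Z D : Type} [Group Z] (m : Z →* ℂˣ) (θ : D → ℂ) (d : D) : Th m θ (1, d) = θ d := by simp [Th]

variable [Finite P] {p : ℕ} {Z V : Subgroup P} {D : Type} [Group D] [Finite D] {l : P → ℂ} {m : Z →* ℂˣ} {θ θ' : D → ℂ}

theorem Th_irr (m : Z →* ℂˣ) (h : IsIrrCharacter D θ) : IsIrrCharacter _ (Th m θ) := S0188.isIrr_outer (isIrr_lf m) h

omit [Finite P] [Finite D] in
theorem Th_deg (m : Z →* ℂˣ) (θ : D → ℂ) : charDegree (Th m θ) = charDegree θ :=
  (deg_comp (MonoidHom.inr Z D) (Th m θ)).symm.trans (congrArg charDegree (funext (Th_snd m θ)))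

namespace Sd

variable (s : Sd Z V D)

omit [Finite P] [Finite D] in
theorem mem_st (m : Z →* ℂˣ) (h : s.Fc θ) (v : V) : v ∈ st h ↔ ∀ x : Z × D, Th m θ (x.1, s.φ v x.2) = Th m θ x :=
  h.fx.trans ⟨fun k x => congrArg (_ * ·) (k x.2), fun k d => by simpa only [Th_snd] using k (1, d)⟩

theorem ov_of_over (hm : ∀ z : Z, l z = m z) {χ : V → ℂ} (hχ : IsIrrCharacter V χ) (h : IsIrrCharacter D θ)
    (ho : Over s.q χ (Th m θ)) : Ov V Z l χ := fun u hu => by
  have h1 := cen_of_over hχ (Th_irr m h) ho (s.cen_D ⟨u, hu⟩) (s.cen_V _)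
  rw [show s.q (⟨u, hu⟩, 1) = u from Subtype.ext (by rw [q_coe, map_one, mul_one]), show Th m θ 1 = θ 1 from Th_snd m θ 1] at h1
  refine mul_right_cancel₀ (isIrr_apply_one_ne_zero h) (h1.symm.trans ?_)
  rw [hm ⟨u, hu⟩, Th]
  ring

theorem under (hm : ∀ z : Z, l z = m z) {χ : V → ℂ} (hχ : PI p V χ) (hl : Ov V Z l χ) :
    ∃ θ ∈ s.CS p, Over s.q χ (Th m θ) := by
  obtain ⟨Θ, hΘ, ho, hd⟩ := exists_under_not_dvd s.q hχ.1 hχ.2
  obtain ⟨μ, ψ, hμ, hψ, e⟩ := (S0188.result Θ).1 hΘ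
  have h1 : μ = lf m := eq_of_prop hμ (isIrr_lf m) (mul_ne_zero (isIrr_apply_one_ne_zero hψ) hχ.one_ne)
    (b := χ 1 * Θ 1) fun z => by
      have h2 := cen_of_over hχ.1 hΘ ho (s.cen_D z) (s.cen_V z)
      have h3 : (s.q (z, 1) : P) = z := by rw [q_coe, map_one, mul_one]
      rw [hl (s.q (z, 1)) (h3.symm ▸ z.2), h3] at h2
      rw [lf_apply, ← hm, ← mul_assoc, ← mul_assoc]
      refine Eq.trans ?_ h2
      rw [e]
  obtain rfl : Θ = Th m ψ := by rw [e, h1]; rfl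
  obtain ⟨ϑ, -, h2, -⟩ := exists_desc s.q hχ.1 hΘ ho
  refine ⟨ψ, ⟨⟨hψ, Th_deg m ψ ▸ hd⟩, fun d d' h => ?_⟩, ho⟩
  rw [← Th_snd m ψ, ← Th_snd m ψ, ← h2]
  exact congrArg ϑ (Subtype.ext (Subtype.ext (congrArg (_ * ·) h)))

theorem over_iff {χ : V → ℂ} (hχ : IsIrrCharacter V χ) (h : IsIrrCharacter D θ) (h' : IsIrrCharacter D θ')
    (ho : Over s.q χ (Th m θ)) : Over s.q χ (Th m θ') ↔ ∃ v, θ' = fun d => θ (s.φ v d) :=
  ⟨fun ho' => (s.nrq.exists_conj hχ (Th_irr m h) (Th_irr m h') ho ho').imp fun v hv =>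
    funext fun d => by simpa only [Th_snd] using hv (1, d),
   fun ⟨v, hv⟩ => s.nrq.over_conj hχ (Th_irr m h) ho v fun _ => by rw [hv]; rfl⟩

omit [Finite P] in
theorem cj_mem (h : θ ∈ s.CS p) (v : V) : (fun d => θ (s.φ v d)) ∈ s.CS p :=
  ⟨h.1.comp (s.φ v).toMonoidHom (s.φ v).surjective, h.2.cj v⟩

variable (p) in
/-- the action of a subgroup -/
@[reducible] def act {U : Subgroup P} (h : U ≤ V) : MulAction U (s.CS p) where
  smul u θ := ⟨_, s.cj_mem θ.2 (inclusion h u⁻¹)⟩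
  one_smul θ := Subtype.ext (funext fun d => by
    change θ.1 (s.φ (inclusion h 1⁻¹) d) = _
    rw [inv_one, map_one, θ.2.2.one])
  mul_smul u v θ := Subtype.ext (funext fun d => by
    change θ.1 (s.φ (inclusion h (u * v)⁻¹) d) = θ.1 (s.φ _ (s.φ _ d))
    rw [mul_inv_rev, map_mul, θ.2.2.mul])

omit [Finite P] in
theorem act_inv {U : Subgroup P} (h : U ≤ V) (u : U) (θ : s.CS p) :
    (@HSMul.hSMul _ _ _ (@instHSMul _ _ (s.act p h).toSMul) u⁻¹ θ).1 = fun d => θ.1 (s.φ (inclusion h u) d) :=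
  congrArg (fun v d => θ.1 (s.φ (inclusion h v) d)) (inv_inv u)

omit [Finite P] in
theorem mark_act {U : Subgroup P} (h : U ≤ V) (L : Subgroup U) : @H980.mark _ _ _ (s.act p h) L =
    Nat.card {θ // θ ∈ s.CS p ∧ ∀ u ∈ L.map U.subtype, s.Fx u θ} := by
  refine Nat.card_congr ⟨fun θ => ⟨θ.1.1, θ.1.2, ?_⟩, fun θ => ⟨⟨θ.1, θ.2.1⟩, fun u hu => ?_⟩, fun _ => rfl, fun _ => rfl⟩
  · rintro _ ⟨u, hu, rfl⟩
    exact (θ.1.2.2.fx (v := inclusion h u)).2
      (congrFun ((s.act_inv h u θ.1).symm.trans (congrArg Subtype.val (θ.2 u⁻¹ (inv_mem hu)))))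
  · exact Subtype.ext (funext ((θ.2.1.2.fx (v := inclusion h u⁻¹)).1 (θ.2.2 _ ⟨u⁻¹, inv_mem hu, rfl⟩)))

end Sd

variable [Fact p.Prime] {W U : Subgroup P} {E : Type} [Group E] [Finite E] (s : Sd Z W D) (s' : Sd Z U E) (hU : U ≤ W)
  (dec : ∀ w ∈ W, ∃ d, ∃ u ∈ U, w = s.f d * u) (sub : ∀ e, ∃ d, s.f d = s'.f e) (int : ∀ d, s.f d ∈ U → ∃ e, s'.f e = s.f d)

include hU dec sub int in
theorem fibre (m : Z →* ℂˣ) {ψ : E → ℂ} (h : θ ∈ s.CS p) (h' : ψ ∈ s'.CS p) (hT : ∀ u ∈ U, s.Fx u θ ↔ s'.Fx u ψ)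
    (x : Sd.Ex h.2) (x' : Sd.Ex h'.2) :
    Nat.card {χ : W → ℂ // PI p W χ ∧ Over s.q χ (Th m θ)} = Nat.card {η : U → ℂ // PI p U η ∧ Over s'.q η (Th m ψ)} := by
  obtain ⟨Ψ, c1, x⟩ := x
  obtain ⟨Ψ', c2, x'⟩ := x'
  have k := s.q_mem (isIrr_isClassFunction h.1.1) h.2
  have k' := s'.q_mem (isIrr_isClassFunction h'.1.1) h'.2
  have hc : ∀ (z : Z) (y : P), y * z = z * y := fun z => mem_center_iff.1 (s.cen z.2)
  let F : Subgroup (Sd.st h.2 × Sd.st h'.2 × Z) :=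
    { carrier := {y | ∃ d, (y.1 : P) = s.f d * y.2.1 * y.2.2}
      one_mem' := ⟨1, by simp only [_root_.Prod.fst_one, _root_.OneMemClass.coe_one, _root_.map_one, _root_.Prod.snd_one, _root_.mul_one]⟩
      mul_mem' := fun {a b} ⟨d, e⟩ ⟨d', e'⟩ => ⟨d * s.φ (inclusion hU a.2.1) d', by
        simp only [Prod.fst_mul, Prod.snd_mul, coe_mul, map_mul, s.nr, e, e', coe_inclusion]
        rw [mul_assoc _ (a.2.2 : P), ← hc a.2.2, mul_assoc _ (b.2.2 : P), hc a.2.2 b.2.2]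
        group⟩
      inv_mem' := fun {a} ⟨d, e⟩ => ⟨s.φ (inclusion hU a.2.1)⁻¹ d⁻¹, by
        simp only [Prod.fst_inv, Prod.snd_inv, coe_inv, map_inv, s.nr, e, coe_inclusion]
        rw [mul_inv_rev, ← coe_inv Z a.2.2, ← hc]
        group⟩ }
  let p1 : F →* Sd.st h.2 := (MonoidHom.fst _ _).comp F.subtype
  let p2 : F →* Sd.st h'.2 := (MonoidHom.fst _ _).comp (((MonoidHom.snd _ _).comp F.subtype :))
  let p3 : F →* Z := (MonoidHom.snd _ _).comp ((MonoidHom.snd _ _).comp F.subtype)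
  let σ : Z × D →* F := ((s.q.codRestrict _ k).prod (MonoidHom.prod 1 (MonoidHom.fst _ _))).codRestrict F fun y =>
    ⟨y.2, by
      change (y.1 : P) * s.f y.2 = s.f y.2 * 1 * y.1
      rw [mul_one, hc]⟩
  let iv : Z →* Z := MonoidHom.mk' (·⁻¹) fun a b => by rw [← mul_inv_rev]; exact congrArg _ (Subtype.ext (hc b a))
  let τ : Z × E →* F := (MonoidHom.prod 1 ((s'.q.codRestrict _ k').prod (iv.comp (MonoidHom.fst _ _)))).codRestrict F fun y =>
    (sub y.2⁻¹).imp fun d e => by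
      change (1 : P) = s.f d * (y.1 * s'.f y.2) * (y.1 : P)⁻¹
      rw [e, ← hc, map_inv]
      group
  have r1 : ((Sd.st h.2).subtype.comp p1).range = Sd.st h.2 := by
    refine le_antisymm (by rintro _ ⟨y, rfl⟩; exact y.1.1.2) fun a ha => ?_
    obtain ⟨d, u, hu, e⟩ := dec a a.2
    have h1 : a = s.q (1, d) * inclusion hU ⟨u, hu⟩ := Subtype.ext (e.trans (congrArg (· * u) (one_mul _).symm))
    exact ⟨⟨(⟨a, ha⟩, ⟨⟨u, hu⟩, (hT u hu).1 ((mul_mem_cancel_left (k _)).1 (h1 ▸ ha) :)⟩, 1), d, e.trans (mul_one _).symm⟩, rfl⟩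
  have r2 : ((Sd.st h'.2).subtype.comp p2).range = Sd.st h'.2 :=
    le_antisymm (by rintro _ ⟨y, rfl⟩; exact y.1.2.1.2) fun u hu =>
      ⟨⟨(⟨inclusion hU u, (hT u u.2).2 hu⟩, ⟨u, hu⟩, 1), 1, by simp only [_root_.Subgroup.coe_inclusion, _root_.map_one, _root_.one_mul, _root_.OneMemClass.coe_one, _root_.mul_one]⟩, rfl⟩
  have r3 : (Sd.st h'.2).index = (Sd.st h.2).index := by
    rw [← index_comap_eq (inclusion hU) (Sd.st h.2) fun a => by
      obtain ⟨d, u, hu, e⟩ := dec a a.2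
      exact ⟨_, k (1, d), ⟨u, hu⟩, Subtype.ext (e.trans (congrArg (· * u) (one_mul _).symm))⟩]
    exact congrArg index (Subgroup.ext fun u => (hT u u.2).symm)
  refine C.pair ((Sd.st h.2).subtype.comp p1) ((Sd.st h'.2).subtype.comp p2) σ τ ?_ ?_ s.nrq s'.nrq (Th_irr m h.1.1)
    (Th_irr m h'.1.1) (fun a => by rw [r1, s.mem_st m]) (fun b => by rw [r2, s'.mem_st m])
    (Ψ := lf m ∘ p3 * (Ψ ∘ p1 * fun y => conj ((Ψ' ∘ p2) y)))
    (isCharacter_mul (isCharacter_comp p3 (isCharacter_lf m)) (isCharacter_mul (isCharacter_comp p1 c1)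
      (isCharacter_conj (isCharacter_comp p2 c2)))) (fun d => ?_) (fun e => ?_) ?_
  · refine le_antisymm (by rintro _ ⟨y, rfl⟩; rfl) ?_
    rintro ⟨⟨a, b, z⟩, d, e⟩ hy
    obtain rfl : b = 1 := Subtype.ext hy
    exact ⟨(z, d), Subtype.ext (Prod.ext (Subtype.ext (Subtype.ext ((hc _ _).symm.trans (by simpa only [_root_.OneMemClass.coe_one, _root_.mul_one] using e.symm)))) rfl)⟩
  · refine le_antisymm (by rintro _ ⟨y, rfl⟩; rfl) ?_
    rintro ⟨⟨a, b, z⟩, d, e⟩ hy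
    obtain rfl : a = 1 := Subtype.ext hy
    have e1 : s.f d⁻¹ = (b : P) * z := by rw [map_inv, inv_eq_iff_mul_eq_one, ← mul_assoc]; exact e.symm
    obtain ⟨y, hy⟩ := int d⁻¹ (e1 ▸ mul_mem b.1.2 (s'.zV z.2))
    refine ⟨(z⁻¹, y), Subtype.ext (Prod.ext rfl (Prod.ext (Subtype.ext (Subtype.ext ?_)) (inv_inv _)))⟩
    change (z : P)⁻¹ * s'.f y = b
    rw [hy, e1, hc, inv_mul_cancel_left]
  · change m d.1 * (Ψ _ * conj (Ψ' _)) = m d.1 * θ d.2 * conj (Th m ψ (1, 1))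
    rw [x _ d.1 d.2 rfl, x' _ 1 1 (by simp; rfl), Th_snd, mul_assoc]
  · change lf m e.1⁻¹ * (Ψ _ * conj (Ψ' _)) = Th m θ (1, 1) * conj (lf m e.1 * ψ e.2)
    rw [x' _ e.1 e.2 rfl, x _ 1 1 (by simp only [_root_.OneMemClass.coe_one, _root_.map_one, _root_.mul_one, _root_.OneMemClass.coe_eq_one]; rfl), Th_snd, isCharacter_apply_inv (isCharacter_lf m), map_mul, mul_left_comm]
  · rw [r1, r2, r3, nd_mul, nd_mul, Th_deg, Th_deg]
    exact and_congr_right fun _ => ⟨fun _ => h'.1.2, fun _ => h.1.2⟩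

include hU dec sub int in
/-- **Clifford and Gallagher** -/
theorem kk_cg (mk : ∀ L ≤ U, Nat.card {θ // θ ∈ s.CS p ∧ ∀ u ∈ L, s.Fx u θ} = Nat.card {ψ // ψ ∈ s'.CS p ∧ ∀ u ∈ L, s'.Fx u ψ})
    (x : ∀ θ (h : θ ∈ s.CS p), Sd.Ex h.2) (x' : ∀ ψ (h : ψ ∈ s'.CS p), Sd.Ex h.2) (l : P → ℂ) : kk p W Z l = kk p U Z l := by
  refine kk_eq_of_hom s.cen s.zV s'.zV fun m hm => ?_
  let _ := s.act p hU
  let _ := s'.act p le_rfl
  have : Finite (s.CS p) := MK.H.finite_sub fun _ h => h.1.1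
  have : Finite (s'.CS p) := MK.H.finite_sub fun _ h => h.1.1
  obtain ⟨e, he⟩ := H980.exists_equiv_of_mark_eq (D := U) (s.CS p) (s'.CS p) fun L => by
    rw [s.mark_act, s'.mark_act]
    exact mk _ (map_subtype_le L)
  have := MK.H.finite_sub (p := fun ψ => PI p W ψ ∧ Ov W Z l ψ) fun _ h => h.1.1
  have := MK.H.finite_sub (p := fun ψ => PI p U ψ ∧ Ov U Z l ψ) fun _ h => h.1.1
  refine RM.card_eq_of_fibers (MulAction.orbitRel U (s.CS p)) (fun χ y => Over s.q χ.1 (Th m y.1))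
    (fun η y => Over s'.q η.1 (Th m (e y).1)) (fun χ => ?_) (fun η => ?_) (fun χ y y' hy => ?_) (fun η y y' hy => ?_) fun y => ?_
  · obtain ⟨θ, h1, h2⟩ := s.under hm χ.2.1 χ.2.2
    exact ⟨⟨θ, h1⟩, h2⟩
  · obtain ⟨θ, h1, h2⟩ := s'.under hm η.2.1 η.2.2
    exact ⟨e.symm ⟨θ, h1⟩, by rwa [e.apply_symm_apply]⟩
  · rw [s.over_iff χ.2.1.1 y.2.1.1 y'.2.1.1 hy, (MulAction.orbitRel U _).comm', MulAction.orbitRel_apply]
    refine ⟨fun ⟨a, ha⟩ => ?_, fun ⟨u, hu⟩ => ⟨_, (congrArg Subtype.val hu).symm⟩⟩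
    obtain ⟨d, u, hu, e⟩ := dec a a.2
    refine ⟨⟨u, hu⟩⁻¹, Subtype.ext ((s.act_inv hU _ _).trans (funext fun d' => ?_))⟩
    rw [ha, show a = s.q (1, d) * inclusion hU ⟨u, hu⟩ from Subtype.ext (e.trans (congrArg (· * u) (one_mul _).symm))]
    exact ((y.2.2.mul _ _ _).trans (y.2.2.fx.1 (s.q_mem (isIrr_isClassFunction y.2.1.1) y.2.2 _) _)).symm
  · rw [s'.over_iff η.2.1.1 (e y).2.1.1 (e y').2.1.1 hy, (MulAction.orbitRel U _).comm', MulAction.orbitRel_apply]
    refine ⟨fun ⟨a, ha⟩ => ⟨a⁻¹, e.injective ((he _ _).trans (Subtype.ext ((s'.act_inv le_rfl _ _).trans ha.symm)))⟩,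
      fun ⟨u, hu⟩ => ⟨u⁻¹, ?_⟩⟩
    rw [← hu]
    exact congrArg Subtype.val (he u y)
  · refine Eq.trans (Nat.card_congr ?_) ((fibre s s' hU dec sub int m y.2 (e y).2 (fun u hu => ?_) (x _ y.2) (x' _ (e y).2)).trans
      (Nat.card_congr ?_))
    · exact ⟨fun χ => ⟨χ.1.1, χ.1.2.1, χ.2⟩, fun χ => ⟨⟨χ.1, χ.2.1, s.ov_of_over hm χ.2.1.1 y.2.1.1 χ.2.2⟩, χ.2.2⟩,
        fun _ => rfl, fun _ => rfl⟩
    · refine (y.2.2.fx (v := inclusion hU ⟨u, hu⟩)).trans (Iff.trans ?_ ((e y).2.2.fx (v := inclusion le_rfl ⟨u, hu⟩)).symm)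
      rw [← funext_iff, ← funext_iff, ← s.act_inv, ← s'.act_inv]
      exact ⟨fun k => congrArg Subtype.val ((he ⟨u, hu⟩⁻¹ y).symm.trans (congrArg e (Subtype.ext k))),
        fun k => congrArg Subtype.val (e.injective ((he ⟨u, hu⟩⁻¹ y).trans (Subtype.ext k)))⟩
    · exact ⟨fun η => ⟨⟨η.1, η.2.1, s'.ov_of_over hm η.2.1.1 (e y).2.1.1 η.2.2⟩, η.2.2⟩, fun η => ⟨η.1.1, η.1.2.1, η.2⟩,
        fun _ => rfl, fun _ => rfl⟩

end Cfsg.Agent.MO.Tri
end

-- part: MO/Tri/Rel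
section
/-!
# MO/Tri: the relative equality for an operator without fixed points (helper92)

`kk_rel` : `kk (D ⊔ A) = kk A` if an element of the normal Sylow subgroup has no fixed points on `D / D ⊓ A`;
`kk_loc` : the same for a pair of subgroups `M ≤ D`, `H ≤ A`.
-/

set_option autoImplicit false

namespace Cfsg.Agent.MO.Tri

open Cfsg Subgroup Cfsg.Agent.H672 Cfsg.Agent.H672.RM

variable {p n : ℕ} {P : Type} [Group P] {Z D A R M H : Subgroup P}

theorem mem_sup_nrm (h : A ≤ normalizer (D : Set P)) {w : P} : w ∈ D ⊔ A ↔ ∃ d ∈ D, ∃ a ∈ A, w = d * a := by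
  rw [← SetLike.mem_coe, coe_mul_of_right_le_normalizer_left _ _ h]
  exact ⟨fun ⟨d, hd, a, ha, e⟩ => ⟨d, hd, a, ha, e.symm⟩, fun ⟨d, hd, a, ha, e⟩ => ⟨d, hd, a, ha, e.symm⟩⟩

theorem mem_sup_cen (h : Z ≤ center P) {w : P} : w ∈ Z ⊔ A ↔ ∃ z ∈ Z, ∃ a ∈ A, w = z * a :=
  mem_sup_nrm fun a _ => mem_normalizer_iff.2 fun z => ⟨fun hz => by rwa [mem_center_iff.1 (h hz), mul_inv_cancel_right],
    fun hz => by
      have e := mem_center_iff.1 (h hz) a⁻¹
      rwa [← mul_assoc, ← mul_assoc, inv_mul_cancel, one_mul, mul_left_inj, eq_comm] at e ▸ hz⟩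

theorem conj_of_nrm (h : A ≤ normalizer (D : Set P)) {a d : P} (ha : a ∈ A) (hd : d ∈ D) : a * d * a⁻¹ ∈ D :=
  (mem_normalizer_iff.1 (h ha) d).1 hd

theorem le_nrm (h : ∀ a ∈ A, ∀ d ∈ D, a * d * a⁻¹ ∈ D) : A ≤ normalizer (D : Set P) := fun a ha =>
  mem_normalizer_iff.2 fun d => ⟨h a ha d, fun hd => by simpa [mul_assoc] using h _ (inv_mem ha) _ hd⟩

theorem relIndex_sup_nrm (h : A ≤ normalizer (D : Set P)) : A.relIndex (D ⊔ A) = A.relIndex D :=
  (MK.C.index_comap_eq (inclusion (le_sup_left : D ≤ D ⊔ A)) (A.subgroupOf (D ⊔ A)) fun w => by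
    obtain ⟨d, hd, a, ha, e⟩ := (mem_sup_nrm h).1 w.2
    exact ⟨⟨a, mem_sup_right ha⟩, ha, ⟨a⁻¹ * d * a⁻¹⁻¹, conj_of_nrm h (inv_mem ha) hd⟩, Subtype.ext (e.trans (by simp only [mul_assoc, _root_.inv_inv, _root_.Subgroup.coe_mul, _root_.Subgroup.coe_inclusion, _root_.mul_inv_cancel_left]))⟩).symm

variable [Finite P] [Fact p.Prime]

omit [Fact p.Prime] in
theorem relIndex_dvd_nrm (h : A ≤ normalizer (R : Set P)) (hH : H ≤ A) : R.relIndex H ∣ R.relIndex A := by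
  have : (R.subgroupOf A).Normal := normal_subgroupOf h
  rw [← relIndex_subgroupOf hH]
  exact relIndex_dvd_index_of_normal _ _

/-- the hypotheses -/
structure Rl (p n : ℕ) (Z D A R : Subgroup P) (r : P) : Prop where
  cen : Z ≤ center P
  zR : Z ≤ R
  le : R ≤ A
  nD : ∀ a ∈ A, ∀ d ∈ D, a * d * a⁻¹ ∈ D
  nR : ∀ a ∈ A, ∀ d ∈ R, a * d * a⁻¹ ∈ R
  comm : ∀ d ∈ D, ∀ d' ∈ D, d * d' * d⁻¹ * d'⁻¹ ∈ A
  inf : D ⊓ A ≤ R
  pw : ∀ x ∈ R, ∃ k : ℕ, x ^ p ^ k ∈ Z ⊔ D ⊓ A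
  i1 : ¬ p ∣ R.relIndex A
  i2 : ¬ p ∣ A.relIndex D
  lt : (Z ⊔ D ⊓ A).relIndex A * A.relIndex D < n
  mem : r ∈ R
  fpf : ∀ d ∈ D, d * r * d⁻¹ * r⁻¹ ∈ A → d ∈ A

theorem kk_rel (ih : IH p n) {r : P} (h : Rl p n Z D A R r) (l : P → ℂ) : kk p (D ⊔ A) Z l = kk p A Z l := by
  have hAD := le_nrm h.nD
  have hK : D ⊔ A ≤ normalizer ((Z ⊔ D ⊓ A : Subgroup P) : Set P) := le_nrm fun w hw x hx => by
    obtain ⟨z, hz, y, hy, rfl⟩ := (mem_sup_cen h.cen).1 hx
    obtain ⟨d, hd, a, ha, rfl⟩ := (mem_sup_nrm hAD).1 hw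
    have h1 : a * y * a⁻¹ ∈ D ∧ a * y * a⁻¹ ∈ A := ⟨h.nD a ha y hy.1, A.mul_mem (A.mul_mem ha hy.2) (A.inv_mem ha)⟩
    rw [← mul_assoc, mem_center_iff.1 (h.cen hz), mul_assoc, mul_assoc]
    refine mul_mem (mem_sup_left hz) (mem_sup_right ?_)
    rw [show d * a * (y * (d * a)⁻¹) = d * (a * y * a⁻¹) * d⁻¹ by group]
    exact mem_inf.2 ⟨mul_mem (mul_mem hd h1.1) (inv_mem hd), (mul_mem_cancel_right (inv_mem h1.2)).1 (h.comm d hd _ h1.1)⟩
  have hKR : Z ⊔ D ⊓ A ≤ R := sup_le h.zR h.inf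
  have hRW : R ≤ D ⊔ A := h.le.trans le_sup_right
  have hR : SM p (Z ⊔ D ⊓ A) R (D ⊔ A) := by
    refine ⟨hKR, hRW, ?_, ?_⟩
    · have : ((Z ⊔ D ⊓ A).subgroupOf R).Normal := normal_subgroupOf (hRW.trans hK)
      refine IsPGroup.iff_card.1 fun x => ?_
      obtain ⟨x, rfl⟩ := QuotientGroup.mk_surjective x
      obtain ⟨k, hk⟩ := h.pw x x.2
      exact ⟨k, (QuotientGroup.eq_one_iff (x ^ p ^ k)).2 hk⟩
    · rw [← relIndex_mul_relIndex _ _ _ h.le le_sup_right, relIndex_sup_nrm hAD]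
      exact nd_mul' h.i1 h.i2
  have hN : (D ⊔ A) ⊓ normalizer (R : Set P) = A := by
    refine le_antisymm (fun w hw => ?_) (le_inf le_sup_right (le_nrm h.nR))
    obtain ⟨d, hd, a, ha, rfl⟩ := (mem_sup_nrm hAD).1 hw.1
    have h1 := (mul_mem_cancel_right (le_nrm h.nR ha)).1 hw.2
    exact mul_mem (h.fpf d hd (h.le (mul_mem ((mem_normalizer_iff.1 h1 r).1 h.mem) (inv_mem h.mem)))) ha
  have hZA : Z ≤ A := h.zR.trans h.le
  refine kk_eq_of_cnt h.cen (hZA.trans le_sup_right) hZA fun m _ => ?_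
  refine (stepA le_sup_left (hKR.trans hRW) (fun g _ => (stab_lf_of_central h.cen m g).1) hK hR
    (le_inf (hKR.trans hRW) (hKR.trans le_normalizer)) (isIrr_lf m) (fun g _ => stab_lf_of_central h.cen m g)
    fun ξ h1 h2 => MO.R.rel ih hK hR h1 h2 ?_ _ _).trans (cnt_eq_of_eq _ _ hN _)
  rw [← relIndex_mul_relIndex _ _ _ (hKR.trans h.le) le_sup_right, relIndex_sup_nrm hAD]
  exact h.lt

omit [Fact p.Prime] in
theorem Rl.loc {r : P} (h : Rl p n Z D A R r) (hM : M ≤ D) (hH : H ≤ A) (hZ : Z ≤ H)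
    (hn : ∀ a ∈ H, ∀ d ∈ M, a * d * a⁻¹ ∈ M) (h1 : D ⊓ H ≤ M) (h2 : M ⊓ A ≤ H) (hr : r ∈ H) : Rl p n Z M H (R ⊓ H) r := by
  have e1 : (Z ⊔ D ⊓ A) ⊓ H = Z ⊔ M ⊓ H := by
    refine le_antisymm (fun x hx => ?_) (le_inf (sup_le_sup_left (inf_le_inf hM hH) _) (sup_le hZ inf_le_right))
    obtain ⟨z, hz, y, hy, rfl⟩ := (mem_sup_cen h.cen).1 hx.1
    have h3 := (mul_mem_cancel_left (hZ hz)).1 hx.2
    exact mul_mem (mem_sup_left hz) (mem_sup_right ⟨h1 ⟨hy.1, h3⟩, h3⟩)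
  have e2 : H.relIndex M = (A ⊓ D).relIndex M := by
    rw [← inf_relIndex_right H, ← inf_relIndex_right (A ⊓ D)]
    exact congrArg (relIndex · M) (le_antisymm (fun x hx => ⟨⟨hH hx.1, hM hx.2⟩, hx.2⟩) fun x hx => ⟨h2 ⟨hx.2, hx.1.1⟩, hx.2⟩)
  have hD : D ≤ normalizer ((A ⊓ D : Subgroup P) : Set P) := le_nrm fun d hd x hx =>
    mem_inf.2 ⟨(mul_mem_cancel_right (A.inv_mem hx.1)).1 (h.comm d hd x hx.2), mul_mem (D.mul_mem hd hx.2) (inv_mem hd)⟩
  have e3 : H.relIndex M ∣ A.relIndex D := by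
    rw [e2, ← inf_relIndex_right A D]
    exact relIndex_dvd_nrm hD hM
  refine ⟨h.cen, le_inf h.zR hZ, inf_le_right, hn,
    fun a ha d hd => mem_inf.2 ⟨h.nR a (hH ha) d hd.1, mul_mem (H.mul_mem ha hd.2) (inv_mem ha)⟩,
    fun d hd d' hd' => h2 (mem_inf.2
      ⟨mul_mem (mul_mem (mul_mem hd hd') (inv_mem hd)) (inv_mem hd'), h.comm d (hM hd) d' (hM hd')⟩),
    le_inf ((inf_le_inf hM hH).trans h.inf) inf_le_right,
    fun x hx => (h.pw x hx.1).imp fun k hk => e1 ▸ mem_inf.2 ⟨hk, H.pow_mem hx.2 _⟩, ?_, nd_of_dvd h.i2 e3, lt_of_le_of_lt ?_ h.lt,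
    ⟨h.mem, hr⟩, fun d hd e => h2 ⟨hd, h.fpf d (hM hd) (hH e)⟩⟩
  · rw [inf_relIndex_right]
    exact nd_of_dvd h.i1 (relIndex_dvd_nrm (le_nrm h.nR) hH)
  · rw [← e1, inf_relIndex_right]
    exact Nat.mul_le_mul (relIndex_le_of_le_right hH (rne _ _)) (Nat.le_of_dvd (Nat.pos_of_ne_zero (rne _ _)) e3)

end Cfsg.Agent.MO.Tri
end

-- part: MO/Tri/Grp
section
/-!
# MO/Tri: the groups of a frame (helper92)

* `rsS` : restriction of automorphisms; `Ac` : a group `S` which acts on `D`, with a map to `Q`; `Ac.sd`, `Ac.ex` : the side in `Q × B`;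
* `fr.AE = Inn · Sg`, `fr.ind : AE →* Aut X`, `fr.ρ : Gt →* Aut X`; `frat` : the Frattini argument;
* `fr.aG`, `fr.aM` : the two actions.
-/

set_option autoImplicit false
set_option maxHeartbeats 400000

namespace Cfsg.Agent.MO.Tri

open Cfsg Subgroup Cfsg.Agent.Characters.Core Cfsg.Agent.MO.B Cfsg.Agent.MO.Om Cfsg.Agent.H672.RM
open Cfsg.Agent.MK (conj_map)

/-- restriction of automorphisms -/
def rsS {D : Type} [Group D] (H : Subgroup D) (S : Subgroup (MulAut D)) (h : ∀ σ ∈ S, ∀ g ∈ H, σ g ∈ H) : S →* MulAut H where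
  toFun σ :=
    { toFun := fun g => ⟨σ.1 g, h _ σ.2 _ g.2⟩
      invFun := fun g => ⟨σ.1⁻¹ g, h _ (inv_mem σ.2) _ g.2⟩
      left_inv := fun g => Subtype.ext (MulAut.inv_apply_self D σ.1 g)
      right_inv := fun g => Subtype.ext (MulAut.apply_inv_self D σ.1 g)
      map_mul' := fun _ _ => Subtype.ext (map_mul σ.1 _ _) }
  map_one' := rfl
  map_mul' _ _ := rfl

/-- a group of operators -/
structure Ac (D S Q : Type) [Group D] [Group S] [Group Q] where
  i : D →* S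
  ac : S →* MulAut D
  κ : S →* Q
  hi : ∀ k d, k * i d * k⁻¹ = i (ac k d)

namespace Ac

variable {D S Q B : Type} [Group D] [Group S] [Group Q] [Group B] (a : Ac D S Q)

/-- the map to the ambient group -/
def f : D →* Q × B := (a.κ.comp a.i).prod 1

theorem nr {w : Q × B} {k : S} (h : a.κ k = w.1) (d : D) : a.f (a.ac k d) = w * a.f d * w⁻¹ :=
  Prod.ext (by
    change a.κ (a.i _) = w.1 * a.κ (a.i d) * w.1⁻¹
    rw [← a.hi, map_mul, map_mul, map_inv, h]) (by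
    change 1 = w.2 * 1 * w.2⁻¹
    rw [mul_one, mul_inv_cancel])

variable {Z V : Subgroup (Q × B)} (h1 : ∀ d, a.f d ∈ V) (h2 : Z ≤ V) (h3 : Z ≤ center _) (h4 : ∀ z ∈ Z, z.1 = 1)
  (h5 : ∀ v : V, ∃ k, a.κ k = v.1.1)

/-- the side -/
noncomputable def sd : Sd Z V D where
  f := a.f
  φ v := a.ac (h5 v).choose
  mem := h1
  zV := h2
  cen := h3
  nr v := a.nr (h5 v).choose_spec
  ind _ h := Prod.ext (h4 _ h) rfl

variable {a h1 h2 h3 h4 h5} {θ : D → ℂ}

theorem fx (h : (a.sd h1 h2 h3 h4 h5).Fc θ) {w : Q × B} {k : S} (e : a.κ k = w.1) :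
    (a.sd h1 h2 h3 h4 h5).Fx w θ ↔ ∀ d, θ (a.ac k d) = θ d :=
  ⟨fun u d => u d _ (a.nr e d), fun u d _ e' => (h _ _ (e'.trans (a.nr e d).symm)).trans (u d)⟩

theorem ex [Finite D] (hθ : IsIrrCharacter D θ) (h : (a.sd h1 h2 h3 h4 h5).Fc θ) (A : Subgroup S)
    (k2 : ∀ x y, x ∉ A → y ∉ A → x * y ∈ A) (hA : ∀ x ∈ A, ∀ y ∈ A, ∃ m, x * y * x⁻¹ * y⁻¹ = a.i m)
    (ho : ∀ x y m, a.κ (x * y * x⁻¹ * y⁻¹) = a.κ (a.i m) → ∃ m, x * y * x⁻¹ * y⁻¹ = a.i m)
    (hβ : ∀ x y m, x * y * x⁻¹ * y⁻¹ = a.i m → aut (a.ac x) ∈ _root_.Cfsg.Agent.MO.Om.Fix θ → aut (a.ac y) ∈ _root_.Cfsg.Agent.MO.Om.Fix θ →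
      OmT θ (aut (a.ac x)) (aut (a.ac y)) m = 1) : Sd.Ex h := by
  let K : Subgroup S := (_root_.Cfsg.Agent.MO.Om.Fix θ).comap (aut.comp a.ac)
  have hK : ∀ d, a.i d ∈ K := fun d => aut_mem.2 fun u => by
    rw [← isIrr_isClassFunction hθ u d]
    exact h _ _ ((a.nr (w := a.f d) rfl u).trans (by rw [← map_inv, ← map_mul, ← map_mul]; rfl))
  obtain ⟨Ψ, c, e⟩ := ext_q (a.i.codRestrict K hK) (a.ac.comp K.subtype) (a.κ.comp K.subtype).rangeRestrict
    (MonoidHom.rangeRestrict_surjective _) (fun k d => Subtype.ext (a.hi k d)) hθ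
    (fun d hd => h _ _ (Prod.ext ((congrArg Subtype.val hd).trans (map_one (a.κ.comp a.i)).symm) rfl))
    (fun k => aut_mem.1 k.2) (A.subgroupOf K) (fun x y => k2 x y) (fun x hx y hy => (hA x hx y hy).imp fun _ => Subtype.ext)
    (fun x y m e => (ho x y m (congrArg Subtype.val e)).imp fun _ => Subtype.ext)
    fun x y m e => (omT_aut _ _ _ _).symm.trans (hβ x y m (congrArg Subtype.val e) x.2 y.2)
  refine ⟨Ψ ∘ ((MonoidHom.fst Q B).comp (V.subtype.comp (Sd.st h).subtype)).codRestrict (a.κ.comp K.subtype).range fun v =>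
    ⟨⟨_, aut_mem.2 (h.fx.1 v.2)⟩, (h5 v).choose_spec⟩, isCharacter_comp _ c, fun u z d hu => (congrArg Ψ ?_).trans (e d)⟩
  exact Subtype.ext ((congrArg Prod.fst hu).trans ((congrArg (· * _) (h4 _ z.2)).trans (one_mul _)))

end Ac

theorem conj_mul_conj {D : Type} [Group D] (s t : D) (σ σ' : MulAut D) :
    MulAut.conj s * σ * (MulAut.conj t * σ') = MulAut.conj (s * σ t) * (σ * σ') := by
  rw [map_mul, conj_map]
  group

theorem comm_conj {D : Type} [Group D] (s t : D) (σ σ' : MulAut D) : ∃ u, MulAut.conj s * σ * (MulAut.conj t * σ') *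
    (MulAut.conj s * σ)⁻¹ * (MulAut.conj t * σ')⁻¹ = MulAut.conj u * (σ * σ' * σ⁻¹ * σ'⁻¹) :=
  ⟨s * σ t * (σ * σ' * σ⁻¹) s⁻¹ * (σ * σ' * σ⁻¹ * σ'⁻¹) t⁻¹, by
    rw [map_mul, map_mul, map_mul, conj_map, conj_map, conj_map, map_inv, map_inv]
    group⟩

namespace FrT

variable {p : ℕ} {Gt : Type} [Group Gt] {G M : Subgroup Gt} {Sg : Subgroup (MulAut Gt)} {E : Set (MulAut Gt)} {X : Type}
  [Group X] {π : G →* X} {Γ : Subgroup (MulAut X)} (fr : FrT p G M Sg E π Γ)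
include fr

/-- the automorphisms of `Gt` -/
def AE (_ : FrT p G M Sg E π Γ) : Subgroup (MulAut Gt) where
  carrier := {σ | ∃ t, ∃ σ' ∈ Sg, σ = MulAut.conj t * σ'}
  one_mem' := ⟨1, 1, one_mem _, by rw [map_one, one_mul]⟩
  mul_mem' := by
    rintro _ _ ⟨s, σ, h, rfl⟩ ⟨t, σ', h', rfl⟩
    exact ⟨_, _, mul_mem h h', conj_mul_conj _ _ _ _⟩
  inv_mem' := by
    rintro _ ⟨s, σ, h, rfl⟩
    exact ⟨σ⁻¹ s⁻¹, _, inv_mem h, by rw [conj_map, map_inv]; group⟩

theorem le_AE : Sg ≤ fr.AE := fun σ h => ⟨1, σ, h, by rw [map_one, one_mul]⟩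

theorem conj_AE (t : Gt) : MulAut.conj t ∈ fr.AE := ⟨t, 1, one_mem _, (mul_one _).symm⟩

theorem AE_G : ∀ σ ∈ fr.AE, ∀ g ∈ G, σ g ∈ G := by
  rintro _ ⟨t, σ, h, rfl⟩ g hg
  exact (mul_mem_cancel_right (inv_mem (fr.sG σ h g hg))).1 (fr.comm t _)

theorem conj_inj : Function.Injective (MulAut.conj : X →* MulAut X) := (injective_iff_map_eq_one _).2 fun _ h =>
  mem_bot.1 (fr.zX ▸ mem_center_iff.2 fun y => (mul_inv_eq_iff_eq_mul.1 (congrArg (· y) h :)).symm)

omit fr in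
theorem ind_conj (g : G) : Ind G π (MulAut.conj (g : Gt)) (MulAut.conj (π g)) := fun x x' e => by
  rw [show x' = g * x * g⁻¹ from Subtype.ext e, map_mul, map_mul, map_inv, MulAut.conj_apply]

theorem ker_iff (g : G) : π g = 1 ↔ (g : Gt) ∈ center Gt :=
  ⟨fun h => fr.fai g (by have e := ind_conj (π := π) g; rwa [h, map_one] at e), fun h => mem_bot.1 (fr.zX ▸
    mem_center_iff.2 fun x => by
      obtain ⟨y, rfl⟩ := fr.surj x
      rw [← map_mul, ← map_mul]
      exact congrArg π (Subtype.ext (mem_center_iff.1 h y)))⟩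

theorem exists_ind (σ : fr.AE) : ∃ α : MulAut X, ∀ g, α (π g) = π (rsS G fr.AE fr.AE_G σ g) := by
  have k : ∀ σ : fr.AE, ∃ α : X →* X, ∀ g, α (π g) = π (rsS G fr.AE fr.AE_G σ g) := fun σ =>
    Lc.exists_fac π fr.surj (π.comp (rsS G fr.AE fr.AE_G σ).toMonoidHom) fun g hg => (fr.ker_iff _).2
      (characteristic_iff_le_comap.1 (inferInstanceAs (center Gt).Characteristic) σ.1 ((fr.ker_iff g).1 hg))
  obtain ⟨α, h⟩ := k σ
  obtain ⟨β, h'⟩ := k σ⁻¹
  exact ⟨MonoidHom.toMulEquiv α β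
    (MonoidHom.ext (fr.surj.forall.2 fun g => by rw [MonoidHom.comp_apply, h, h', map_inv, MulAut.inv_apply_self]; rfl))
    (MonoidHom.ext (fr.surj.forall.2 fun g => by rw [MonoidHom.comp_apply, h', h, map_inv, MulAut.apply_inv_self]; rfl)), h⟩

/-- the induced automorphism -/
noncomputable def ind : fr.AE →* MulAut X := MonoidHom.mk' (fun σ => (fr.exists_ind σ).choose) fun σ σ' =>
  MulEquiv.ext (fr.surj.forall.2 fun g => by
    rw [MulAut.mul_apply, (fr.exists_ind _).choose_spec, (fr.exists_ind _).choose_spec, (fr.exists_ind _).choose_spec]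
    rfl)

theorem ind_eq {σ : fr.AE} {α : MulAut X} : fr.ind σ = α ↔ Ind G π σ α :=
  ⟨fun h g _ e => h ▸ (congrArg π (Subtype.ext e)).trans ((fr.exists_ind σ).choose_spec g).symm,
    fun h => MulEquiv.ext (fr.surj.forall.2 fun g => ((fr.exists_ind σ).choose_spec g).trans (h g _ rfl))⟩

/-- the action on `Gt` -/
noncomputable def aG : Ac Gt fr.AE (MulAut X) where
  i := MulAut.conj.codRestrict _ fr.conj_AE
  ac := fr.AE.subtype
  κ := fr.ind
  hi k d := Subtype.ext (conj_map k.1 d).symm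

/-- the action on `M` -/
noncomputable def aM : Ac M Sg (MulAut X) where
  i := (MulAut.conj.comp M.subtype).codRestrict _ fun m => fr.inn m m.2
  ac := rsS M Sg fr.sM
  κ := fr.ind.comp (inclusion fr.le_AE)
  hi k d := Subtype.ext (conj_map k.1 d.1).symm

theorem ind_G (g : G) : fr.ind (fr.aG.i g) = MulAut.conj (π g) := fr.ind_eq.2 (ind_conj g)

theorem ind_one {t : Gt} : fr.ind (fr.aG.i t) = 1 ↔ t ∈ center Gt :=
  ⟨fun h => fr.fai t (fr.ind_eq.1 h), fun h => fr.ind_eq.2 fun g g' e => congrArg π (Subtype.ext (e.trans (by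
    rw [show fr.aG.i t = (MulAut.conj t : MulAut Gt) from rfl, MulAut.conj_apply, ← mem_center_iff.1 h, mul_inv_cancel_right])))⟩

theorem lift' {α : MulAut X} (h : α ∈ Γ) : ∃ (g : G) (σ : Sg), α = fr.ind (fr.aG.i g) * fr.aM.κ σ := by
  obtain ⟨σ, hσ, x, β, h1, rfl⟩ := fr.lift α h
  obtain ⟨g, rfl⟩ := fr.surj x
  exact ⟨g, ⟨σ, hσ⟩, congrArg₂ _ (fr.ind_G g).symm (fr.ind_eq.2 h1).symm⟩

variable [Finite Gt] [Fact p.Prime]

/-- **the Frattini argument** -/
theorem frat {Q : Sylow p G} (hQ : ∀ g ∈ normalizer ((Q : Subgroup G) : Set G), (g : Gt) ∈ M) (t : Gt) (σ : Sg)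
    (h : ∀ y ∈ (Q : Subgroup G), ∃ y' ∈ (Q : Subgroup G), (fr.ind (fr.aG.i t) * fr.aM.κ σ) (π y) = π y') : t ∈ M := by
  obtain ⟨g, hg, m, hm, rfl⟩ := fr.sup t
  refine mul_mem ?_ hm
  let β := rsS G fr.AE fr.AE_G (fr.aG.i m * inclusion fr.le_AE σ)
  have h1 : (Q : Subgroup G) ≤ M.subgroupOf G := fun y hy => hQ y (le_normalizer hy)
  have h2 : ∀ Q' : Sylow p G, (Q' : Subgroup G) ≤ M.subgroupOf G → SylIn p (Q' : Subgroup G) (M.subgroupOf G) := fun Q' h =>
    ⟨h, Q'.2, nd_of_dvd Q'.not_dvd_index (relIndex_dvd_index_of_le h)⟩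
  obtain ⟨u, hu, e⟩ := (h2 Q h1).conj (h2 (Q.mapSurjective (f := β.toMonoidHom) β.surjective) (by
    rintro _ ⟨y, hy, rfl⟩
    exact mul_mem (mul_mem hm (fr.sM _ σ.2 _ (h1 hy))) (inv_mem hm)))
  have h3 : Q.1.map (MulAut.conj (⟨g, hg⟩ * u)).toMonoidHom ≤ normalizer (Q.1 : Set G) := by
    rintro _ ⟨y, hy, rfl⟩
    obtain ⟨y1, k1, k2⟩ := e.le ⟨y, hy, rfl⟩
    obtain ⟨y2, k3, k4⟩ := h y1 k1
    have k5 : π (y2⁻¹ * MulAut.conj (⟨g, hg⟩ * u) y) = 1 := by
      rw [map_mul, map_inv, ← k4, inv_mul_eq_one, map_mul, map_mul, mul_assoc, fr.ind_G ⟨g, hg⟩, MulAut.mul_apply, map_mul,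
        MulAut.mul_apply]
      refine Eq.trans (congrArg _ ?_) (ind_conj ⟨g, hg⟩ (MulAut.conj u y) _ rfl).symm
      exact (fr.ind_eq.1 (map_mul fr.ind _ _) y1 _ (congrArg Subtype.val k2).symm).symm
    rw [← mul_mem_cancel_left (inv_mem (le_normalizer k3))]
    exact center_le_normalizer _ (mem_center_iff.2 fun x => Subtype.ext (mem_center_iff.1 ((fr.ker_iff _).1 k5) x))
  have h4 := Q.3 (Q.2.to_sup_of_normal_left' (Q.2.map _) h3) le_sup_left
  exact (mul_mem_cancel_right hu).1 (hQ (⟨g, hg⟩ * u) (mem_normalizer_fintype fun y hy => h4.le (mem_sup_right ⟨y, hy, rfl⟩)))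

theorem mem_M {t : Gt} {σ : Sg} (h : fr.ind (fr.aG.i t) = fr.aM.κ σ) : t ∈ M :=
  fr.syl.elim fun _ hQ => fr.frat hQ t σ⁻¹ fun y hy => ⟨y, hy, by rw [h, map_inv, mul_inv_cancel, MulAut.one_apply]⟩

end FrT

end Cfsg.Agent.MO.Tri
end

-- part: MO/Tri/Main
section
/-!
# MO/Tri: `boxTri`, `boxTriS` (helper92)

For a group `A` with the component `X` all groups live in `Aut X × A / X`: the images `D` of `Gt`, `M`, `A` and `H ≤ A`.
`kk A = kk (D A) = kk (M H) = kk H` by `kk_rel`, `kk_cg`, `kk_rel`.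
-/

set_option autoImplicit false
set_option maxHeartbeats 400000

namespace Cfsg.Agent.MO.Tri

open Cfsg Subgroup Cfsg.Agent.Characters.Core Cfsg.Agent.MO.B Cfsg.Agent.MO.Om

variable {p : ℕ} {Gt : Type} [Group Gt] {G M : Subgroup Gt} {Sg : Subgroup (MulAut Gt)} {E : Set (MulAut Gt)} {X : Type}
  [Group X] {π : G →* X} {Γ : Subgroup (MulAut X)} (fr : FrT p G M Sg E π Γ) {A : Type} [Group A] {Z : Subgroup A}
  (c : Cf p Γ A Z)

instance instNormalE : c.e.range.Normal := ⟨by rintro _ ⟨x, rfl⟩ g; exact ⟨_, (c.ha g x).symm⟩⟩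

/-- the embedding of `A` -/
def io : A →* MulAut X × A ⧸ c.e.range := c.a.prod (QuotientGroup.mk' _)

namespace FrT

/-- the map from `Gt` -/
noncomputable abbrev f : Gt →* MulAut X × A ⧸ c.e.range := fr.aG.f

/-- the local subgroup of `A` -/
noncomputable abbrev HH : Subgroup A := fr.aM.κ.range.comap c.a

include fr in
theorem io_inj : Function.Injective (io c) := (injective_iff_map_eq_one _).2 fun a h => by
  obtain ⟨x, rfl⟩ := (QuotientGroup.eq_one_iff a).1 (congrArg Prod.snd h)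
  rw [fr.conj_inj ((c.a_e x).symm.trans ((congrArg Prod.fst h).trans (map_one _).symm)), map_one]

theorem f_G (g : G) : fr.f c g = io c (c.e (π g)) :=
  Prod.ext ((fr.ind_G g).trans (c.a_e _).symm) ((QuotientGroup.eq_one_iff (N := c.e.range) _).2 ⟨_, rfl⟩).symm

theorem f_one {t : Gt} : fr.f c t = 1 ↔ t ∈ center Gt := ⟨fun h => fr.ind_one.1 (congrArg Prod.fst h),
  fun h => Prod.ext (fr.ind_one.2 h) rfl⟩

theorem inf_eq : (fr.f c).range ⊓ (io c).range = c.e.range.map (io c) := by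
  refine le_antisymm ?_ ?_
  · rintro _ ⟨⟨t, h⟩, a, rfl⟩
    exact ⟨a, (QuotientGroup.eq_one_iff a).1 (congrArg Prod.snd h).symm, rfl⟩
  · rintro _ ⟨_, ⟨x, rfl⟩, rfl⟩
    obtain ⟨g, rfl⟩ := fr.surj x
    exact ⟨⟨g, fr.f_G c g⟩, _, rfl⟩

theorem comap_eq : (io c).range.comap (fr.f c) = G ⊔ center Gt := by
  refine le_antisymm (fun t h => ?_) (sup_le (fun g hg => ⟨_, (fr.f_G c ⟨g, hg⟩).symm⟩)
    fun z hz => ⟨1, (map_one _).trans ((fr.f_one c).2 hz).symm⟩)
  obtain ⟨_, ⟨x, rfl⟩, e⟩ := (fr.inf_eq c).le ⟨⟨t, rfl⟩, h⟩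
  obtain ⟨g, rfl⟩ := fr.surj x
  rw [← mul_inv_cancel_left (g : Gt) t]
  exact mul_mem (mem_sup_left g.2) (mem_sup_right ((fr.f_one c).1 (by rw [map_mul, map_inv, f_G, e, inv_mul_cancel])))

theorem dec (a : A) : ∃ g : G, ∃ h ∈ fr.HH c, io c a = fr.f c g * io c h := by
  obtain ⟨g, σ, e⟩ := fr.lift' (c.mem a)
  exact ⟨g, (c.e (π g))⁻¹ * a, ⟨σ, by rw [map_mul, map_inv, c.a_e, e, fr.ind_G, inv_mul_cancel_left]⟩, by
    rw [f_G, ← map_mul, mul_inv_cancel_left]⟩

theorem exists_AE (a : A) : ∃ σ, fr.aG.κ σ = (io c a).1 :=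
  let ⟨g, σ, e⟩ := fr.lift' (c.mem a)
  ⟨fr.aG.i g * inclusion fr.le_AE σ, (map_mul _ _ _).trans e.symm⟩

theorem Z_le : Z ≤ fr.HH c := fun _ h => ⟨1, (map_one _).trans (c.mem_Z.1 h).symm⟩

omit fr in
theorem Z_fst : ∀ z ∈ Z.map (io c), z.1 = 1 := by
  rintro _ ⟨z, h, rfl⟩
  exact c.mem_Z.1 h

omit fr in
theorem Z_cen : Z.map (io c) ≤ center _ := by
  rintro _ ⟨z, h, rfl⟩
  refine mem_center_iff.2 fun ⟨α, b⟩ => Prod.ext ?_ ?_
  · rw [Prod.fst_mul, Prod.fst_mul, Z_fst c _ ⟨z, h, rfl⟩, mul_one, one_mul]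
  · obtain ⟨b, rfl⟩ := QuotientGroup.mk_surjective b
    exact congrArg QuotientGroup.mk (mem_center_iff.1 (c.cen h) b)

variable [Finite Gt] [Finite X] [Finite A] [Fact p.Prime]

omit [Finite Gt] [Finite X] in
theorem rl (s : Sit p X Γ) : ∃ R, ∃ r ∈ (fr.HH c).map (io c),
    Rl p (Nat.card Γ) (Z.map (io c)) (fr.f c).range (io c).range R r := by
  obtain ⟨R, -, r2, r3, r4, r5⟩ := s.cl
  obtain ⟨σ, hσ, τ, hτ, t1, ⟨k, x, t2⟩, t3⟩ := fr.tri
  obtain ⟨a, rfl⟩ := c.onto hτ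
  have t4 : fr.aG.κ ⟨σ, fr.le_AE hσ⟩ = (io c a).1 := fr.ind_eq.2 t1
  have hn : (R.comap c.a).Normal := ⟨fun g hg b => by
    rw [mem_comap, map_mul, map_mul, map_inv]
    exact r3 _ (c.mem b) _ hg⟩
  have e1 : Z.map (io c) ⊔ (fr.f c).range ⊓ (io c).range = (Z ⊔ c.e.range).map (io c) := by rw [inf_eq, Subgroup.map_sup]
  have e2 : ∀ K : Subgroup A, (K.map (io c)).relIndex (io c).range = K.index := fun K => by
    rw [MonoidHom.range_eq_map (io c), relIndex_map_map_of_injective _ _ (fr.io_inj c), relIndex_top_right]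
  have e3 : (io c).range.relIndex (fr.f c).range = (G ⊔ center Gt).index := by
    rw [MonoidHom.range_eq_map (fr.f c), ← relIndex_comap, relIndex_top_right, comap_eq]
  have e4 : c.e.range ≤ R.comap c.a := by
    rintro _ ⟨x, rfl⟩
    exact mem_comap.2 ((c.a_e x).symm ▸ r2 x)
  refine ⟨(R.comap c.a).map (io c), io c a, ⟨a, ⟨⟨σ, hσ⟩, t4⟩, rfl⟩, Z_cen c,
    map_mono fun z hz => mem_comap.2 ((c.mem_Z.1 hz).symm ▸ one_mem _), map_le_range _ _, ?_, ?_, ?_,
    (fr.inf_eq c).le.trans (map_mono e4), ?_, by rwa [e2, c.index_comap], e3 ▸ fr.cop, ?_, ⟨a, ?_, rfl⟩, ?_⟩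
  · rintro _ ⟨a, rfl⟩ _ ⟨t, rfl⟩
    exact (fr.exists_AE c a).elim fun _ h => ⟨_, fr.aG.nr h t⟩
  · rintro _ ⟨a, rfl⟩ _ ⟨b, hb, rfl⟩
    exact ⟨_, hn.conj_mem b hb a, by rw [map_mul, map_mul, map_inv]⟩
  · rintro _ ⟨t, rfl⟩ _ ⟨t', rfl⟩
    rw [← map_inv, ← map_inv, ← map_mul, ← map_mul, ← map_mul]
    exact (fr.comap_eq c).ge (mem_sup_left (fr.comm t t'))
  · rintro _ ⟨b, hb, rfl⟩
    obtain ⟨k, x, h⟩ := r4 _ hb
    exact ⟨k, e1 ▸ ⟨b ^ p ^ k, c.mem_sup (by rw [map_pow, h]), map_pow _ _ _⟩⟩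
  · have h1 : Z.relIndex (Z ⊔ c.e.range) = Nat.card X := by
      have : Z.Normal := ⟨fun z hz g => by rwa [mem_center_iff.1 (c.cen hz), mul_inv_cancel_right]⟩
      rw [relIndex_sup_left, MonoidHom.range_eq_map, ← relIndex_comap, relIndex_top_right, ← index_bot]
      exact congrArg index (eq_bot_iff.2 fun x hx => fr.conj_inj ((c.a_e x).symm.trans ((c.mem_Z.1 hx).trans (map_one _).symm)))
    rw [e1, e2, e3, ← c.index_Z, ← relIndex_mul_index (le_sup_left : Z ≤ Z ⊔ c.e.range), h1, mul_comm]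
    exact Nat.mul_lt_mul_of_pos_right fr.sm (Nat.pos_of_ne_zero index_ne_zero_of_finite)
  · rw [SetLike.mem_coe, ← QuotientGroup.eq_one_iff, ← orderOf_eq_one_iff]
    refine Nat.eq_one_of_dvd_coprimes (cop_pow (c.index_comap ▸ r5) k) (orderOf_dvd_of_pow_eq_one ?_) (_root_.orderOf_dvd_natCard _)
    rw [← QuotientGroup.mk_pow, QuotientGroup.eq_one_iff, mem_comap, map_pow, t2]
    exact r2 x
  · rintro _ ⟨t, rfl⟩ h
    refine (fr.comap_eq c).ge (t3 t ((fr.comap_eq c).le ?_))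
    rwa [mem_comap, map_mul, map_inv, show fr.f c (σ t) = _ from fr.aG.nr t4 t, mul_inv_rev, mul_inv_rev, inv_inv, ← mul_assoc,
      ← mul_assoc]

omit [Finite X] [Finite A] in
theorem inf_le : (fr.f c).range ⊓ (fr.HH c).map (io c) ≤ M.map (fr.f c) := by
  rintro _ ⟨⟨t, rfl⟩, a, ⟨σ, h⟩, e⟩
  exact ⟨t, fr.mem_M ((congrArg Prod.fst e).symm.trans h.symm), rfl⟩

omit [Finite Gt] [Finite X] [Finite A] [Fact p.Prime] in
theorem nrm_M : ∀ a ∈ (fr.HH c).map (io c), ∀ d ∈ M.map (fr.f c), a * d * a⁻¹ ∈ M.map (fr.f c) := by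
  rintro _ ⟨a, ⟨σ, h⟩, rfl⟩ _ ⟨m, hm, rfl⟩
  exact ⟨_, (fr.aM.ac σ ⟨m, hm⟩).2, fr.aM.nr (w := io c a) h ⟨m, hm⟩⟩

theorem kk_mid (hC : Cn p M Sg) (hG : BtG p (fr.AE : Set (MulAut Gt))) (hL : BtL p M Sg) (l : _ → ℂ) :
    kk p ((fr.f c).range ⊔ (io c).range) (Z.map (io c)) l = kk p (M.map (fr.f c) ⊔ (fr.HH c).map (io c)) (Z.map (io c)) l := by
  obtain ⟨B, b1, b2, b3⟩ := fr.ab
  have n1 : (io c).range ≤ normalizer ((fr.f c).range : Set _) := le_nrm (by
    rintro _ ⟨a, rfl⟩ _ ⟨t, rfl⟩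
    exact (fr.exists_AE c a).elim fun _ h => ⟨_, fr.aG.nr h t⟩)
  have n2 := le_nrm (fr.nrm_M c)
  have k1 : ∀ v : ↥((fr.f c).range ⊔ (io c).range), ∃ k, fr.aG.κ k = v.1.1 := fun v => by
    obtain ⟨_, ⟨t, rfl⟩, _, ⟨a, rfl⟩, e⟩ := (mem_sup_nrm n1).1 v.2
    obtain ⟨σ, h⟩ := fr.exists_AE c a
    exact ⟨fr.aG.i t * σ, by rw [e, map_mul, h]; rfl⟩
  have k2 : ∀ v : ↥(M.map (fr.f c) ⊔ (fr.HH c).map (io c)), ∃ k, fr.aM.κ k = v.1.1 := fun v => by
    obtain ⟨_, ⟨t, ht, rfl⟩, _, ⟨a, ⟨σ, h⟩, rfl⟩, e⟩ := (mem_sup_nrm n2).1 v.2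
    exact ⟨fr.aM.i ⟨t, ht⟩ * σ, by rw [e, map_mul, h]; rfl⟩
  let s := fr.aG.sd (fun d => mem_sup_left (MonoidHom.mem_range.2 ⟨d, rfl⟩)) ((map_le_range _ _).trans le_sup_right) (Z_cen c) (Z_fst c) k1
  let s' := fr.aM.sd (fun d => mem_sup_left (mem_map_of_mem (fr.f c) d.2)) ((map_mono (fr.Z_le c)).trans le_sup_right) (Z_cen c) (Z_fst c) k2
  have c1 : ∀ {θ}, θ ∈ s.CS p ↔ θ ∈ PT0 p (center Gt) 1 := fun {θ} => and_congr_right fun h =>
    ⟨fun k z hz => (k _ _ (((fr.f_one c).2 hz).trans (map_one _).symm)).trans (one_mul _).symm, fun k d d' e => by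
      have h1 : d * d'⁻¹ ∈ center Gt := (fr.f_one c).1 (by rw [map_mul, map_inv, mul_inv_eq_one]; exact e)
      rw [← inv_mul_cancel_right d d', apply_cen h.1 h1 (k _ h1), Pi.one_apply, one_mul]⟩
  have c2 : ∀ {θ}, θ ∈ s'.CS p ↔ θ ∈ PT0 p ((center Gt).subgroupOf M) 1 := fun {θ} => and_congr_right fun h =>
    ⟨fun k z hz => (k _ _ (((fr.f_one c).2 hz).trans (map_one _).symm)).trans (one_mul _).symm, fun k d d' e => by
      have h1 : d * d'⁻¹ ∈ (center Gt).subgroupOf M :=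
        (fr.f_one c).1 (by rw [map_mul, map_mul, map_inv, map_inv, mul_inv_eq_one]; exact e)
      rw [← inv_mul_cancel_right d d', apply_cen h.1 (mem_center_iff.2 fun x => Subtype.ext (mem_center_iff.1 h1 x)) (k _ h1),
        Pi.one_apply, one_mul]⟩
  refine kk_cg s s' (sup_le_sup (map_le_range _ _) (map_le_range _ _)) (fun w hw => ?_) (fun e => ⟨e, rfl⟩) (fun d hd => ?_)
    (fun L hL => ?_) (fun θ h => Ac.ex h.1.1 h.2 (B.subgroupOf _) ?_ ?_ ?_ fun x y m e =>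
      hG θ (c1.1 h) _ x.2 _ y.2 m (congrArg Subtype.val e))
    (fun θ h => Ac.ex h.1.1 h.2 (B.subgroupOf _) (fun x y => b2 _ x.2 _ y.2)
      (fun x hx y hy => (b3 _ x.2 _ y.2 hx hy).elim fun m hm => ⟨⟨m, hm.1⟩, Subtype.ext hm.2⟩)
      (fun x y m e => (fr.out _ x.2 _ y.2 (m : Gt)⁻¹ ?_).elim fun m hm => ⟨⟨m, hm.1⟩, Subtype.ext hm.2⟩) fun x y m e =>
      hL θ (c2.1 h) _ x.2 _ y.2 _ _ m (fun _ => ⟨rfl, rfl⟩) (fun _ => ⟨rfl, rfl⟩) (congrArg Subtype.val e)) l
  · obtain ⟨_, ⟨t, rfl⟩, _, ⟨a, rfl⟩, rfl⟩ := (mem_sup_nrm n1).1 hw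
    obtain ⟨g, h, h1, e⟩ := fr.dec c a
    exact ⟨t * g, _, mem_sup_right ⟨h, h1, rfl⟩, by rw [e, ← mul_assoc, ← map_mul]; rfl⟩
  · obtain ⟨_, ⟨m, hm, rfl⟩, u, hu, e⟩ := (mem_sup_nrm n2).1 hd
    obtain ⟨m', h1, h2⟩ := fr.inf_le c ⟨⟨m⁻¹ * d, by rw [map_mul, map_inv, inv_mul_eq_iff_eq_mul]; exact e⟩, hu⟩
    exact ⟨⟨m * m', mul_mem hm h1⟩, (map_mul (fr.f c) m m').trans (by rw [h2]; exact e.symm)⟩
  · refine Eq.trans (Nat.card_congr (Equiv.subtypeEquivRight fun θ => ?_))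
      ((hC {σ | ∃ h : σ ∈ Sg, ∃ u ∈ L, fr.aM.κ ⟨σ, h⟩ = u.1} fun _ h => h.1).trans
        (Nat.card_congr (Equiv.subtypeEquivRight fun θ => ?_)))
    · rw [← c1]
      refine and_congr_right fun h => ⟨fun k σ ⟨h1, u, hu, e⟩ => (Ac.fx h.2 (k := ⟨σ, fr.le_AE h1⟩) e).1 (k u hu), fun k u hu => ?_⟩
      obtain ⟨σ, e⟩ := k2 ⟨u, hL hu⟩
      exact (Ac.fx h.2 (k := ⟨σ, fr.le_AE σ.2⟩) e).2 (k σ ⟨σ.2, u, hu, e⟩)
    · rw [← c2]
      refine and_congr_right fun h => ⟨fun k u hu => ?_, fun k σ ⟨h1, u, hu, e⟩ y y' hy => ?_⟩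
      · obtain ⟨σ, e⟩ := k2 ⟨u, hL hu⟩
        exact (Ac.fx h.2 e).2 fun y => k σ ⟨σ.2, u, hu, e⟩ y _ rfl
      · exact (congrArg θ (Subtype.ext hy)).trans ((Ac.fx h.2 e).1 (k u hu) y)
  · rintro ⟨_, s, σ, h, rfl⟩ ⟨_, t, σ', h', rfl⟩ hx hy
    exact (congrArg (· ∈ B) (conj_mul_conj s t σ σ')).mpr (mul_mem (b1 _)
      (b2 σ h σ' h' (fun e => hx ((mul_mem (b1 s) e :))) fun e => hy ((mul_mem (b1 t) e :))))
  · rintro ⟨_, s, σ, h, rfl⟩ hx ⟨_, t, σ', h', rfl⟩ hy
    obtain ⟨m, -, e⟩ := b3 σ h σ' h' ((mul_mem_cancel_left (b1 s)).1 hx) ((mul_mem_cancel_left (b1 t)).1 hy)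
    obtain ⟨u, e'⟩ := comm_conj s t σ σ'
    exact ⟨u * m, Subtype.ext (e'.trans (by rw [e, ← map_mul]; rfl))⟩
  · rintro ⟨_, s, σ, h, rfl⟩ ⟨_, t, σ', h', rfl⟩ m e
    obtain ⟨u, e'⟩ := comm_conj s t σ σ'
    have h1 := mul_mem (mul_mem (mul_mem h h') (inv_mem h)) (inv_mem h')
    obtain ⟨m', -, e1⟩ := fr.out σ h σ' h' (m⁻¹ * u) (((fr.ind_eq (σ := ⟨_, fr.le_AE h1⟩ * fr.aG.i (m⁻¹ * u))).1 (by
      rw [map_mul, mul_eq_one_comm, map_mul, map_mul, map_inv, map_inv, mul_assoc, inv_mul_eq_one, ← map_mul]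
      exact e.symm.trans (congrArg _ (Subtype.ext e'))) :))
    exact ⟨u * m', Subtype.ext (e'.trans (by rw [e1, ← map_mul]; rfl))⟩
  · refine (fr.ind_eq (σ := inclusion fr.le_AE (x * y * x⁻¹ * y⁻¹) * fr.aG.i (m : Gt)⁻¹)).1 ?_
    rw [map_mul, map_inv, map_inv, mul_inv_eq_one]
    exact e

theorem kk_HH (s : Sit p X Γ) (hC : Cn p M Sg) (hG : BtG p (fr.AE : Set (MulAut Gt))) (hL : BtL p M Sg) (l : A → ℂ) :
    kk p ⊤ Z l = kk p (fr.HH c) Z l := by
  obtain ⟨R, r, hr, h⟩ := fr.rl c s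
  have e : ∀ K : Subgroup A, kk p (K.map (io c)) (Z.map (io c)) (Function.extend (io c) l 0) = kk p K Z l := fun K =>
    kk_map _ (fun _ _ => mem_map_iff_mem (fr.io_inj c)) fun _ _ _ => (fr.io_inj c).extend_apply _ _ _
  rw [← e, ← e, ← MonoidHom.range_eq_map, ← kk_rel s.ih h, fr.kk_mid c hC hG hL]
  refine kk_rel s.ih (h.loc (map_le_range _ _) (map_le_range _ _) (map_mono (fr.Z_le c)) (fr.nrm_M c) (fr.inf_le c) ?_ hr) _
  rintro _ ⟨⟨m, hm, rfl⟩, a, e⟩
  exact ⟨a, ⟨fr.aM.i ⟨m, hm⟩, (congrArg Prod.fst e).symm⟩, e⟩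

omit [Finite X] [Finite A] in
theorem HH_ne : fr.HH c ≠ ⊤ := fun h => fr.ne fun g hg =>
  let ⟨_, e⟩ := h.ge (mem_top (c.e (π ⟨g, hg⟩)))
  fr.mem_M ((fr.ind_G ⟨g, hg⟩).trans ((c.a_e _).symm.trans e.symm))

omit [Finite X] [Finite A] in
theorem exists_syl : ∃ P : Sylow p A, normalizer ((P : Subgroup A) : Set A) ≤ fr.HH c := by
  obtain ⟨Q, hQ⟩ := fr.syl
  obtain ⟨P, hP⟩ := ((Q.mapSurjective fr.surj).2.map c.e).exists_le_sylow
  have h1 := (Q.mapSurjective fr.surj).3 (P.2.comap_of_injective c.e c.inj) (map_le_iff_le_comap.1 hP)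
  refine ⟨P, fun a ha => ?_⟩
  obtain ⟨g, σ, e⟩ := fr.lift' (c.mem a)
  have h2 := fr.frat hQ g σ fun y hy => by
    obtain ⟨y', h2, h3⟩ := h1.le (show c.e (c.a a (π y)) ∈ P.1 from
      c.ha a _ ▸ (mem_normalizer_iff.1 ha _).1 (hP ⟨_, ⟨y, hy, rfl⟩, rfl⟩))
    exact ⟨y', h2, e ▸ h3.symm⟩
  exact ⟨fr.aM.i ⟨g, h2⟩ * σ, (map_mul _ _ _).trans e.symm⟩

end FrT

/-- **the box** -/
theorem boxTri (p : ℕ) [Fact p.Prime] : BoxTri p := by
  intro Gt _ _ G M Sg E X _ _ π Γ fr hC hG hL s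
  refine one_of_sub s fun A _ _ Z c l _ => (fr.exists_syl c).imp fun P hP => ⟨_, fr.HH_ne c, hP,
    fr.kk_HH c s (hC.rep fr.rep) (hG.rep ?_) (hL.rep fr.rep) l⟩
  rintro _ ⟨t, σ, h, rfl⟩
  obtain ⟨m, -, e, he, rfl⟩ := fr.rep σ h
  exact ⟨t * m, e, he, by rw [map_mul, mul_assoc]⟩

/-- **the box with traces** -/
theorem boxTriS (p : ℕ) [Fact p.Prime] : BoxTriS p := by
  intro Gt _ _ G M Sg E X _ _ π Γ fr hT hG s
  have h1 := hT.rep fr.rep
  exact boxTri p Gt G M Sg Sg X π Γ { fr with rep := fun σ h => ⟨1, one_mem _, σ, h, by rw [map_one, one_mul]⟩ }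
    (h1.cn (one_mem Sg) fun σ h => ⟨rsS M Sg fr.sM ⟨σ, h⟩, fun _ => ⟨rfl, rfl⟩⟩)
    (hG.rep fun σ h => (fr.rep σ h).imp fun _ h => h.2)
    (h1.btL (one_mem Sg) (hG.rep fun σ h => (fr.rep σ h).imp fun _ h => h.2)) s

end Cfsg.Agent.MO.Tri
end

private theorem dce_ffdbced113c1 : _root_.True := by
  try have : _root_.True := by simp only [_root_.Cfsg.Agent.MO.W.eta.eq_1]
  try have : _root_.True := by simp only [_root_.Cfsg.Agent.MO.W.Nw.eq_def]
  try have : _root_.True := by simp only [_root_.Cfsg.Agent.MO.Cb.Emb.wt.eq_1]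
  try have : _root_.True := by simp only [_root_.Cfsg.Agent.MO.Cb.dnP.congr_simp]
  try have : _root_.True := by simp only [_root_.Cfsg.Agent.MO.Cb.crS.congr_simp]
  try have : _root_.True := by simp only [_root_.Cfsg.Agent.MO.Cb.col.congr_simp]
  try have : _root_.True := by simp only [_root_.Cfsg.Agent.MO.TI.pm.eq_1]
  try have : _root_.True := by simp only [_root_.Cfsg.Agent.MO.Cb.wg.eq_1]
  try have : _root_.True := by simp only [_root_.Cfsg.Agent.MO.TI.pr.eq_1]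
  try have : _root_.True := by simp only [_root_.Cfsg.Agent.H608.BlockRank.charSpan.eq_1]
  try have : _root_.True := by simp only [_root_.Cfsg.Agent.MO.Cb.en.eq_1]
  try have : _root_.True := by simp only [_root_.Cfsg.Agent.MO.Cb.tp.eq_1]
  try have : _root_.True := by simp only [_root_.Cfsg.Agent.MO.Cb.f1.eq_def]
  try have : _root_.True := by simp only [_root_.Cfsg.Agent.MO.Cb.NP.eq_2]
  try have : _root_.True := by simp only [_root_.Cfsg.Agent.MO.Cb.co.congr_simp]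
  try have : _root_.True := by simp only [_root_.Cfsg.Agent.MO.Cb.Emb.co.eq_1]
  try have : _root_.True := by simp only [_root_.Cfsg.Agent.MO.Cb.lo.eq_1]
  try have : _root_.True := by simp only [_root_.Cfsg.Agent.MO.Cb.Emb.pl.eq_1]
  try have : _root_.True := by simp only [_root_.Cfsg.Agent.MO.W.GG.eq_1]
  try have : _root_.True := by simp only [_root_.Cfsg.Agent.H614.sg.eq_1]
  try have : _root_.True := by simp only [_root_.Cfsg.Agent.MO.Cb.ff.eq_1]
  try have : _root_.True := by simp only [_root_.Cfsg.Agent.MO.Cb.jn.eq_1]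
  try have : _root_.True := by simp only [_root_.Cfsg.Agent.MO.J.sw'.eq_1]
  try have : _root_.True := by simp only [_root_.Cfsg.Agent.MO.Cb.col.eq_1]
  try have : _root_.True := by simp only [_root_.Cfsg.Agent.MO.W.Nw.eq_2]
  try have : _root_.True := by simp only [_root_.Cfsg.Agent.MO.Cb.sn.eq_1]
  try have : _root_.True := by simp only [_root_.Cfsg.Agent.MO.J.row.eq_1]
  try have : _root_.True := by simp only [_root_.Cfsg.Agent.MO.W.Nw.eq_1]
  try have : _root_.True := by simp only [_root_.Cfsg.Agent.MO.Cb.sh.eq_1]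
  try have : _root_.True := by simp only [_root_.Cfsg.Agent.MO.TI.cb.eq_1]
  try have : _root_.True := by simp only [_root_.Cfsg.Agent.MO.Cb.dnS.eq_1]
  try have : _root_.True := by simp only [_root_.Cfsg.Agent.MO.Cb.ps.congr_simp]
  try have : _root_.True := by simp only [_root_.Cfsg.Agent.MO.Cb.f1.eq_1]
  try have : _root_.True := by simp only [_root_.Cfsg.Agent.MO.Tri.Th.eq_1]
  try have : _root_.True := by simp only [_root_.Cfsg.Agent.MO.Cb.NP.eq_1]
  try have : _root_.True := by simp only [_root_.Cfsg.Agent.MO.Cb.fam.congr_simp]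
  try have : _root_.True := by simp only [_root_.Cfsg.Agent.MO.J.IsLab.eq_1]
  try have : _root_.True := by simp only [_root_.Cfsg.Agent.MO.Cb.rn.congr_simp]
  try have : _root_.True := by simp only [_root_.Cfsg.Agent.MO.Cb.Emb.rn.eq_1]
  try have : _root_.True := by simp only [_root_.Cfsg.Agent.MO.Cb.f1.eq_2]
  try have : _root_.True := by simp only [_root_.Cfsg.Agent.MO.TI.Wb.eq_1]
  try have : _root_.True := by simp only [_root_.Cfsg.Agent.MO.Cb.NP.eq_def]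
  try have : _root_.True := by simp only [_root_.Cfsg.Agent.MO.Cb.rn.eq_1]
  try have : _root_.True := by simp only [_root_.Cfsg.Agent.MO.Cb.fam.eq_1]
  try have : _root_.True := by simp only [_root_.Cfsg.Agent.MO.Cb.NP.congr_simp]
  try have : _root_.True := by simp only [_root_.Cfsg.Agent.MO.TI.nf.eq_1]
  try have : _root_.True := by simp only [_root_.Cfsg.Agent.MO.Cb.mv.eq_1]
  try have : _root_.True := by simp only [_root_.Cfsg.Agent.MO.Cb.crS.eq_1]
  try have : _root_.True := by simp only [_root_.Cfsg.Agent.MO.Cb.dnP.eq_1]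
  try have : _root_.True := by simp only [_root_.Cfsg.Agent.MO.Cb.cr.eq_1]
  exact _root_.True.intro
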