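import Cfsg.Agent.MQ.Tu.Defs
import Cfsg.Agent.MQ.Crd.Good
import Cfsg.Agent.MQ.Lx.Code
import Cfsg.Agent.MQ.Dg.Cong
import Cfsg.Agent.MQ.U.Lin4
import Cfsg.Agent.MQ.Sy.Fin
import Cfsg.Agent.MQ.S3R.Row
import Mathlib.LinearAlgebra.Matrix.Rank
import Cfsg.Agent.MQ.Fm.Dia
import Cfsg.Agent.KZ.Mts.Ext
import Cfsg.Agent.MQ.Tri.Main
import Cfsg.Agent.MQ.Lx.Frm
import Cfsg.Agent.MQ.S3.Hy
import Cfsg.Agent.FastGrp
import Cfsg.Agent.Prune
set_option linter.all false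
prune_inst 0x7ffcbcf82fa88fffffff7e3ffed3dffc20808fffa6dffd43ffe861bf0bdf03000fc57b878df010fe1ed6e29490387813fb7eeeffe863dc7ffffd5ff41ffbee0fe5fe3508519498340fb86ff783e0778a6f3fffffffffffffffffffffffffffbeffbffbfeffff
open scoped Cfsg.Agent.FastGrp

-- part: MO/Tw/Lab
section
/-!
# MO/Tw: the twist of a label and the root lattice (helper46)

`pD1 : PD1`, `pD3 : PD3`.
-/

set_option autoImplicit false
set_option linter.unusedSectionVars false

namespace Cfsg.Agent.MO.Tw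

open Cfsg Matrix Cfsg.Agent.MO.Crd Cfsg.Agent.MO.Rc Cfsg.Agent.MO.X Cfsg.Agent.DL Cfsg.Agent.DL.PP
  Cfsg.Agent.KZ.Lie Cfsg.Agent.HZ.L Cfsg.Agent.Tits.Roots Cfsg.Agent.ChevalleyStructure.CoxeterGeom

variable {p : ℕ} [Fact p.Prime] {k : Type} [Field k] [CharP k p] [IsAlgClosed k] {Y : Type} [Group Y] {N : Type}
  [Fintype N] [DecidableEq N] {ρ : Y →* GL N k} {F : MulAut Y} {G : Subgroup Y} {D : Datum p ρ F G}

theorem vecMul_Gm {j : ℕ} (hj : ∀ a, D.Rt a → D.ex a = j) (w : D.W) {a : D.I → ℤ} (ha : D.Rt a) :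
    a ᵥ* Gm D w = D.act w (D.g a) := by
  obtain ⟨d, e, L⟩ := exists_lvl D
  have h1 : Gm D w * Reg.Am D * (D.Wm w * D.Mx) = ((p : ℤ) ^ j) • Reg.Am D := Matrix.ext fun i => congrFun (by
    have h1 := wt_gw w (a := sr i) (isRoot_sr _ _ i)
    rwa [hj _ (isRoot_sr _ _ i), ← Reg.vecMul_Am] at h1)
  have h2 : D.wt (a ᵥ* Gm D w) ᵥ* (D.Wm w * D.Mx) = D.wt (D.act w (D.g a)) ᵥ* (D.Wm w * D.Mx) := by
    rw [wt_gw w ha, hj a ha, ← Reg.vecMul_Am, vecMul_vecMul, vecMul_vecMul, ← Matrix.mul_assoc, h1, vecMul_smul, Reg.vecMul_Am]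
  obtain ⟨d, rfl⟩ := Nat.exists_eq_succ_of_ne_zero L.d_pos.ne'
  have h3 := congrArg (· ᵥ* (D.Wm w * D.Mx) ^ d) h2
  simp only [vecMul_vecMul, ← pow_succ', L.pow w, vecMul_smul, vecMul_one] at h3
  exact D.wt_injective (smul_right_injective _ (pow_ne_zero e (Nat.cast_ne_zero.2 (Fact.out : p.Prime).ne_zero)) h3)

theorem aeval_charpoly {I J : Type} [Fintype I] [DecidableEq I] [Fintype J] [DecidableEq J] {B : Matrix J I ℤ} {P : Matrix I I ℤ}
    {Q : Matrix J J ℤ} (hB : ∀ x, x ᵥ* B = 0 → x = 0) (h : B * P = Q * B) {z : ℂ} {x : J → ℂ} (hx : x ≠ 0)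
    (e : Q.map (Int.castRingHom ℂ) *ᵥ x = z • x) : Polynomial.aeval z P.charpoly = 0 := by
  have h1 : (B * Bᵀ).det ≠ 0 := fun h0 => by
    obtain ⟨v, hv, h1⟩ := exists_vecMul_eq_zero_iff.2 h0
    have h2 := congrArg (· ⬝ᵥ v) h1
    simp only [zero_dotProduct] at h2
    rw [← vecMul_vecMul, ← dotProduct_mulVec, mulVec_transpose, dotProduct_self_eq_zero] at h2
    exact hv (hB v h2)
  obtain ⟨v, hv, h2⟩ := exists_vecMul_eq_zero_iff.2 (exists_mulVec_eq_zero_iff.1 ⟨x, hx,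
    show (scalar J z - Q.map (Int.castRingHom ℂ)) *ᵥ x = 0 by rw [sub_mulVec, e, scalar_apply, diagonal_const_mulVec, sub_self]⟩)
  rw [Polynomial.aeval_def, Polynomial.eval₂_eq_eval_map, ← charpoly_map, eval_charpoly]
  refine exists_vecMul_eq_zero_iff.1 ⟨v ᵥ* B.map (Int.castRingHom ℂ), fun h3 => ?_, ?_⟩
  · refine h1 (Int.cast_injective (α := ℂ) (((Int.castRingHom ℂ).map_det _).trans ?_))
    rw [Int.cast_zero, RingHom.mapMatrix_apply, Matrix.map_mul]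
    exact exists_vecMul_eq_zero_iff.1 ⟨v, hv, by rw [← vecMul_vecMul, h3, zero_vecMul]⟩
  · rw [vecMul_sub, scalar_apply, vecMul_diagonal_const, sub_eq_zero] at h2 ⊢
    rw [vecMul_vecMul, show algebraMap ℤ ℂ = Int.castRingHom ℂ from rfl, ← Matrix.map_mul, h, Matrix.map_mul, ← vecMul_vecMul,
      ← h2, smul_vecMul]

/-- **piece D1** -/
theorem pD1 : PD1 := by
  intro p _ k _ _ _ Y _ N _ _ ρ F G D _ j B c Ψ u d ζ h hd hζ hE
  obtain ⟨x, h1, hx⟩ := (Submodule.ne_bot_iff _).1 hE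
  refine aeval_charpoly (B := Matrix.of Ψ.β) (Q := Matrix.of fun i => rep Ψ.cs Ψ.h u (sr (Ψ.τ i)))
    (fun x e => Ψ.indep x ((vecMul_eq_sum _ _).symm.trans e)) (Matrix.ext fun i => congrFun ?_) hx (funext fun i => ?_)
  · refine (vecMul_Gm h.ex _ (Ψ.rc_β i).1).trans ?_
    rw [LF.el, CF.act_mul, Ψ.node, ← Ψ.io_sr, Ψ.act_φ]
    exact (vecMul_eq_sum _ (Matrix.of Ψ.β)).symm
  · have h2 := congrFun (congrArg (rd Ψ.toRC u⁻¹ *ᵥ ·) (Sp.mem_Es.1 h1)) (Ψ.τ i)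
    simp only [mulVec_mulVec, ← Matrix.mul_assoc, ← map_mul, inv_mul_cancel, map_one, Matrix.one_mul, mulVec_smul] at h2
    have h3 : (md Ψ.toRC 1 *ᵥ x) (Ψ.τ i) = x i := by simp only [md, mulVec, dotProduct, _root_.Pi.one_apply, _root_.Matrix.of_apply, _root_.EmbeddingLike.apply_eq_iff_eq, _root_.ite_mul, _root_.one_mul, _root_.MulZeroClass.zero_mul, _root_.Finset.sum_ite_eq, _root_.Finset.mem_univ, ↓ _root_.reduceIte]
    rw [Pi.smul_apply, ← h3, h2, Pi.smul_apply, inv_smul_smul₀ (hζ.ne_zero hd.ne')]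
    simp only [rd, mulVec, MonoidHom.coe_mk, OneHom.coe_mk, inv_inv]
    rfl

/-- **piece D3** -/
theorem pD3 : PD3 := by
  intro p _ k _ _ _ Y _ N _ _ ρ F G D _ c Ψ
  refine ⟨fun j B h ⟨a, b, e⟩ => e (GdD.A_pow Ψ h.ex 1 a b), fun ⟨hp, _, m, hm⟩ i hi => ?_⟩
  subst hp
  obtain ⟨d, e, L⟩ := exists_lvl D
  have h0 := D.wt_ne_zero (Ψ.rc_β i).1
  have h1 := wt_gw Ψ.w1 (Ψ.rc_β i).1
  rw [Ψ.node, hi] at h1
  have h2 : ∀ n, D.wt (Ψ.β i) ᵥ* (D.Wm Ψ.w1 * D.Mx) ^ n = ((2 : ℤ) ^ (D.ex (Ψ.β i) * n)) • D.wt (Ψ.β i) := fun n => by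
    induction n with
    | zero => simp
    | succ n ih => rw [pow_succ, ← vecMul_vecMul, ih, smul_vecMul, h1, smul_smul, Nat.mul_succ, pow_add]; rfl
  have h3 := h2 d
  have h4 := L.pow 1
  rw [D.Wm_one, Matrix.one_mul] at h4
  have h5 := congrArg (D.wt (Ψ.β i) ᵥ* ·) ((pow_mul D.Mx 2 d).symm.trans (pow_mul' D.Mx 2 d))
  simp only [sq D.Mx, hm, h4, smul_pow, one_pow, vecMul_smul, vecMul_one, ← pow_mul] at h5
  rw [L.pow, vecMul_smul, vecMul_one] at h3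
  have h6 := (Nat.pow_right_injective le_rfl).eq_iff.1 (Int.natCast_inj.1 (by simpa only [_root_.Nat.cast_pow, _root_.Nat.cast_ofNat, _root_.Order.lt_two_iff, _root_.zero_le_one, _root_.ne_eq, _root_.OfNat.ofNat_ne_one, _root_.not_false_eq_true, _root_.pow_right_inj₀] using smul_left_injective ℤ h0 h3 :
    ((2 ^ e : ℕ) : ℤ) = (2 ^ (D.ex (Ψ.β i) * d) : ℕ)))
  have h7 := (Nat.pow_right_injective le_rfl).eq_iff.1 (Int.natCast_inj.1 (by simpa only [_root_.Nat.cast_pow, _root_.Nat.cast_ofNat, _root_.Order.lt_two_iff, _root_.zero_le_one, _root_.ne_eq, _root_.OfNat.ofNat_ne_one, _root_.not_false_eq_true, _root_.pow_right_inj₀] using smul_left_injective ℤ h0 h5 :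
    ((2 ^ ((2 * m + 1) * d) : ℕ) : ℤ) = (2 ^ (e * 2) : ℕ)))
  have h8 := Nat.eq_of_mul_eq_mul_right L.d_pos (h7.trans (by rw [h6, mul_right_comm]) : _ = D.ex (Ψ.β i) * 2 * d)
  omega

end Cfsg.Agent.MO.Tw
end

-- part: MO/Tw/Rk
section
/-!
# MO/Tw: the rank of a datum whose label has an exceptional subdiagram (helper61)

`pD2 : PD2`.
-/

set_option autoImplicit false
set_option linter.unusedSectionVars false

namespace Cfsg.Agent.MO.Tw

open Cfsg Cfsg.Lie Matrix Cfsg.Agent.MO.Crd Cfsg.Agent.MO.Crd.GdD Cfsg.Agent.MO.X Cfsg.Agent.DL Cfsg.Agent.DL.PP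
  Cfsg.Agent.KZ.Lie Cfsg.Agent.HZ.L Cfsg.Agent.ChevalleyStructure.CoxeterGeomTypes

variable {p : ℕ} [Fact p.Prime] {k : Type} [Field k] [CharP k p] [IsAlgClosed k] {Y : Type} [Group Y] {N : Type}
  [Fintype N] [DecidableEq N] {ρ : Y →* GL N k} {F : MulAut Y} {G : Subgroup Y} {D : Datum p ρ F G}

theorem rk_symE : (∀ i j, cartanOf chevE6 6 i j = cartanOf chevE6 6 j i) ∧ (∀ i j, cartanOf chevE7 7 i j = cartanOf chevE7 7 j i) ∧
    ∀ i j, cartanOf chevE8 8 i j = cartanOf chevE8 8 j i := by decide +kernel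

/-- the four cases -/
theorem rk_cases (h : Tp D) : CP (pm (rts D)) ∨ ((∀ i j, D.A i j = D.A j i) ∧ Fintype.card D.I ≤ 8) ∨ Fintype.card D.I = 2 ∨
    (Fintype.card D.I = 4 ∧ GdF D) := by
  have hc : ∀ {n}, D.I ≃ Fin n → Fintype.card D.I = n := fun e => (Fintype.card_congr e).trans (Fintype.card_fin _)
  rcases h with ⟨n, κ, -, -, h⟩ | ⟨e, -⟩ | ⟨e, he⟩ | ⟨e, he⟩ | ⟨e, he⟩ | ⟨e, he⟩
  · by_cases hn : κ = .D → n ≠ 4
    · exact .inl (h.elim fun φ h => (cp_std hn).equiv φ h)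
    · obtain ⟨rfl, rfl⟩ : κ = .D ∧ n = 4 := by simpa using hn
      exact .inr (.inl ⟨symm_of_iso h, (card_le_of_iso h).trans (by decide)⟩)
  · exact .inr (.inr (.inl (hc e)))
  · exact .inr (.inr (.inr ⟨hc e, gdF_car e he⟩))
  · exact .inr (.inl ⟨fun i j => by rw [he, he, rk_symE.1], by rw [hc e]; decide⟩)
  · exact .inr (.inl ⟨fun i j => by rw [he, he, rk_symE.2.1], by rw [hc e]; decide⟩)
  · exact .inr (.inl ⟨fun i j => by rw [he, he, rk_symE.2.2], (hc e).le⟩)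

variable {c : Lbl D} (Ψ : _root_.Cfsg.Agent.MO.Crd.LF D c)

theorem rk_le {m : ℕ} (e : Fin m → Ψ.I) (h : ∀ i j, Ψ.M (e i) (e j) = 1 → i = j) : m ≤ Fintype.card D.I := by
  have h1 := le_ncard (K := Set.univ) (fun i => Set.mem_univ (e i)) h
  have h2 := ncard_le Ψ (Set.disjoint_empty Set.univ)
  omega

theorem rk_aE : ∀ i j : Fin 6, LV.W.ga (aE 6) i j = 2 → i = j := by decide +kernel

theorem rk_six (h : Rc.HasE Ψ.toRC) : 6 ≤ Fintype.card D.I :=
  h.elim fun em h => rk_le Ψ (fun i : Fin 6 => em i) fun i j e => rk_aE i j (by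
    have := rel' Ψ.h (em i) (em j)
    rw [← h i i.2 j j.2]
    omega)

section Cl

variable (H : CP (pm (rts D)))
include H

theorem rk_sym {a a' b b' : Ψ.I} (h : Odd (Ψ.A a' a * Ψ.A a a')) (h' : Odd (Ψ.A b' b * Ψ.A b b')) : Ψ.A a b = Ψ.A b a := by
  let x : Ψ.I → rts D := fun i => ⟨_, rt_mem (Ψ.rc_β i).1⟩
  have k1 : ∀ a b, pm (rts D) (x a) (x b) = Ψ.A b a := fun a b => car' Ψ b a
  rw [← k1, ← k1]
  exact (H.sym _ (x a') _ (x b') (by rwa [k1, k1]) (by rwa [k1, k1])).symm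

theorem rk_notE : ¬ Rc.HasE Ψ.toRC := by
  rintro ⟨em, h⟩
  let x : ℕ → rts D := fun i => ⟨_, rt_mem (Ψ.rc_β (em i)).1⟩
  have k2 : ∀ a < 6, ∀ b < 6, pm (rts D) (x a) (x b) = LV.W.ga (aE 6) b a := fun a ha b hb => (car' Ψ _ _).trans (h b hb a ha)
  have P : GdD.P4 (pm (rts D)) (x 3) (x 2) (x 4) (x 1) := by
    simp (disch := decide) only [GdD.P4, k2]
    decide +kernel
  rcases H.one _ _ _ _ P with h | h | h
  · exact absurd (h (x 0)).1 (by simp (disch := decide) only [k2]; decide +kernel)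
  · exact absurd (h (x 0)).1 (by simp (disch := decide) only [k2]; decide +kernel)
  · exact absurd (h (x 5)).1 (by simp (disch := decide) only [k2]; decide +kernel)

end Cl

/-- **piece D2** -/
theorem pD2 : PD2 := by
  intro p _ k _ _ _ Y _ N _ _ ρ F G D _ hT c Ψ
  have o1 : Odd ((-1 : ℤ) * -1) := by decide
  refine ⟨fun h => ⟨rk_six Ψ h, ?_⟩, fun ⟨i, j, l, m, h1, h2, h3⟩ => ?_, fun ⟨i, j, h⟩ => ?_⟩
  · rcases rk_cases hT with H | H | H | H
    exacts [absurd h (rk_notE Ψ H), H.2, by omega, by omega]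
  · have r1 := rel' Ψ.h i j
    have r2 := rel' Ψ.h j l
    have r3 := rel' Ψ.h l m
    rcases rk_cases hT with H | H | H | H
    · have := rk_sym Ψ H (a := j) (a' := i) (b := l) (b' := m) (by convert o1 <;> omega) (by convert o1 <;> omega)
      omega
    · have := M_le Ψ H.1 j l
      omega
    · have h4 : i ≠ l := by
        rintro rfl
        rw [Ψ.M.symmetric] at h2
        omega
      have := rk_le Ψ ![i, j, l] fun a b e => by
        have e1 := Ψ.M.symmetric i j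
        have e2 := Ψ.M.symmetric j l
        have e3 := Ψ.M.off_diagonal i l h4
        have e4 := Ψ.M.off_diagonal l i h4.symm
        fin_cases a <;> fin_cases b <;> first | rfl | (simp at e; omega)
      omega
    · exact H.1
  · have r := Ψ.h.rel i j fun e => by rw [e, Ψ.M.diagonal] at h; omega
    rcases rk_cases hT with H | H | H | H
    · have o3 : Odd (Ψ.A i j * Ψ.A j i) := by
        rcases r with r | r | r | ⟨-, r | r⟩
        all_goals first | omega | (rw [r.1, r.2]; decide)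
      have := rk_sym Ψ H (mul_comm (Ψ.A i j) _ ▸ o3) o3
      omega
    · have := M_le Ψ H.1 i j
      omega
    · exact H
    · exact absurd h (M_ne_six Ψ H.2 i j)

end Cfsg.Agent.MO.Tw
end

-- part: MO/Tw/Prm
section
/-!
# MO/Tw: the pieces `PB1` and `PD4` (helper74)

* `cen_Gd` : the centraliser of the finite derived group is the centre; `al_of_central`;
* `pB1 : PB1`, `pD4 : PD4`.
-/

set_option autoImplicit false
set_option linter.unusedSectionVars false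

namespace Cfsg.Agent.MO.Tw

open Cfsg Subgroup Matrix Cfsg.Agent.MO.Om Cfsg.Agent.MO.X Cfsg.Agent.DL Cfsg.Agent.DL.PP Cfsg.Agent.DL.Uni Cfsg.Agent.DL.Asm
  Cfsg.Agent.KZ.Lie Cfsg.Agent.HZ.L Cfsg.Agent.Tits.Roots Cfsg.Agent.MO.Lx Cfsg.Agent.MO.Dc SemidirectProduct

variable {p : ℕ} [Fact p.Prime] {k : Type} [Field k] [CharP k p] [IsAlgClosed k] {Y : Type} [Group Y] {N : Type}
  [Fintype N] [DecidableEq N] {ρ : Y →* GL N k} {F : MulAut Y} {G : Subgroup Y} {D : Datum p ρ F G}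

open Cfsg.Agent.DL.St in
/-- the centraliser of the finite derived group is the centre (the proof of `Nt.cen_G`) -/
theorem cen_Gd (h : D.QS) {z : Y} (hz : z ∈ G) (hc : ∀ g ∈ GF F G, g ∈ Lx.Gd D → g * z = z * g) : ∀ y ∈ G, y * z = z * y := by
  obtain ⟨a, ha⟩ := exists_fix_unit h
  obtain ⟨v, hv, h1⟩ := exists_kap_fix h (a := fun i => a i) fun i => by
    rw [ha, Units.val_mul, Units.val_pow_eq_pow_val]
  have h0 := hc v hv.2 ((Nodes.BNOf.RGD.Sup_mono fun _ h => h.1 : D.U ≤ Lx.Gd D) hv.1)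
  have h2 : ∀ i, _root_.Cfsg.Agent.DL.PP.kap D i v ≠ 0 := fun i => by rw [h1]; exact (a i).ne_zero
  obtain ⟨u, hu, t, ht, e⟩ := (mem_Par_empty D.sbn).1 (mem_B_of_reg hv.1 h2 hz (by
    rw [mul_assoc, h0, inv_mul_cancel_left]
    exact hv.1))
  obtain ⟨c, rfl⟩ := (D.mem_T t).1 ht
  have h3 := Reg.central_of_al D (s := c) (funext fun i => Units.ext (by
    have h4 := D.conj_mem_U_of_T ht hv.1
    have h5 : _root_.Cfsg.Agent.DL.PP.kap D i (u * D.τ c * v * (u * D.τ c)⁻¹) = D.χ (sr i) (D.τ c) * _root_.Cfsg.Agent.DL.PP.kap D i v := by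
      rw [show u * D.τ c * v * (u * D.τ c)⁻¹ = u * (D.τ c * v * (D.τ c)⁻¹) * u⁻¹ by group,
        kap_mul i (mul_mem hu h4) (inv_mem hu), kap_mul i hu h4, kap_inv i hu, kap_conj i ht hv.1]
      ring
    rw [← e, ← h0, mul_inv_cancel_right] at h5
    exact (D.χ_τ _ c).symm.trans ((mul_eq_right₀ (h2 i)).1 h5.symm)))
  obtain ⟨m', hm', hF⟩ := D.exists_rp_fix (map_w0 (cs := D.cs) (φ := D.Fw) h.Fw_simple)
  obtain ⟨m, hm0, s, hs, rfl⟩ := exists_Gd_T D (g := m') ⟨hm'.mem_G, hF⟩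
  have hm : D.Rp _ m := mul_inv_cancel_right m s ▸ hm'.mul_mem_right (inv_mem hs.1)
  have h4 : u = 1 := by
    refine opp D ⟨_, hm⟩ hm.pr_eq hu ?_
    have h5 := hc m ⟨hm.mem_G, hm0.2⟩ hm0.1
    rw [e, mul_assoc u, ← h3 m hm.mem_G, ← mul_assoc, ← mul_assoc] at h5
    rwa [mul_assoc, ← mul_right_cancel h5, inv_mul_cancel_left]
  rwa [e, h4, one_mul]

theorem al_of_central {c : D.R → kˣ} (h : ∀ y ∈ G, y * D.τ c = D.τ c * y) : Reg.al D c = 1 := funext fun i => Units.ext (by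
  have h1 : D.Rt (sr i) := isRoot_sr _ _ i
  have h2 := D.tor _ h1 c 1
  rw [← h _ (Gd_le (X_le_Gd h1 (D.x_mem h1 1))), mul_inv_cancel_right, mul_one] at h2
  exact (D.x_inj _ h1 h2).symm)

/-- **piece B1** -/
theorem pB1 : PB1 := by
  rintro p _ k _ _ _ Y _ N _ _ ρ F G D _ H r w hr ⟨c, h1, h2, h3, h4⟩
  have hy := yw_mem D w
  have h5 := D.conj_τ (yw_rp D w) (mon D.Mx c)
  generalize yw D w = y at hy h5
  rw [← mon_mul, h1, ← D.F_τ] at h5
  have h6 : y * D.τ c * y⁻¹ ∈ GF F G := mem_GF.2 ⟨Gd_le (conj_mem_Gd hy h4), by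
    rw [map_mul, map_mul, map_inv]
    conv_rhs => rw [← h5]
    group⟩
  let t : G0 D := ⟨⟨_, h6⟩, (H.der _).2 (conj_mem_Gd hy h4)⟩
  have h7 : t ^ r = 1 := Subtype.ext (Subtype.ext (by
    show (y * D.τ c * y⁻¹) ^ r = 1
    rw [conj_pow, ← map_pow, h2, map_one, mul_one, mul_inv_cancel]))
  have h8 : t ∉ center (G0 D) := fun h => h3 (al_of_central fun z hz => by
    have h9 := cen_Gd H.qs h6.1 (fun g hg hg' => congrArg (fun x : G0 D => ((x : ↥(GF F G)) : Y))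
      (mem_center_iff.1 h ⟨⟨g, hg⟩, (H.der _).2 hg'⟩)) _ (mul_mem (mul_mem hy hz) (inv_mem hy))
    rwa [conj_mul, conj_mul, mul_left_inj, mul_right_inj] at h9)
  have := Fact.mk hr
  exact orderOf_eq_prime (x := (t : G0 D ⧸ center (G0 D))) (p := r) (by rw [← QuotientGroup.mk_pow, h7, QuotientGroup.mk_one])
    (mt (QuotientGroup.eq_one_iff _).1 h8) ▸ _root_.orderOf_dvd_natCard _

/-- **piece D4** -/
theorem pD4 : PD4 := by
  intro p _ k _ _ _ Y _ N _ _ ρ F G D _ _ E _ Φ f a ha w c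
  obtain ⟨b, -, hb⟩ := Φ.exists_Cf ha.2
  obtain ⟨cl, h1⟩ := exists_cl f (pt_of_G0 ha.1)
  obtain ⟨c, rfl⟩ := mul_right_surjective cl c
  have h2 := RW_res f Φ.hf b (x := inr (b : Φ.Q.A).right) (z := ⟨w, Φ.f⟩) rfl rfl c
  rw [hb] at h2
  exact ⟨_, _, fun ψ => (congrArg _ (funext fun g => (h1.RW w c g).trans (congrArg _ (h2 g).symm))).trans (Nt.ip_act a ψ _)⟩

end Cfsg.Agent.MO.Tw
end

-- part: MO/Dg/Main
section
/-!
# MO/Dg: the box `BoxDeg` (helper80)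
-/

set_option autoImplicit false
set_option linter.unusedSectionVars false

namespace Cfsg.Agent.MO.Dg

open Cfsg Subgroup Cfsg.Agent.DL Cfsg.Agent.DL.CF Cfsg.Agent.RL Cfsg.Agent.Nodes.Reps Cfsg.Agent.MO.X Cfsg.Agent.MO.Lx
  Cfsg.Agent.OddOrderCharacters Cfsg.Agent.H672

variable {p : ℕ} [Fact p.Prime] {k : Type} [Field k] [CharP k p] [IsAlgClosed k] {Y : Type} [Group Y] {N : Type}
  [Fintype N] [DecidableEq N] {ρ : Y →* GL N k} {F : MulAut Y} {G : Subgroup Y} {D : Datum p ρ F G} {E : Type} [Group E]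
  {Φ : Fm0 D E}

/-- the Levi pair of `Λ` -/
theorem lev_lp (Λ : Lev Φ) : LP D G Λ.s.K (cj Λ.s.y (Rd D Λ.lam)) := by
  have h : ∀ x ∈ Λ.s.K, F x ∈ Λ.s.K := fun _ => Λ.s.E.F_mem_G
  rw [Λ.K_eq, ← conj_Lv (lam := Λ.lam) Λ.s.hy Λ.s.hF] at h ⊢
  rw [← conj_Rd (lam := Λ.lam) Λ.s.hy Λ.s.hF]
  exact LP.of_frame (Ov.conj _ _) _ h

theorem cj_Rd_le {y : Y} (hy : y ∈ G) (lam : D.R → ℤ) : cj y (Rd D lam) ≤ Lx.Gd D := fun x hx => by
  have h := conj_mem_Gd hy ((Nodes.BNOf.RGD.Sup_mono fun _ h => h.1 : Rd D lam ≤ Lx.Gd D) (mem_cj.1 hx))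
  simpa only [mul_assoc, _root_.mul_inv_cancel_left, _root_.mul_inv_cancel, _root_.mul_one] using h

theorem exists_order {A : Type} [Group A] {z : A →* ℂˣ} {l j : ℕ} (hl : l.Prime) (h : orderOf z = l ^ j) :
    ∃ g, l ^ j ∣ orderOf (z g) := by
  have := Fact.mk hl
  cases j with
  | zero => exact ⟨1, one_dvd _⟩
  | succ j =>
    obtain ⟨g, hg⟩ := DFunLike.ne_iff.1 (pow_ne_one_of_lt_orderOf (x := z) (pow_ne_zero j hl.ne_zero)
      (h ▸ Nat.pow_lt_pow_right hl.one_lt j.lt_succ_self))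
    exact ⟨g, (orderOf_eq_prime_pow hg (h ▸ DFunLike.congr_fun (pow_orderOf_eq_one z) g)).symm.dvd⟩

/-- **box Deg** -/
theorem boxDeg : BoxDeg := by
  intro p _ k _ _ _ Y _ N _ _ ρ F G D _ H E _ Φ Λ f l hl _ hp S χ φ z j n hχ hφ hn h0 hz hf
  have := Fact.mk hl
  obtain ⟨A, hA, h1, h2⟩ := S.cn0
  obtain ⟨t, ht⟩ := exists_order hl hz
  obtain ⟨g, hg, x, rfl⟩ := S.sup t
  rw [map_mul, h0 g hg, one_mul] at ht
  rw [← Int.natCast_dvd_natCast, Nat.cast_pow]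
  refine dvd_iff hp f (lev_lp Λ) (cj_Rd_le Λ.s.hy _) z (fun x hx => h0 x ((H.der x).2 hx)) (Z := A.map (GF F G).subtype) ?_ h2.ge
    (VChar.gen_of_irr hχ) (Om.mem_Fix.1 hf) ht hφ hn (by rw [Int.cast_natCast, coe_charDegree hχ])
  rintro _ ⟨a, ha, rfl⟩
  obtain ⟨b, rfl⟩ := (hA ha).2
  obtain ⟨e, he⟩ := h1 ⟨_, ha⟩
  refine ⟨⟨b.2, ((Nat.dvd_prime_pow hl).1 (orderOf_dvd_of_pow_eq_one (congrArg (fun y : A => (y : Y)) he))).imp fun _ h => h.2,
    fun y hy => ((conn_le _ (h2.le hy)).2 _ ⟨_, ha, rfl⟩).symm⟩, ?_⟩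
  exact (Uni.lin_coe z _).trans (congrArg _ (h0 _ (hA ha).1))

end Cfsg.Agent.MO.Dg
end

-- part: MO/Tw/Fin
section
/-!
# MO/Tw: `BoxTw` (helper29)
-/

set_option autoImplicit false

namespace Cfsg.Agent.MO.Tw

open Cfsg.Agent.MO.X Cfsg.Agent.MO.Rc Cfsg.Agent.HZ.L

/-- **box Tw** -/
theorem boxTw {tabs : List XT} (ext : BoxExt) (dhc : BoxDHC)
    (jl : ∀ (p : ℕ) [Fact p.Prime], AllD p fun D => X.Hy D → JL tabs D) (tj : BoxTJ tabs) : BoxTw :=
  boxTw_of pA wy_b0 pB1 tor_b2 tor_b3 pC1 pC2 pD1 pD2 pD3 pD4 ext Dg.boxDeg dhc Sy.boxSyl jl tj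

end Cfsg.Agent.MO.Tw
end

-- part: MO/Crd/RestA
section
/-!
# MO/Crd : the frame of a label inside an ambient datum; classical ambient types (helper72)

* `Sub D c R` : the base of the frame `R` as roots of `D`; `sub_lf`, `sub_sb`; `Sub.Tw` : the twist keeps the Cartan integers;
* `Sub.card_le`, `fit_univ`, `fit_tw`; `Sub.Ev`, `Sub.cl_ev`, `Sub.cl_ok`, `Sub.cl_tri`.
-/

set_option autoImplicit false
set_option linter.unusedSectionVars false

namespace Cfsg.Agent.MO.Crd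

open CoxeterSystem Cfsg.Agent.ChevalleyStructure.CoxeterGeom Cfsg.Agent.Tits.Roots Cfsg.Agent.Nodes.SubComb Cfsg.Agent.Nodes.Coroot
  Cfsg.Agent.DL Cfsg.Agent.DL.PP Cfsg.Agent.KZ.Lie Matrix
open Cfsg.Agent.HZ.L (Vec RS rts lev std Kd Sb rt_mem Fo)
open Cfsg.Agent.LV.W (Fit ga Ty)

/-! ### one twisted Weyl group -/

theorem RC.nondeg (R : RC) {x : R.I → ℤ} (h : ∀ i, pairing R.A i x = 0) : x = 0 := by
  by_contra h0
  have h1 := form_pos R.cs R.h h0
  let f : (R.I → ℤ) →+ ℤ := AddMonoidHom.mk' (form R.cs R.h x) (form_add_right R.cs R.h x)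
  have h2 : f (∑ i, x i • sr i) = 0 := by
    rw [map_sum]
    refine Finset.sum_eq_zero fun i _ => ?_
    have h3 := two_form_cpr R.cs R.h x (isRoot_sr R.cs R.h i)
    rw [cpr_sr, h, zero_mul] at h3
    rw [map_zsmul, show f (sr i) = 0 from (mul_eq_zero.1 h3).resolve_left two_ne_zero, smul_zero]
  rw [show ∑ i, x i • sr i = x from (pi_eq_sum_univ' x).symm] at h2
  exact h1.ne' h2

theorem card_le_of {J ι : Type} [Fintype J] [Fintype ι] {v : J → ι → ℤ} (h : ∀ x, iota v x = 0 → x = 0) :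
    Fintype.card J ≤ Fintype.card ι := by
  have h1 : LinearIndependent ℤ v := Fintype.linearIndependent_iff.2 fun x hx => congrFun (h x hx)
  simpa only [Module.finrank_fintype_fun_eq_card] using h1.fintype_card_le_finrank

theorem RC.card_le (R : RC) {ι : Type} [Fintype ι] {v u : R.I → ι → ℤ} (h : ∀ i j, v j ⬝ᵥ u i = R.A i j) :
    Fintype.card R.I ≤ Fintype.card ι := card_le_of (v := v) fun x hx => R.nondeg fun i => by
  have h1 := congrArg (· ⬝ᵥ u i) hx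
  simp only [iota_apply, sum_dotProduct, smul_dotProduct, h, zero_dotProduct, smul_eq_mul] at h1
  exact (Finset.sum_congr rfl fun j _ => mul_comm _ _).trans h1

theorem RC.orth (R : RC) {K : Set R.I} (hK : Un R.M K) {i j : R.I} (hi : i ∈ K) (hj : j ∉ K) : R.A i j = 0 ∧ R.A j i = 0 := by
  have h1 := hK i hi j hj
  have h2 := R.h.rel i j fun e => hj (e ▸ hi)
  omega

section Fit

variable {R : RC} {ψ : MulAut R.W} {t : Ty} {em : ℕ → R.I} {K : Set R.I}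

theorem exc_tab : ∀ t ∈ excL, 2 ≤ t.r ∧ ∀ a < t.r, ∀ b < t.r, ga t.AL a b = 2 → a = b := by decide +kernel

theorem fit_mem (F : Fit R.cs R.h ψ t em K 1) {a : ℕ} (ha : a < t.r) : em a ∈ K := (F.mem _).2 ⟨a, ha, rfl⟩

theorem fit_inj (ht : t ∈ excL) (F : Fit R.cs R.h ψ t em K 1) : Function.Injective fun a : Fin t.r => em a := fun a b e =>
  Fin.ext ((exc_tab t ht).2 a a.2 b b.2 (by rw [← F.car a a.2 b b.2, show em a = em b from e, R.h.diag]))

/-- one node outside -/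
theorem fit_lt (ht : t ∈ excL) (F : Fit R.cs R.h ψ t em K 1) {s : Finset R.I} (hs : ∀ i ∈ s, i ∉ K) :
    t.r + s.card ≤ Fintype.card R.I := by
  have h1 : Disjoint (Finset.univ.image fun a : Fin t.r => em a) s := Finset.disjoint_right.2 fun i hi h =>
    hs i hi (let ⟨a, _, e⟩ := Finset.mem_image.1 h; e ▸ fit_mem F a.2)
  have h2 := Finset.card_le_univ (Finset.disjUnion _ _ h1)
  rwa [Finset.card_disjUnion, Finset.card_image_of_injective _ (fit_inj ht F), Finset.card_univ, Fintype.card_fin] at h2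

theorem fit_univ (ht : t ∈ excL) (F : Fit R.cs R.h ψ t em K 1) (h : Fintype.card R.I ≤ t.r) : K = Set.univ :=
  Set.eq_univ_of_forall fun i => by_contra fun hi => by
    have h1 := fit_lt ht F (s := {i}) fun j hj => Finset.mem_singleton.1 hj ▸ hi
    rw [Finset.card_singleton] at h1
    omega

theorem fit_tw {f : ℕ} (F : Fit R.cs R.h (R.ψ ^ f) t em K 1) {a : ℕ} (ha : a < t.r) : (R.τ ^ f) (em a) = em (t.σ a) :=
  R.simple_inj (((R.pw f).tw _).symm.trans ((one_mul _).symm.trans ((F.tw a ha).trans (mul_one _))))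

theorem Cmp.f_one (C : Cmp R) {b : C.B} {i : R.I} (hi : i ∈ C.K b) (h : R.τ i ∈ C.K b) : C.f b = 1 := by
  by_contra h1
  have h2 := C.pos b
  exact one_ne_zero (C.disj b b 1 (by omega) i hi h).2

end Fit

/-! ### the frame inside an ambient datum -/

variable {p : ℕ} [Fact p.Prime] {k : Type} [Field k] [CharP k p] {Y : Type} [Group Y] {N : Type} [Fintype N]
  [DecidableEq N] {ρ : Y →* GL N k} {F : MulAut Y} {G : Subgroup Y} [IsAlgClosed k]

/-- the base of the frame `R` consists of roots of `D` -/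
structure Sub (D : Datum p ρ F G) (c : Lbl D) (R : RC) where
  β : R.I → D.I → ℤ
  rt : ∀ i, D.Rt (β i)
  one : ∀ i, chr (D.cor (β i)) c = 1
  car : ∀ i j, cp D (β j) (β i) = R.A i j
  cls : ∀ r, D.Rt r → chr (D.cor r) c = 1 → ∀ x, (2 : ℤ) • r = iota β x → ∃ ξ, IsRoot R.cs R.h ξ ∧ iota β ξ = r
  w : D.W
  node : ∀ i, D.act w (D.g (β i)) = β (R.τ i)
  fo : Fo p c

variable {D : Datum p ρ F G} {c : Lbl D} {R : RC}

/-- a frame of `D` -/
def LF.sub (Φ : LF D c) : Sub D c Φ.toRC :=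
  ⟨Φ.β, fun i => (Φ.rc_β i).1, fun i => (Φ.rc_β i).2, Φ.car, fun r h1 h2 _ _ => (Φ.root r).1 ⟨h1, h2⟩, Φ.w1, Φ.node,
    HZ.L.fo_of_fx Φ.fx⟩

theorem eq_of_cor {a b : D.I → ℤ} (ha : D.Rt a) (hb : D.Rt b) {x y : ℤ} (hx : 0 < x) (hy : 0 < y)
    (h : x • D.cor a = y • D.cor b) : a = b := by
  have h1 := congrArg (D.wt a ⬝ᵥ ·) h
  have h2 := congrArg (D.wt b ⬝ᵥ ·) h
  simp only [dotProduct_smul, smul_eq_mul, wt_dot_cor D _ ha, wt_dot_cor D _ hb, On.Ree.cp_two ha, On.Ree.cp_two hb] at h1 h2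
  by_contra e
  have h3 : cp D a b * cp D b a < 4 := DL.Base.cpr_mul_lt ha hb e fun e' => by
    rw [e', cp, cpr_neg _ _ _ hb, cpr_self _ _ hb] at h1
    (clear * - hx hy h1; omega)
  have h4 : x * y * (cp D a b * cp D b a) = x * y * 4 := by linear_combination (-(x * cp D b a)) * h1 + 2 * x * h2
  exact h3.ne (mul_left_cancel₀ (mul_pos hx hy).ne' h4)

/-- **a frame of a Levi subgroup** -/
theorem sub_sb (s : Sb D) {lam : Vec D.R} (e : rts s.E = _root_.Cfsg.Agent.HZ.L.lev (rts D) lam) {c : Lbl s.E} (Φ : LF s.E c) :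
    ∃ S : Sub D c Φ.toRC, ∀ i, D.wt (S.β i) ⬝ᵥ lam = 0 := by
  have h1 : ∀ i, ∃ a, D.Rt a ∧ s.E.wt (Φ.β i) = D.wt a ∧ s.E.cor (Φ.β i) = D.cor a ∧ D.wt a ⬝ᵥ lam = 0 := fun i => by
    obtain ⟨⟨a, h1, h2⟩, h3⟩ : _ ∈ _root_.Cfsg.Agent.HZ.L.lev (rts D) lam := e ▸ rt_mem (Φ.rc_β i).1
    exact ⟨a, h1, congrArg Prod.fst h2, congrArg Prod.snd h2, (congrArg (·.1 ⬝ᵥ lam) h2).symm.trans h3⟩
  choose β h1 h2 h3 h4 using h1
  have hp : ∀ n : ℕ, (0 : ℤ) < (p : ℤ) ^ n := fun n => pow_pos (Nat.cast_pos.2 (Fact.out : p.Prime).pos) n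
  refine ⟨⟨β, h1, fun i => h3 i ▸ (Φ.rc_β i).2, fun i j => ?_, fun r hr hc x hx => ?_, s.sw Φ.w1 * s.w, fun i => ?_,
    HZ.L.fo_of_fx Φ.fx⟩, h4⟩
  · rw [← wt_dot_cor D _ (h1 i), ← h2, ← h3, ← Φ.car]
    exact wt_dot_cor s.E _ (Φ.rc_β i).1
  · have h5 := congrArg (D.wt · ⬝ᵥ lam) hx
    simp only [iota_apply, map_sum, map_zsmul, sum_dotProduct, smul_dotProduct, h4, smul_zero, Finset.sum_const_zero,
      smul_eq_zero, two_ne_zero, false_or] at h5
    obtain ⟨a, h6, h7⟩ : (D.wt r, D.cor r) ∈ rts s.E := e ▸ ⟨rt_mem hr, h5⟩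
    obtain ⟨ξ, h8, rfl⟩ := (Φ.root a).1 ⟨h6, (congrArg (chr · c) (congrArg Prod.snd h7)).symm.trans hc⟩
    refine ⟨ξ, h8, D.wt_injective ((congrArg Prod.fst h7).trans ?_).symm⟩
    simp only [iota_apply, map_sum, map_zsmul, h2]
  · refine eq_of_cor ((D.g_root _ (h1 i)).act _) (h1 _) (hp (D.ex (β i))) (hp (s.E.ex (Φ.β i))) ?_
    have h5 := s.E.cor_act Φ.w1 (s.E.g_root _ (Φ.rc_β i).1)
    rw [D.cor_act _ (D.g_root _ (h1 i)), ← mulVec_smul, ← D.Mx_cor (h1 i), mulVec_mulVec, ← s.WM_eq, ← h3, ← h3, ← Φ.node, h5,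
      ← mulVec_mulVec, s.E.Mx_cor (Φ.rc_β i).1, mulVec_smul]

theorem iso_fn {ι : Type} [Fintype ι] [DecidableEq ι] {Ψ : RS ι} (h : HZ.L.Iso (rts D) Ψ) : ∃ u : (D.I → ℤ) → Vec ι × Vec ι,
    (∀ a, D.Rt a → u a ∈ Ψ) ∧ (∀ z ∈ Ψ, ∃ a, D.Rt a ∧ u a = z) ∧ ∀ a b, D.Rt a → D.Rt b → (u a).1 ⬝ᵥ (u b).2 = cp D a b := by
  classical
  obtain ⟨φ, hφ⟩ := h
  refine ⟨fun a => if h : D.Rt a then (φ ⟨_, rt_mem h⟩).1 else 0, fun a ha => ?_, fun z hz => ?_, fun a b ha hb => ?_⟩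
  · simp only [dif_pos ha]
    exact (φ _).2
  · obtain ⟨⟨_, a, ha, rfl⟩, e⟩ := φ.surjective ⟨z, hz⟩
    exact ⟨a, ha, (dif_pos ha).trans (congrArg Subtype.val e)⟩
  · simp only [dif_pos ha, dif_pos hb, hφ, wt_dot_cor D _ hb]

namespace Sub

variable (S : Sub D c R)

theorem cp_io (x : R.I → ℤ) {a : D.I → ℤ} (ha : D.Rt a) : cp D (iota S.β x) a = ∑ j, x j * cp D (S.β j) a := by
  rw [cp, ← ell_apply _ _ ha, iota_apply, map_sum]
  exact Finset.sum_congr rfl fun j _ => by rw [map_zsmul, ell_apply, smul_eq_mul]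

theorem indep (x : R.I → ℤ) (h : iota S.β x = 0) : x = 0 := R.nondeg fun i => by
  have h1 := S.cp_io x (S.rt i)
  rw [h, cp, ← ell_apply _ _ (S.rt i), map_zero] at h1
  exact (Finset.sum_congr rfl fun j _ => by rw [S.car, mul_comm]).trans h1.symm

theorem inj : Function.Injective (iota S.β) := (injective_iff_map_eq_zero (iota S.β)).2 S.indep

include S in
/-- **the rank bound** -/
theorem card_le : Fintype.card R.I ≤ Fintype.card D.I := card_le_of S.indep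

/-- the twist on the roots -/
noncomputable def θ (a : D.I → ℤ) : D.I → ℤ := D.act S.w (D.g a)

theorem θ_rt {a : D.I → ℤ} (ha : D.Rt a) : D.Rt (S.θ a) := (D.g_root a ha).act _

theorem θ_surj {b : D.I → ℤ} (hb : D.Rt b) : ∃ a, D.Rt a ∧ S.θ a = b :=
  let ⟨a, h1, h2⟩ := D.g_surj (hb.act S.w⁻¹); ⟨a, h1, by rw [θ, h2]; exact act_act_inv D _ _⟩

/-- the twist keeps the Cartan integers -/
def Tw : Prop := ∀ a b, D.Rt a → D.Rt b → cp D (S.θ a) (S.θ b) = cp D a b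

theorem tw_of {j : ℕ} {B : HZ.L.Mat D.R} (h : HZ.L.St D j B) : S.Tw := fun a b ha hb => by
  have h1 := OM.On.Tr23.cp_g S.w hb ha
  rw [h.ex a ha, h.ex b hb] at h1
  exact mul_left_cancel₀ (pow_ne_zero _ (Nat.cast_ne_zero.2 (Fact.out : p.Prime).ne_zero)) h1

variable {S}

theorem Tw.A (h : S.Tw) (i j : R.I) : R.A (R.τ i) (R.τ j) = R.A i j := by
  rw [← S.car, ← S.car, ← S.node, ← S.node]
  exact h _ _ (S.rt j) (S.rt i)

theorem Tw.A_pow (h : S.Tw) (f : ℕ) (i j : R.I) : R.A ((R.τ ^ f) i) ((R.τ ^ f) j) = R.A i j := by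
  induction f with
  | zero => rfl
  | succ f ih => rw [pow_succ', Equiv.Perm.mul_apply, Equiv.Perm.mul_apply, h.A, ih]

variable (S) in
/-- the sum of the two roots is even -/
def Ev (u v : R.I) : Prop := ∀ b, D.Rt b → Even (cp D (S.β u) b + cp D (S.β v) b)

theorem Ev.symm {u v : R.I} (h : S.Ev u v) : S.Ev v u := fun b hb => add_comm (cp D (S.β u) b) _ ▸ h b hb

theorem Ev.A {u v : R.I} (h : S.Ev u v) (i : R.I) : Even (R.A i u + R.A i v) := by
  rw [← S.car, ← S.car]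
  exact h _ (S.rt i)

theorem Ev.tw {u v : R.I} (h : S.Ev u v) (H : S.Tw) (f : ℕ) : S.Ev ((R.τ ^ f) u) ((R.τ ^ f) v) := by
  induction f with
  | zero => exact h
  | succ f ih =>
    intro b hb
    obtain ⟨a, ha, rfl⟩ := S.θ_surj hb
    rw [pow_succ', Equiv.Perm.mul_apply, Equiv.Perm.mul_apply, ← S.node, ← S.node]
    exact (congrArg₂ (· + ·) (H _ _ (S.rt _) ha) (H _ _ (S.rt _) ha)).symm ▸ ih a ha

end Sub

/-! ### classical ambient types -/

section Cl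

variable {n : ℕ} {κ : Kd} {blk : Fin n → ℕ}

theorem std_two {a : Vec (Fin n) × Vec (Fin n)} (h : a ∈ std κ blk) {u v : Vec (Fin n)} (h1 : Odd (a.1 ⬝ᵥ u)) (h2 : Odd (v ⬝ᵥ a.2)) :
    a.1 = a.2 ∧ ∃ i j, ∃ s t : ℤ, i ≠ j ∧ (s = 1 ∨ s = -1) ∧ (t = 1 ∨ t = -1) ∧ a.2 = Pi.single i s + Pi.single j t := by
  rcases h with ⟨i, j, h, -, rfl⟩ | ⟨i, j, s, h, -, -, rfl⟩ | ⟨i, s, -, ⟨-, rfl⟩ | ⟨-, rfl⟩⟩
  · exact ⟨rfl, i, j, 1, -1, h, .inl rfl, .inr rfl, by rw [Pi.single_neg, sub_eq_add_neg]⟩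
  · have h3 : (s : ℤ) = 1 ∨ (s : ℤ) = -1 := (Int.units_eq_one_or s).imp (congrArg Units.val) (congrArg Units.val)
    exact ⟨rfl, i, j, s, s, h, h3, h3, rfl⟩
  · rw [dotProduct_single] at h2
    exact absurd ((even_two_mul _).mul_left _) (Int.not_even_iff_odd.2 h2)
  · rw [single_dotProduct] at h1
    exact absurd ((even_two_mul _).mul_right _) (Int.not_even_iff_odd.2 h1)

theorem sq_le (w : Vec (Fin n)) {i j : Fin n} (h : i ≠ j) : w i * w i + w j * w j ≤ w ⬝ᵥ w :=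
  (Finset.sum_pair (f := fun i => w i * w i) h).symm.trans_le
    (Finset.sum_le_univ_sum_of_nonneg fun _ => mul_self_nonneg _)

theorem ev_of {x y : Vec (Fin n)} (hx : x ⬝ᵥ x = 2) (hy : y ⬝ᵥ y = 2) (h : x ⬝ᵥ y = 0) {i : Fin n} {s : ℤ} (hs : s = 1 ∨ s = -1)
    (h1 : x i * s = -1) (h2 : y i * s = -1) (v : Vec (Fin n)) : Even (x ⬝ᵥ v + y ⬝ᵥ v) := by
  rw [← add_dotProduct]
  refine Finset.even_sum _ fun j _ => Even.mul_right ?_ _
  by_cases e : i = j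
  · subst e
    exact ⟨x i, by rcases hs with rfl | rfl <;> simp only [Pi.add_apply] <;> (clear * - h1 h2; omega)⟩
  · have h3 := sq_le (x + y) e
    rw [add_dotProduct, dotProduct_add, dotProduct_add, hx, hy, h, dotProduct_comm, h] at h3
    have h4 : (x + y) i * (x + y) i = 4 := by
      rcases hs with rfl | rfl
      · rw [Pi.add_apply, show x i = -1 by omega, show y i = -1 by omega]; rfl
      · rw [Pi.add_apply, show x i = 1 by omega, show y i = 1 by omega]; rfl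
    rw [mul_self_eq_zero.1 (le_antisymm (by omega) (mul_self_nonneg ((x + y) j)))]
    exact Even.zero

theorem one_of {x : Vec (Fin n)} (hx : x ⬝ᵥ x = 2) {i j : Fin n} (h : i ≠ j) {s t : ℤ} (hs : s = 1 ∨ s = -1) (ht : t = 1 ∨ t = -1)
    (h1 : x ⬝ᵥ (Pi.single i s + Pi.single j t) = -1) : x i * s = -1 ∨ x j * t = -1 := by
  have h2 := sq_le x h
  rw [dotProduct_add, dotProduct_single, dotProduct_single] at h1
  have h3 : -2 < x i ∧ x i < 2 := by constructor <;> nlinarith only [hx, h2, mul_self_nonneg (x j)]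
  have h4 : -2 < x j ∧ x j < 2 := by constructor <;> nlinarith only [hx, h2, mul_self_nonneg (x i)]
  rcases hs with rfl | rfl <;> rcases ht with rfl | rfl <;> omega

/-- a base of type `D₄` -/
structure D4 (R : RC) (o x y z : R.I) : Prop where
  ox : R.A o x = -1 ∧ R.A x o = -1
  oy : R.A o y = -1 ∧ R.A y o = -1
  oz : R.A o z = -1 ∧ R.A z o = -1
  xy : R.A x y = 0 ∧ R.A y x = 0
  xz : R.A x z = 0 ∧ R.A z x = 0
  yz : R.A y z = 0 ∧ R.A z y = 0

theorem d4_of {ψ : MulAut R.W} {sg : List ℕ} {em : ℕ → R.I} {K : Set R.I}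
    (F : Fit R.cs R.h ψ (xt 4 [[2, -1, 0, 0], [-1, 2, -1, -1], [0, -1, 2, 0], [0, -1, 0, 2]] sg) em K 1) :
    D4 R (em 1) (em 0) (em 2) (em 3) := by
  have h := fun i (hi : i < 4) j (hj : j < 4) => F.car i hi j hj
  constructor <;> constructor <;> exact h _ (by decide) _ (by decide)

/-- a subdiagram of type `E₆` -/
structure E6 (R : RC) (em : ℕ → R.I) : Prop where
  d4 : D4 R (em 3) (em 1) (em 2) (em 4)
  e0 : R.A (em 0) (em 1) = 0 ∧ R.A (em 0) (em 2) = -1 ∧ R.A (em 0) (em 4) = 0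
  e5 : R.A (em 5) (em 1) = 0 ∧ R.A (em 5) (em 4) = -1

theorem e6_of {ψ : MulAut R.W} {r : ℕ} (hr : r = 6 ∨ r = 7 ∨ r = 8) {sg : List ℕ} {em : ℕ → R.I} {K : Set R.I}
    (F : Fit R.cs R.h ψ (xt r (aE r) sg) em K 1) : E6 R em := by
  have h : ∀ i < 6, ∀ j < 6, R.A (em i) (em j) = ga (aE 6) i j := fun i hi j hj => by
    have h0 : ∀ r ∈ [6, 7, 8], ∀ i < 6, ∀ j < 6, ga (aE r) i j = ga (aE 6) i j := by decide +kernel
    exact (F.car i (show i < r by omega) j (show j < r by omega)).trans (h0 r (by simpa using hr) i hi j hj)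
  refine ⟨⟨⟨?_, ?_⟩, ⟨?_, ?_⟩, ⟨?_, ?_⟩, ⟨?_, ?_⟩, ⟨?_, ?_⟩, ⟨?_, ?_⟩⟩, ⟨?_, ?_, ?_⟩, ?_, ?_⟩ <;>
    exact h _ (by decide) _ (by decide)

theorem E6.not_ev {em : ℕ → R.I} (h : E6 R em) (e : (∀ i ∈ [em 0, em 5], Even (R.A i (em 1) + R.A i (em 2))) ∨
    (∀ i ∈ [em 0, em 5], Even (R.A i (em 1) + R.A i (em 4))) ∨ ∀ i ∈ [em 0, em 5], Even (R.A i (em 2) + R.A i (em 4))) : False := by
  rcases e with e | e | e
  · exact absurd (h.e0.1 ▸ h.e0.2.1 ▸ e _ (by simp)) (by decide)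
  · exact absurd (h.e5.1 ▸ h.e5.2 ▸ e _ (by simp)) (by decide)
  · exact absurd (h.e0.2.2 ▸ h.e0.2.1 ▸ e _ (by simp)) (by decide)

variable (S : Sub D c R) {u : (D.I → ℤ) → Vec (Fin n) × Vec (Fin n)} (h1 : ∀ a, D.Rt a → u a ∈ std κ blk)
  (h3 : ∀ a b, D.Rt a → D.Rt b → (u a).1 ⬝ᵥ (u b).2 = cp D a b)
include h1 h3

theorem Sub.two {i j : R.I} (e : Odd (R.A i j)) (e' : Odd (R.A j i)) : (u (S.β i)).1 = (u (S.β i)).2 ∧
    ∃ a b, ∃ s t : ℤ, a ≠ b ∧ (s = 1 ∨ s = -1) ∧ (t = 1 ∨ t = -1) ∧ (u (S.β i)).2 = Pi.single a s + Pi.single b t :=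
  std_two (h1 _ (S.rt i)) (by rwa [h3 _ _ (S.rt i) (S.rt j), S.car]) (by rwa [h3 _ _ (S.rt j) (S.rt i), S.car])

include S in
theorem Sub.sym {i j i' j' : R.I} (e : R.A i i' = -1 ∨ R.A i i' = -3) (e' : R.A i' i = -1 ∨ R.A i' i = -3)
    (f : R.A j j' = -1 ∨ R.A j j' = -3) (f' : R.A j' j = -1 ∨ R.A j' j = -3) : R.A i j = R.A j i := by
  have h0 : ∀ {x : ℤ}, x = -1 ∨ x = -3 → Odd x := by rintro _ (rfl | rfl) <;> decide
  rw [← S.car, ← S.car, ← h3 _ _ (S.rt _) (S.rt _), ← h3 _ _ (S.rt _) (S.rt _), ← (S.two h1 h3 (h0 e) (h0 e')).1,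
    ← (S.two h1 h3 (h0 f) (h0 f')).1, dotProduct_comm]

theorem Sub.dot {o x y : R.I} (e : R.A o y = -1 ∧ R.A y o = -1) : (u (S.β x)).1 ⬝ᵥ (u (S.β y)).1 = R.A y x := by
  rw [(S.two h1 h3 (i := y) (j := o) (e.2 ▸ by decide) (e.1 ▸ by decide)).1, h3 _ _ (S.rt _) (S.rt _), S.car]

theorem Sub.cl_ev' {o x y z : R.I} (H : D4 R o x y z) : S.Ev x y ∨ S.Ev x z ∨ S.Ev y z := by
  obtain ⟨-, a, b, s, t, hab, hs, ht, e⟩ := S.two h1 h3 (i := o) (j := x) (H.ox.1 ▸ by decide) (H.ox.2 ▸ by decide)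
  have k0 : ∀ {x}, R.A o x = -1 ∧ R.A x o = -1 → (u (S.β x)).1 ⬝ᵥ (u (S.β x)).1 = 2 := fun e => (S.dot h1 h3 e).trans (R.h.diag _)
  have k1 : ∀ {x}, R.A o x = -1 ∧ R.A x o = -1 → (u (S.β x)).1 a * s = -1 ∨ (u (S.β x)).1 b * t = -1 := fun e' =>
    one_of (k0 e') hab hs ht (by rw [← e, h3 _ _ (S.rt _) (S.rt _), S.car, e'.1])
  have k2 : ∀ {x y a s}, R.A o x = -1 ∧ R.A x o = -1 → R.A o y = -1 ∧ R.A y o = -1 → R.A x y = 0 ∧ R.A y x = 0 → s = 1 ∨ s = -1 →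
      (u (S.β x)).1 a * s = -1 → (u (S.β y)).1 a * s = -1 → S.Ev x y := fun ex ey exy hs l1 l2 b hb => by
    rw [← h3 _ _ (S.rt _) hb, ← h3 _ _ (S.rt _) hb]
    exact ev_of (k0 ex) (k0 ey) ((S.dot h1 h3 ey).trans exy.2) hs l1 l2 _
  rcases k1 H.ox with l1 | l1 <;> rcases k1 H.oy with l2 | l2 <;> rcases k1 H.oz with l3 | l3
  exacts [.inl (k2 H.ox H.oy H.xy hs l1 l2), .inl (k2 H.ox H.oy H.xy hs l1 l2), .inr (.inl (k2 H.ox H.oz H.xz hs l1 l3)),
    .inr (.inr (k2 H.oy H.oz H.yz ht l2 l3)), .inr (.inr (k2 H.oy H.oz H.yz hs l2 l3)), .inr (.inl (k2 H.ox H.oz H.xz ht l1 l3)),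
    .inl (k2 H.ox H.oy H.xy ht l1 l2), .inl (k2 H.ox H.oy H.xy ht l1 l2)]

omit h1 h3

theorem Sub.cl_ev (h : HZ.L.Iso (rts D) (std κ blk)) {o x y z : R.I} (H : D4 R o x y z) : S.Ev x y ∨ S.Ev x z ∨ S.Ev y z :=
  let ⟨_, h1, _, h3⟩ := iso_fn h; S.cl_ev' h1 h3 H

variable {S} {f : ℕ} {t : Ty} {em : ℕ → R.I} {K : Set R.I}

/-- the type `³D₄` -/
abbrev x3D4 : Ty := xt 4 [[2, -1, 0, 0], [-1, 2, -1, -1], [0, -1, 2, 0], [0, -1, 0, 2]] [2, 1, 3, 0]

/-- the twist keeps the Cartan integers : no `²G₂`, `²B₂`, `²F₄` -/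
theorem Sub.Tw.fit (H : S.Tw) (F : Fit R.cs R.h (R.ψ ^ f) t em K 1) {a b : ℕ} (ha : a < t.r) (hb : b < t.r) (ha' : t.σ a < t.r)
    (hb' : t.σ b < t.r) : ga t.AL (t.σ a) (t.σ b) = ga t.AL a b := by
  rw [← F.car _ ha' _ hb', ← F.car _ ha _ hb, ← fit_tw F ha, ← fit_tw F hb, H.A_pow]

/-- **classical ambient types** : only `³D₄` -/
theorem Sub.cl_ok (H : S.Tw) (h : HZ.L.Iso (rts D) (std κ blk)) (ht : t ∈ excL) (F : Fit R.cs R.h (R.ψ ^ f) t em K 1) : t = x3D4 := by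
  obtain ⟨u, h1, -, h3⟩ := iso_fn h
  have hE : ¬ E6 R em := fun e => e.not_ev ((S.cl_ev' h1 h3 e.d4).imp (fun k i _ => k.A i) (Or.imp (fun k i _ => k.A i) fun k i _ => k.A i))
  simp only [excL, List.mem_cons, List.not_mem_nil, or_false] at ht
  rcases ht with rfl | rfl | rfl | rfl | rfl | rfl | rfl | rfl | rfl | rfl
  · have k1 : R.A (em 0) (em 1) = -3 := F.car 0 (by decide) 1 (by decide)
    have k2 : R.A (em 1) (em 0) = -1 := F.car 1 (by decide) 0 (by decide)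
    have k3 := S.sym h1 h3 (.inr k1) (.inl k2) (.inl k2) (.inr k1)
    omega
  · exact absurd (H.fit F (a := 0) (b := 1) (by decide) (by decide) (by decide) (by decide)) (by decide)
  · exact absurd (H.fit F (a := 0) (b := 1) (by decide) (by decide) (by decide) (by decide)) (by decide)
  · have k1 : R.A (em 1) (em 2) = -2 := F.car 1 (by decide) 2 (by decide)
    have k2 : R.A (em 2) (em 1) = -1 := F.car 2 (by decide) 1 (by decide)
    have k3 := S.sym h1 h3 (.inl (F.car 1 (by decide) 0 (by decide))) (.inl (F.car 0 (by decide) 1 (by decide)))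
      (.inl (F.car 2 (by decide) 3 (by decide))) (.inl (F.car 3 (by decide) 2 (by decide)))
    omega
  · exact absurd (H.fit F (a := 1) (b := 2) (by decide) (by decide) (by decide) (by decide)) (by decide)
  · rfl
  exacts [(hE (e6_of (.inl rfl) F)).elim, (hE (e6_of (.inl rfl) F)).elim, (hE (e6_of (.inr (.inl rfl)) F)).elim,
    (hE (e6_of (.inr (.inr rfl)) F)).elim]

/-- **triality** : the rank is at most four -/
theorem Sub.cl_tri (H : S.Tw) (h : HZ.L.Iso (rts D) (std κ fun _ : Fin n => 0)) (F : Fit R.cs R.h (R.ψ ^ f) x3D4 em K 1) : n ≤ 4 := by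
  obtain ⟨u, h1, h2, h3⟩ := iso_fn h
  have H4 := d4_of F
  have t0 : (R.τ ^ f) (em 0) = em 2 := fit_tw F (a := 0) (by decide)
  have t2 : (R.τ ^ f) (em 2) = em 3 := fit_tw F (a := 2) (by decide)
  have t3 : (R.τ ^ f) (em 3) = em 0 := fit_tw F (a := 3) (by decide)
  have k1 : S.Ev (em 0) (em 2) → S.Ev (em 2) (em 3) := fun e => t0 ▸ t2 ▸ e.tw H f
  have k2 : S.Ev (em 2) (em 3) → S.Ev (em 0) (em 3) := fun e => (t2 ▸ t3 ▸ e.tw H f :).symm
  have k3 : S.Ev (em 0) (em 3) → S.Ev (em 0) (em 2) := fun e => (t0 ▸ t3 ▸ e.tw H f :).symm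
  have k4 : S.Ev (em 0) (em 2) := (S.cl_ev' h1 h3 H4).elim id fun e => k3 (e.elim id k2)
  by_contra hn
  have k5 : ∀ {x y}, R.A (em 1) x = -1 ∧ R.A x (em 1) = -1 → R.A (em 1) y = -1 ∧ R.A y (em 1) = -1 → R.A x y = 0 ∧ R.A y x = 0 →
      S.Ev x y → ∀ i, Even (((u (S.β x)).1 + (u (S.β y)).1) i) := fun {x y} ex ey exy e i => by
    have l1 : ((u (S.β x)).1 + (u (S.β y)).1) ⬝ᵥ ((u (S.β x)).1 + (u (S.β y)).1) = 4 := by
      rw [add_dotProduct, dotProduct_add, dotProduct_add, S.dot h1 h3 ex, S.dot h1 h3 ey, S.dot h1 h3 ex, S.dot h1 h3 ey, exy.1, exy.2,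
        R.h.diag, R.h.diag]
      rfl
    have l2 : ∀ j, j ≠ i → Even (((u (S.β x)).1 + (u (S.β y)).1) j - ((u (S.β x)).1 + (u (S.β y)).1) i) := fun j hj => by
      obtain ⟨a, ha, e'⟩ := h2 _ (.inl ⟨j, i, hj, rfl, rfl⟩)
      have l2 := e a ha
      rwa [← h3 _ _ (S.rt _) ha, ← h3 _ _ (S.rt _) ha, e', ← add_dotProduct, dotProduct_sub, dotProduct_single, dotProduct_single,
        mul_one, mul_one] at l2
    generalize (u (S.β x)).1 + (u (S.β y)).1 = w at l1 l2 ⊢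
    by_contra l3
    have l4 : ∀ j, 1 ≤ w j * w j := fun j => mul_self_pos.2 fun e0 : w j = 0 => by
      by_cases hj : j = i
      · exact l3 (hj ▸ e0 ▸ Even.zero)
      · exact l3 (by simpa only [e0, zero_sub, even_neg] using l2 j hj)
    have l5 := Finset.card_nsmul_le_sum Finset.univ _ 1 fun j _ => l4 j
    rw [Finset.card_univ, Fintype.card_fin, nsmul_one, show ∑ j, w j * w j = 4 from l1] at l5
    omega
  have k6 : (4 : ℤ) ∣ ((u (S.β (em 0))).1 + (u (S.β (em 2))).1) ⬝ᵥ ((u (S.β (em 0))).1 + (u (S.β (em 3))).1) :=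
    Finset.dvd_sum fun i _ => mul_dvd_mul (k5 H4.ox H4.oy H4.xy k4 i).two_dvd (k5 H4.ox H4.oz H4.xz (k2 (k1 k4)) i).two_dvd
  rw [add_dotProduct, dotProduct_add, dotProduct_add, S.dot h1 h3 H4.ox, S.dot h1 h3 H4.oz, S.dot h1 h3 H4.ox, S.dot h1 h3 H4.oz,
    R.h.diag, H4.xz.2, H4.xy.1, H4.yz.2] at k6
  exact absurd k6 (by decide)

theorem Sub.cl_card (S : Sub D c R) (h : HZ.L.Iso (rts D) (std κ blk)) : Fintype.card R.I ≤ n := by
  obtain ⟨u, -, -, h3⟩ := iso_fn h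
  exact (R.card_le (v := fun j => (u (S.β j)).1) (u := fun i => (u (S.β i)).2) fun i j => by
    rw [h3 _ _ (S.rt _) (S.rt _), S.car]).trans_eq (Fintype.card_fin n)

end Cl

end Cfsg.Agent.MO.Crd
end

-- part: MO/Crd/RestB
section
/-!
# MO/Crd : ambient types `E₆`, `E₇`, `E₈` (helper72)

* `Em8 D` : the diagram of `D` lies in `E₈`; `Em8.pos`, `Em8.root` (vectors of norm two are roots);
* `Sub.Hf` : the sum of two orthogonal nodes and two leaves of a `D₄` is twice a root; `Sub.exists_hf`;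
* `Sub.clique_e6`, `Sub.clique_tri`, `Sub.not_three` : the rest is a clique with at most two nodes.
-/

set_option autoImplicit false
set_option linter.unusedSectionVars false
set_option synthInstance.maxSize 4096

namespace Cfsg.Agent.MO.Crd

open CoxeterSystem Cfsg.Agent.ChevalleyStructure.CoxeterGeom Cfsg.Agent.Tits.Roots Cfsg.Agent.Nodes.SubComb Cfsg.Agent.Nodes.Coroot
  Cfsg.Agent.DL Cfsg.Agent.DL.PP Cfsg.Agent.KZ.Lie Matrix
open Cfsg.Agent.LV.W (Fit ga Ty)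
open GdD (bf bf_eq bf_even bf_comm bf_sr bf_rep)

namespace L8

/-- the Cartan matrix -/
def a8 : Matrix (Fin 8) (Fin 8) ℤ := !![2, 0, -1, 0, 0, 0, 0, 0; 0, 2, 0, -1, 0, 0, 0, 0; -1, 0, 2, -1, 0, 0, 0, 0;
  0, -1, -1, 2, -1, 0, 0, 0; 0, 0, 0, -1, 2, -1, 0, 0; 0, 0, 0, 0, -1, 2, -1, 0; 0, 0, 0, 0, 0, -1, 2, -1; 0, 0, 0, 0, 0, 0, -1, 2]

/-- its inverse -/
def b8 : Matrix (Fin 8) (Fin 8) ℤ := !![4, 5, 7, 10, 8, 6, 4, 2; 5, 8, 10, 15, 12, 9, 6, 3; 7, 10, 14, 20, 16, 12, 8, 4;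
  10, 15, 20, 30, 24, 18, 12, 6; 8, 12, 16, 24, 20, 15, 10, 5; 6, 9, 12, 18, 15, 12, 8, 4; 4, 6, 8, 12, 10, 8, 6, 3; 2, 3, 4, 6, 5, 4, 3, 2]

/-- twice the simple roots -/
def c8 : Matrix (Fin 8) (Fin 8) ℤ := !![1, -1, -1, -1, -1, -1, -1, 1; 2, 2, 0, 0, 0, 0, 0, 0; -2, 2, 0, 0, 0, 0, 0, 0;
  0, -2, 2, 0, 0, 0, 0, 0; 0, 0, -2, 2, 0, 0, 0, 0; 0, 0, 0, -2, 2, 0, 0, 0; 0, 0, 0, 0, -2, 2, 0, 0; 0, 0, 0, 0, 0, -2, 2, 0]

theorem tab : a8 * b8 = 1 ∧ c8 * c8ᵀ = (4 : ℤ) • a8 ∧ a8ᵀ = a8 := by decide +kernel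

theorem pos {x : Fin 8 → ℤ} (h : x ⬝ᵥ a8 *ᵥ x ≤ 0) : x = 0 := by
  have h1 : (x ᵥ* c8) ⬝ᵥ (x ᵥ* c8) = 4 * (x ⬝ᵥ a8 *ᵥ x) := by
    rw [← dotProduct_mulVec, ← mulVec_transpose, mulVec_mulVec, tab.2.1, smul_mulVec, dotProduct_smul, smul_eq_mul]
  have h2 : x ᵥ* c8 = 0 := dotProduct_self_eq_zero.1 (le_antisymm (by omega) (Finset.sum_nonneg fun _ _ => mul_self_nonneg _))
  have h3 := congrArg (· ᵥ* (c8ᵀ * b8)) h2
  simp only [vecMul_vecMul, ← Matrix.mul_assoc, tab.2.1, Matrix.smul_mul, tab.1, vecMul_smul, vecMul_one, zero_vecMul] at h3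
  exact (smul_eq_zero.1 h3).resolve_left (by decide)

theorem cons_of {K : Type} [Field K] {n : ℕ} {v : Fin n → Fin 8 → K} (hv : LinearIndependent K v) {x y : Fin 8 → K}
    (h0 : ∀ i, v i ⬝ᵥ y = 0) (hx : x ⬝ᵥ y ≠ 0) : LinearIndependent K (Fin.cons x v : Fin (n + 1) → _) :=
  linearIndependent_finCons.2 ⟨hv, fun h => hx (by
    obtain ⟨g, rfl⟩ := (Submodule.mem_span_range_iff_exists_fun K).1 h
    simp only [sum_dotProduct, smul_dotProduct, h0, smul_zero, Finset.sum_const_zero])⟩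

theorem dep' {K : Type} [Field K] {a : Matrix (Fin 8) (Fin 8) K} (ha : IsUnit a.det) {v : Fin 4 → Fin 8 → K} {o x : Fin 8 → K}
    (h1 : ∀ i j, v i ⬝ᵥ a *ᵥ v j = 0) (h2 : ∀ j, o ⬝ᵥ a *ᵥ v j = 0 ∧ v j ⬝ᵥ a *ᵥ o = 0) (h3 : ∀ j, x ⬝ᵥ a *ᵥ v j = 0 ∧ v j ⬝ᵥ a *ᵥ x = 0)
    (h4 : x ⬝ᵥ a *ᵥ x = 0) (h5 : x ⬝ᵥ a *ᵥ o ≠ 0) (h6 : o ⬝ᵥ a *ᵥ x ≠ 0) : ¬ LinearIndependent K v := fun hv => by
  have k1 := cons_of (cons_of hv (fun j => (h2 j).2) h5) (Fin.cases h4 fun j => (h3 j).2) h6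
  have k2 := rank_add_rank_le_card_of_mul_eq_zero (A := of (Fin.cons o (Fin.cons x v) : Fin 6 → _) * a) (B := (of v)ᵀ)
    (Matrix.ext fun i j => by
      rw [Matrix.mul_assoc]
      exact Fin.cases (h2 j).1 (Fin.cases (h3 j).1 fun i => h1 i j) i)
  rw [rank_mul_eq_left_of_isUnit_det _ _ ha, rank_transpose, LinearIndependent.rank_matrix (M := of v) hv,
    LinearIndependent.rank_matrix (M := of (Fin.cons o (Fin.cons x v) : Fin 6 → _)) k1] at k2
  simp at k2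

/-- **an isotropic space modulo two** -/
theorem dep {v : Fin 4 → Fin 8 → ℤ} {o x : Fin 8 → ℤ} (h1 : ∀ i j, Even (v i ⬝ᵥ a8 *ᵥ v j))
    (h2 : ∀ j, Even (o ⬝ᵥ a8 *ᵥ v j) ∧ Even (v j ⬝ᵥ a8 *ᵥ o)) (h3 : ∀ j, Even (x ⬝ᵥ a8 *ᵥ v j) ∧ Even (v j ⬝ᵥ a8 *ᵥ x))
    (h4 : Even (x ⬝ᵥ a8 *ᵥ x)) (h5 : ¬ Even (x ⬝ᵥ a8 *ᵥ o)) (h6 : ¬ Even (o ⬝ᵥ a8 *ᵥ x)) :
    ∃ e : Fin 4 → ℤ, (∀ i, e i = 0 ∨ e i = 1) ∧ (∃ i, e i ≠ 0) ∧ ∀ k, Even (∑ i, e i * v i k) := by
  have : Fact (Nat.Prime 2) := ⟨Nat.prime_two⟩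
  have k0 : ∀ z : ℤ, (z : ZMod 2) = 0 ↔ Even z := fun z => (ZMod.intCast_zmod_eq_zero_iff_dvd z 2).trans even_iff_two_dvd.symm
  have k1 : ∀ y z : Fin 8 → ℤ, (fun k => (y k : ZMod 2)) ⬝ᵥ a8.map (Int.castRingHom (ZMod 2)) *ᵥ (fun k => (z k : ZMod 2)) = 0 ↔
      Even (y ⬝ᵥ a8 *ᵥ z) := fun y z => by
    rw [← k0]
    simp only [dotProduct, mulVec, map_apply, eq_intCast, Int.cast_sum, Int.cast_mul]
  obtain ⟨g, k2, i, k3⟩ := Fintype.not_linearIndependent_iff.1 (dep' (a := a8.map (Int.castRingHom (ZMod 2)))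
    (isUnit_det_of_right_inverse (B := b8.map (Int.castRingHom (ZMod 2))) (by rw [← Matrix.map_mul, tab.1]; simp))
    (v := fun i k => (v i k : ZMod 2)) (fun i j => (k1 _ _).2 (h1 i j)) (fun j => ⟨(k1 _ _).2 (h2 j).1, (k1 _ _).2 (h2 j).2⟩)
    (fun j => ⟨(k1 _ _).2 (h3 j).1, (k1 _ _).2 (h3 j).2⟩) ((k1 _ _).2 h4) (mt (k1 _ _).1 h5) (mt (k1 _ _).1 h6))
  refine ⟨fun i => (g i).val, fun i => ?_, ⟨i, fun e => k3 ((ZMod.val_eq_zero _).1 (Nat.cast_eq_zero.1 e))⟩, fun k => (k0 _).1 ?_⟩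
  · have := (g i).val_lt
    simp only
    omega
  · simpa only [_root_.ZMod.natCast_val, _root_.Int.cast_sum, _root_.Int.cast_mul, _root_.ZMod.intCast_cast, _root_.ZMod.cast_id', _root_.id_eq, _root_.Finset.sum_apply, _root_.Pi.smul_apply, _root_.smul_eq_mul, _root_.Pi.zero_apply] using congrFun k2 k

end L8

variable {p : ℕ} [Fact p.Prime] {k : Type} [Field k] [CharP k p] {Y : Type} [Group Y] {N : Type} [Fintype N]
  [DecidableEq N] {ρ : Y →* GL N k} {F : MulAut Y} {G : Subgroup Y} [IsAlgClosed k] {D : Datum p ρ F G} {c : Lbl D} {R : RC}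

variable (D) in
/-- the diagram lies in `E₈` -/
def Em8 : Prop := ∃ ι : D.I → Fin 8, Function.Injective ι ∧ ∀ i j, D.A i j = L8.a8 (ι i) (ι j)

theorem em8_of (h : X.TyC D Lie.chevE6 6 ∨ X.TyC D Lie.chevE7 7 ∨ X.TyC D Lie.chevE8 8) : Em8 D := by
  rcases h with ⟨e, h⟩ | ⟨e, h⟩ | ⟨e, h⟩
  · exact ⟨_, (Fin.castLE_injective (by decide : 6 ≤ 8)).comp e.injective, fun i j => (h i j).trans
      ((by decide +kernel : ∀ a b, _ = L8.a8 (Fin.castLE (by decide : 6 ≤ 8) a) (Fin.castLE (by decide) b)) (e i) (e j))⟩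
  · exact ⟨_, (Fin.castLE_injective (by decide : 7 ≤ 8)).comp e.injective, fun i j => (h i j).trans
      ((by decide +kernel : ∀ a b, _ = L8.a8 (Fin.castLE (by decide : 7 ≤ 8) a) (Fin.castLE (by decide) b)) (e i) (e j))⟩
  · exact ⟨_, e.injective, fun i j => (h i j).trans (congrFun₂ (by decide +kernel :
      of (ChevalleyStructure.CoxeterGeomTypes.cartanOf Lie.chevE8 8) = L8.a8) (e i) (e j))⟩

namespace Em8

variable (h : Em8 D)
include h

theorem symm (i j : D.I) : D.A i j = D.A j i := let ⟨_, _, e⟩ := h; by rw [e, e]; exact congrFun₂ L8.tab.2.2 _ _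

theorem comm (x y : D.I → ℤ) : bf 1 D.A x y = bf 1 D.A y x := bf_comm (by simpa only [_root_.Pi.one_apply, _root_.one_mul] using h.symm) x y

theorem card_le : Fintype.card D.I ≤ 8 := let ⟨_, e, _⟩ := h; (Fintype.card_le_of_injective _ e).trans_eq (Fintype.card_fin 8)

theorem exists_P : ∃ (ι : D.I → Fin 8) (P : (D.I → ℤ) →ₗ[ℤ] Fin 8 → ℤ), (∀ x y, bf 1 D.A x y = P x ⬝ᵥ L8.a8 *ᵥ P y) ∧
    ∀ x i, P x (ι i) = x i := by
  obtain ⟨ι, h1, h2⟩ := h
  refine ⟨ι, iota fun i => Pi.single (ι i) 1, fun x y => ?_, fun x i => ?_⟩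
  · simp only [bf, toBilin'_apply, of_apply, iota_apply, sum_dotProduct, mulVec_sum, dotProduct_sum, mulVec_smul, smul_dotProduct,
      dotProduct_smul, single_dotProduct, mulVec_single_one, Pi.one_apply, one_mul, smul_eq_mul, h2, col_apply, Finset.mul_sum]
    rw [Finset.sum_comm]
    exact Finset.sum_congr rfl fun i _ => Finset.sum_congr rfl fun j _ => by ring
  · simp only [iota_apply, Pi.single_apply, h1.eq_iff, _root_.zsmul_eq_mul, _root_.Finset.sum_apply, _root_.Pi.mul_apply, _root_.Pi.intCast_apply, _root_.Int.cast_eq, _root_.mul_ite, _root_.mul_one, _root_.MulZeroClass.mul_zero, _root_.Finset.sum_ite_eq, _root_.Finset.mem_univ, ↓ _root_.reduceIte]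

theorem pos {x : D.I → ℤ} (h0 : bf 1 D.A x x ≤ 0) : x = 0 := by
  obtain ⟨ι, P, h1, h2⟩ := h.exists_P
  exact funext fun i => (h2 x i).symm.trans (congrFun (L8.pos (h1 x x ▸ h0)) _)

/-- **vectors of norm two are roots** -/
theorem root {x : D.I → ℤ} (hx : bf 1 D.A x x = 2) : D.Rt x := by
  induction hn : ∑ i, (x i).natAbs using Nat.strong_induction_on generalizing x with
  | _ n ih =>
  have h1 : ∀ i, bf 1 D.A (sr i) x = pairing D.A i x := fun i => (bf_sr i x).trans (one_mul _)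
  have h2 : ∑ i, x i * pairing D.A i x = 2 := by
    rw [← hx]
    conv_rhs => enter [1]; rw [D.eq_sum_sr x]
    simp only [map_sum, map_smul, LinearMap.sum_apply, LinearMap.smul_apply, smul_eq_mul, h1]
  obtain ⟨i, -, hi⟩ := Finset.exists_lt_of_sum_lt (s := Finset.univ) (f := fun _ => (0 : ℤ)) (g := fun i => x i * pairing D.A i x)
    (by rw [h2]; simp only [_root_.Finset.sum_const_zero, _root_.Order.lt_two_iff, _root_.zero_le_one])
  have h3 : ∀ s : ℤ, s * s = 1 → x = s • sr i ∨ s * pairing D.A i x < 2 := fun s hs => or_iff_not_imp_right.2 fun e =>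
    sub_eq_zero.1 (h.pos (by
      simp only [map_sub, map_smul, LinearMap.sub_apply, LinearMap.smul_apply, smul_eq_mul, hx, h.comm x (sr i), h1, bf_sr,
        DL.Ex.pairing_sr', D.h.diag, Pi.one_apply, one_mul]
      linarith only [hs, e]))
  rcases h3 1 rfl with e | e
  · exact e ▸ (one_smul ℤ (sr i)).symm ▸ isRoot_sr _ _ i
  rcases h3 (-1) rfl with e' | e'
  · exact e' ▸ (neg_one_smul ℤ (sr i)).symm ▸ (isRoot_sr _ _ i).neg
  have h4 : D.Rt (rep D.cs D.h (D.cs.simple i) x) := ih _ (by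
    rw [← hn]
    refine Finset.sum_lt_sum (fun j _ => ?_) ⟨i, Finset.mem_univ _, ?_⟩
    on_goal 1 =>
      by_cases hj : j = i
      swap
      · rw [rep_simple_apply _ _ _ _ _ hj]
      subst hj
    all_goals
      rw [rep_simple_apply_self]
      rcases mul_pos_iff.1 hi with k | k <;> omega) ((bf_rep (by simpa only [_root_.Pi.one_apply, _root_.one_mul] using h.symm) _ _ _).trans hx) rfl
  have h5 := h4.act (D.cs.simple i)
  rwa [← rep_mul_apply, simple_mul_simple_self, map_one, Module.End.one_apply] at h5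

end Em8

namespace Sub

variable (S : Sub D c R)

theorem bf_β (h : Em8 D) (i j : R.I) : bf 1 D.A (S.β i) (S.β j) = R.A i j := (bf_eq h.symm (S.rt i) _).trans (S.car i j)

include S in
theorem A_symm (h : Em8 D) (i j : R.I) : R.A i j = R.A j i := by rw [← S.bf_β h, h.comm, S.bf_β h]

/-- the sum is twice a root -/
def Hf (l : Fin 3 → R.I) (a b : R.I) (m : Fin 3) : Prop :=
  ∃ r, D.Rt r ∧ (2 : ℤ) • r = S.β a + S.β b + (S.β (l 0) + S.β (l 1) + S.β (l 2)) - S.β (l m)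

variable {S} {l : Fin 3 → R.I} {o a b b' : R.I} {m m' : Fin 3} {K : Set R.I}

theorem Hf.symm (H : S.Hf l a b m) : S.Hf l b a m := H.imp fun _ e => ⟨e.1, add_comm (S.β a) _ ▸ e.2⟩

theorem Hf.even (H : S.Hf l a b m) (i : R.I) :
    Even (R.A i a + R.A i b + (R.A i (l 0) + R.A i (l 1) + R.A i (l 2)) - R.A i (l m)) := by
  obtain ⟨r, -, e⟩ := H
  have h1 := congrArg (ell D.cs D.h (S.rt i)) e
  simp only [map_zsmul, map_sub, map_add, ell_apply, S.car] at h1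
  exact ⟨_, h1.symm.trans (two_smul _ _)⟩

theorem not_half (h : Em8 D) (h0 : R.A a b = 0) (s : D.I → ℤ) : (2 : ℤ) • s ≠ S.β a - S.β b := fun e => by
  have h1 := congrArg₂ (bf 1 D.A · ·) e e
  obtain ⟨t, ht⟩ := bf_even D.h h.symm s
  simp only [map_smul, map_sub, LinearMap.smul_apply, LinearMap.sub_apply, S.bf_β h, smul_eq_mul, R.h.diag, S.A_symm h b a, h0, ht] at h1
  omega

theorem D4.orth (H : D4 R o (l 0) (l 1) (l 2)) (e : m ≠ m') : R.A (l m) (l m') = 0 := by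
  fin_cases m <;> fin_cases m'
  exacts [absurd rfl e, H.xy.1, H.xz.1, H.xy.2, absurd rfl e, H.yz.1, H.xz.2, H.yz.2, absurd rfl e]

theorem Hf.uniq (h : Em8 D) (H4 : D4 R o (l 0) (l 1) (l 2)) (H : S.Hf l a b m) (H' : S.Hf l a b m') : m = m' := by_contra fun e =>
  let ⟨r, _, e1⟩ := H; let ⟨r', _, e2⟩ := H'
  not_half (S := S) h (D4.orth H4 e) (r' - r) (by rw [smul_sub, e1, e2]; abel)

theorem Hf.ne (h : Em8 D) (h0 : R.A b b' = 0) (H : S.Hf l a b m) (H' : S.Hf l a b' m') : m ≠ m' := fun e =>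
  let ⟨r, _, e1⟩ := H; let ⟨r', _, e2⟩ := H'
  not_half (S := S) h h0 (r - r') (by rw [smul_sub, e1, e2, e]; abel)

theorem Hf.tw (T : S.Tw) (h0 : R.τ (l 0) = l 1) (h1 : R.τ (l 1) = l 2) (h2 : R.τ (l 2) = l 0) (H : S.Hf l a b m) :
    S.Hf l (R.τ a) (R.τ b) (m + 1) := by
  obtain ⟨r, hr, e⟩ := H
  have h3 : R.τ (l m) = l (m + 1) := by fin_cases m; exacts [h0, h1, h2]
  refine ⟨_, S.θ_rt hr, sub_eq_zero.1 (eq_zero_of_minuscule D _ fun z hz => ?_)⟩
  obtain ⟨y, hy, rfl⟩ := S.θ_surj hz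
  have k0 : ∀ i, ell D.cs D.h hz (S.β (R.τ i)) = ell D.cs D.h hy (S.β i) := fun i => by
    rw [← S.node]
    exact T _ _ (S.rt i) hy
  have k1 := congrArg (ell D.cs D.h hy) e
  rw [cp, ← ell_apply _ _ hz, ← h3, show S.β (l 0) + S.β (l 1) + S.β (l 2) = S.β (R.τ (l 0)) + S.β (R.τ (l 1)) + S.β (R.τ (l 2)) by
    rw [h0, h1, h2]; abel]
  simp only [map_zsmul, map_sub, map_add, k0] at k1 ⊢
  rw [show ell D.cs D.h hz (S.θ r) = ell D.cs D.h hy r from T _ _ hr hy, k1, sub_self]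
  exact zero_le_one

variable (h : Em8 D) (H4 : D4 R o (l 0) (l 1) (l 2)) (hK : Un R.M K) (ho : o ∈ K) (hl : ∀ m, l m ∈ K)
include h H4 hK ho hl

variable (S) in
/-- **two orthogonal nodes next to a `D₄`** -/
theorem exists_hf (ha : a ∉ K) (hb : b ∉ K) (h0 : R.A a b = 0) : ∃ m, S.Hf l a b m := by
  obtain ⟨ι, P, h1, h2⟩ := h.exists_P
  have z0 := S.A_symm h b a ▸ h0
  have z1 := R.orth hK ho ha
  have z2 := R.orth hK ho hb
  have z3 := fun m => R.orth hK (hl m) ha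
  have z4 := fun m => R.orth hK (hl m) hb
  obtain ⟨⟨o1, o2⟩, ⟨o3, o4⟩, ⟨o5, o6⟩, ⟨o7, o8⟩, ⟨o9, o10⟩, o11, o12⟩ := H4
  obtain ⟨e, k1, k2, k3⟩ := L8.dep (v := fun i => P (![S.β (l 0) + S.β (l 1), S.β (l 1) + S.β (l 2), S.β a, S.β b] i))
    (o := P (S.β o)) (x := P (S.β (l 0)))
    (fun i j => by rw [← h1]; clear h1; (revert i j; simp only [S.bf_β h, R.h.diag, *, _root_.Fin.forall_fin_succ, _root_.Nat.succ_eq_add_one, Nat.reduceAdd, Fin.isValue, _root_.Matrix.cons_val_zero, _root_.map_add, _root_.Matrix.cons_val_succ, _root_.Matrix.cons_val_fin_one, _root_.forall_const, _root_.LinearMap.add_apply, _root_.add_zero, _root_.zero_add, Int.reduceAdd, _root_.even_two, _root_.Even.zero, _root_.and_self, _root_.and_true, _root_.true_and, _root_.implies_true]) <;> (repeat' with_reducible apply And.intro) <;> decide)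
    (fun j => by rw [← h1, ← h1]; clear h1; (revert j; simp only [S.bf_β h, *, _root_.Fin.forall_fin_succ, _root_.Nat.succ_eq_add_one, Nat.reduceAdd, Fin.isValue, _root_.Matrix.cons_val_zero, _root_.map_add, Int.reduceNeg, Int.reduceAdd, _root_.even_neg, _root_.even_two, _root_.LinearMap.add_apply, _root_.and_self, _root_.Matrix.cons_val_succ, _root_.Even.zero, _root_.Matrix.cons_val_fin_one, _root_.implies_true]))
    (fun j => by rw [← h1, ← h1]; clear h1; (revert j; simp only [S.bf_β h, R.h.diag, *, _root_.Fin.forall_fin_succ, Fin.isValue, _root_.Nat.succ_eq_add_one, Nat.reduceAdd, _root_.Matrix.cons_val_zero, _root_.map_add, _root_.add_zero, _root_.even_two, _root_.LinearMap.add_apply, _root_.and_self, _root_.Matrix.cons_val_succ, _root_.Even.zero, _root_.Matrix.cons_val_fin_one, _root_.implies_true]))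
    (by rw [← h1, S.bf_β h, R.h.diag]; decide) (by rw [← h1, S.bf_β h, o2]; decide) (by rw [← h1, S.bf_β h, o1]; decide)
  obtain ⟨s, hs⟩ : ∃ s : D.I → ℤ, (2 : ℤ) • s = e 0 • (S.β (l 0) + S.β (l 1)) + e 1 • (S.β (l 1) + S.β (l 2)) + e 2 • S.β a + e 3 • S.β b := by
    choose s hs using fun i => k3 (ι i)
    refine ⟨s, funext fun i => ?_⟩
    have k4 := hs i
    simp only [h2, Fin.sum_univ_four] at k4
    exact (two_mul (s i)).trans k4.symm
  have k4 := congrArg₂ (bf 1 D.A · ·) hs hs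
  obtain ⟨t, ht⟩ := bf_even D.h h.symm s
  simp only [map_smul, map_add, LinearMap.smul_apply, LinearMap.add_apply, S.bf_β h, smul_eq_mul, R.h.diag, ht, h0, z0, z3, z4, o7, o8,
    o9, o10, o11, o12] at k4
  have k5 : ∀ m s, (2 : ℤ) • s = S.β a + S.β b + (S.β (l 0) + S.β (l 1) + S.β (l 2)) - S.β (l m) → S.Hf l a b m := fun m s hs => by
    refine ⟨s, h.root ?_, hs⟩
    have k5 := congrArg₂ (bf 1 D.A · ·) hs hs
    fin_cases m <;> simp only [Fin.zero_eta, Fin.mk_one, Fin.reduceFinMk, map_smul, map_add, map_sub, LinearMap.smul_apply,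
      LinearMap.add_apply, LinearMap.sub_apply, S.bf_β h, smul_eq_mul, R.h.diag, h0, z0, z3, z4, o7, o8, o9, o10, o11, o12] at k5 <;> omega
  simp only [Fin.exists_fin_succ, Fin.succ_zero_eq_one, Fin.reduceSucc, IsEmpty.exists_iff, or_false] at k2
  rcases k1 0 with e0 | e0 <;> rcases k1 1 with e1 | e1 <;> rcases k1 2 with e2 | e2 <;> rcases k1 3 with e3 | e3 <;>
    rw [e0, e1, e2, e3] at k4 hs k2 <;> try omega
  · exact ⟨0, k5 0 s (by rw [hs]; module)⟩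
  · exact ⟨2, k5 2 s (by rw [hs]; module)⟩
  · exact ⟨1, k5 1 (s - S.β (l 1)) (by rw [smul_sub, hs]; module)⟩

variable (S) in
include S in
/-- **no three orthogonal nodes next to a `D₄`** -/
theorem not_orth (ha : a ∉ K) (hb : b ∉ K) (hb' : b' ∉ K) (h1 : R.A a b = 0) (h2 : R.A a b' = 0) (h3 : R.A b b' = 0) : False := by
  obtain ⟨χ, hχ⟩ : ∃ χ : (D.I → ℤ) → ℂˣ, ∀ z, χ z = chr (∑ i, z i • D.cw i) c := ⟨_, fun _ => rfl⟩
  have c1 : ∀ z z', χ (z + z') = χ z * χ z' := fun z z' => by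
    simp only [hχ, Pi.add_apply, add_smul, Finset.sum_add_distrib, chr_add]
  have c2 : ∀ i, χ (S.β i) = 1 := fun i => by rw [hχ, ← GdD.cor_eq h.symm (S.rt i), S.one]
  have c3 : ∀ {a b m} r, a ∉ K → R.A a b = 0 → D.Rt r →
      (2 : ℤ) • r = S.β a + S.β b + (S.β (l 0) + S.β (l 1) + S.β (l 2)) - S.β (l m) → χ r = -1 := fun {a b m} r ha h0 hr e => by
    have k1 := congrArg χ (eq_sub_iff_add_eq.1 e)
    simp only [two_smul, c1, c2, mul_one, Units.ext_iff, Units.val_mul, Units.val_one, mul_self_eq_one_iff] at k1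
    refine Units.ext (k1.resolve_left fun k2 => ?_)
    have k3 : iota S.β (sr a + sr b + (sr (l 0) + sr (l 1) + sr (l 2)) - sr (l m)) =
        S.β a + S.β b + (S.β (l 0) + S.β (l 1) + S.β (l 2)) - S.β (l m) := by simp only [map_add, map_sub, iota_sr]
    obtain ⟨ξ, -, rfl⟩ := S.cls r hr (by rw [GdD.cor_eq h.symm hr, ← hχ]; exact Units.ext k2) _ (e.trans k3.symm)
    have k4 := congrFun (S.inj ((map_zsmul _ _ _).trans (e.trans k3.symm))) a
    have k5 : ∀ m, (sr (l m) : R.I → ℤ) a = 0 := fun m => sr_ne fun e => ha (e ▸ hl m)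
    have k6 : (sr b : R.I → ℤ) a = 0 := sr_ne fun e => absurd (e ▸ h0) (by rw [R.h.diag]; decide)
    simp only [Pi.smul_apply, Pi.add_apply, Pi.sub_apply, sr_self, k5, k6, smul_eq_mul] at k4
    omega
  obtain ⟨m1, H1⟩ := S.exists_hf h H4 hK ho hl ha hb h1
  obtain ⟨m2, H2⟩ := S.exists_hf h H4 hK ho hl ha hb' h2
  obtain ⟨m3, H3⟩ := S.exists_hf h H4 hK ho hl hb hb' h3
  have n1 := H1.ne h h3 H2
  have n2 := H1.symm.ne h h2 H3
  have n3 := H2.symm.ne h h1 H3.symm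
  obtain ⟨r1, p1, e1⟩ := H1
  obtain ⟨r2, p2, e2⟩ := H2
  obtain ⟨r3, p3, e3⟩ := H3
  have k1 : S.β (l m1) + S.β (l m2) + S.β (l m3) = S.β (l 0) + S.β (l 1) + S.β (l 2) := by
    fin_cases m1 <;> fin_cases m2 <;> fin_cases m3 <;> first | exact absurd rfl n1 | exact absurd rfl n2 | exact absurd rfl n3 |
      (simp only [Fin.zero_eta, Fin.mk_one, Fin.reduceFinMk]; try abel)
  have k2 : r1 + r2 + r3 = S.β a + S.β b + S.β b' + (S.β (l 0) + S.β (l 1) + S.β (l 2)) :=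
    smul_right_injective _ (two_ne_zero (α := ℤ)) (by
      simp only [smul_add, e1, e2, e3]
      linear_combination (exp := 1) -k1)
  have k3 := congrArg χ k2
  simp only [c1, c2, c3 r1 ha h1 p1 e1, c3 r2 ha h2 p2 e2, c3 r3 hb h3 p3 e3] at k3
  exact absurd (congrArg Units.val k3) (by norm_num)

omit H4 hK ho hl in
variable (S) in
/-- no cycles -/
theorem not_cyc {x : R.I → ℤ} (h0 : x a ≠ 0) : 0 < bf 1 D.A (iota S.β x) (iota S.β x) :=
  not_le.1 fun e => h0 (congrFun (S.indep _ (h.pos e)) a)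

variable (S) in
/-- **triality** : the rest is a clique -/
theorem clique_tri (T : S.Tw) (h0 : R.τ (l 0) = l 1) (h1 : R.τ (l 1) = l 2) (h2 : R.τ (l 2) = l 0) (st : ∀ i, i ∉ K → R.τ i ∉ K)
    (ha : a ∉ K) (hb : b ∉ K) : R.A a b ≠ 0 := fun h3 => by
  obtain ⟨m, H⟩ := S.exists_hf h H4 hK ho hl ha hb h3
  have k1 : ∀ i, i ∉ K → i ≠ a → i ≠ b → R.A i a = -1 ∧ R.A i b = -1 := fun i hi n1 n2 => by
    have k1 := H.even i
    simp only [fun m => (R.orth hK (hl m) hi).2, add_zero, sub_zero, Int.even_iff] at k1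
    have k2 := R.h.rel i a n1
    have k3 := R.h.rel i b n2
    have k4 := S.A_symm h i a
    have k5 := S.A_symm h i b
    have k6 : ¬ (R.A i a = 0 ∧ R.A i b = 0) := fun e => S.not_orth h H4 hK ho hl hi ha hb e.1 e.2 h3
    (clear * - k1 k2 k3 k4 k5 k6; solve | lia | omega)
  have k2 : ∀ a' b', a' ∉ K → b' ∉ K → R.A a' b' = 0 → a' = a ∨ a' = b := fun a' b' ha' hb' e => by
    by_contra n
    obtain ⟨n1, n2⟩ := not_or.1 n
    obtain ⟨l1, l2⟩ := k1 a' ha' n1 n2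
    obtain ⟨l3, l4⟩ := k1 b' hb' (fun e' => by rw [e', l1] at e; omega) fun e' => by rw [e', l2] at e; omega
    have k2 := S.not_cyc h (a := a) (x := sr a + sr b + sr a' + sr b') (by
      have := sr_nonneg b a
      have := sr_nonneg a' a
      have := sr_nonneg b' a
      simp only [Pi.add_apply, sr_self, Pi.zero_apply] at *
      omega)
    simp only [map_add, iota_sr, LinearMap.add_apply, S.bf_β h, R.h.diag, S.A_symm h b a, S.A_symm h a a', S.A_symm h b a',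
      S.A_symm h a b', S.A_symm h b b', S.A_symm h b' a', h3, e, l1, l2, l3, l4] at k2
    omega
  have k3 := (T.A a b).trans h3
  have k4 := H.tw T h0 h1 h2
  have k5 : m ≠ m + 1 := (by decide : ∀ m : Fin 3, m ≠ m + 1) m
  have k6 : R.τ a ≠ R.τ b := fun e => absurd (e ▸ k3) (by rw [R.h.diag]; decide)
  rcases k2 _ _ (st a ha) (st b hb) k3 with e | e <;> rcases k2 _ _ (st b hb) (st a ha) (S.A_symm h _ _ ▸ k3) with e' | e'
  exacts [k6 (e.trans e'.symm), k5 (H.uniq h H4 (e ▸ e' ▸ k4)), k5 (H.uniq h H4 (e ▸ e' ▸ k4 :).symm), k6 (e.trans e'.symm)]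

omit H4 ho hl

variable (S) in
include S in
/-- **`E₆`** : the rest is a clique -/
theorem clique_e6 {em : ℕ → R.I} (H : E6 R em) (hm : ∀ i < 6, em i ∈ K) (ha : a ∉ K) (hb : b ∉ K) : R.A a b ≠ 0 := fun h3 => by
  obtain ⟨m, H'⟩ := S.exists_hf (l := ![em 1, em 2, em 4]) h H.d4 hK (hm 3 (by decide))
    (fun m => by fin_cases m <;> exact hm _ (by decide)) ha hb h3
  have k1 : ∀ i ∈ [em 0, em 5], R.A i a = 0 ∧ R.A i b = 0 := fun i hi => by
    have : i ∈ K := by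
      simp only [List.mem_cons, List.not_mem_nil, or_false] at hi
      rcases hi with rfl | rfl <;> exact hm _ (by decide)
    exact ⟨(R.orth hK this ha).1, (R.orth hK this hb).1⟩
  have k2 := fun i hi => (k1 i hi).1 ▸ (k1 i hi).2 ▸ H'.even i
  refine H.not_ev ?_
  fin_cases m
  · exact .inr (.inr fun i hi => by simpa only [add_assoc, _root_.add_zero, _root_.Fin.isValue, _root_.Matrix.cons_val_zero, _root_.Matrix.cons_val_one, _root_.Matrix.cons_val, _root_.zero_add, _root_.Fin.zero_eta, _root_.add_sub_cancel_left] using k2 i hi)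
  · exact .inr (.inl fun i hi => by simpa only [add_right_comm _ (R.A i (em 2)), _root_.add_zero, _root_.Fin.isValue, _root_.Matrix.cons_val_zero, _root_.Matrix.cons_val_one, _root_.Matrix.cons_val, _root_.zero_add, _root_.Fin.mk_one, _root_.add_sub_cancel_right] using k2 i hi)
  · exact .inl fun i hi => by simpa only [_root_.add_zero, _root_.Fin.isValue, _root_.Matrix.cons_val_zero, _root_.Matrix.cons_val_one, _root_.Matrix.cons_val, _root_.zero_add, _root_.Fin.reduceFinMk, _root_.add_sub_cancel_right] using k2 i hi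

omit hK

variable (S) in
include S in
theorem not_three (h1 : R.A a b = -1) (h2 : R.A a b' = -1) (h3 : R.A b b' = -1) : False := by
  have k2 := S.not_cyc h (a := a) (x := sr a + sr b + sr b') (by
    have := sr_nonneg b a
    have := sr_nonneg b' a
    simp only [Pi.add_apply, sr_self, Pi.zero_apply] at *
    omega)
  simp only [map_add, iota_sr, LinearMap.add_apply, S.bf_β h, R.h.diag, S.A_symm h b a, S.A_symm h b' a, S.A_symm h b' b, h1, h2, h3] at k2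
  omega

end Sub

end Cfsg.Agent.MO.Crd
end

-- part: MO/Jl/Rs
section
/-!
# MO/Jl : the rest next to an exceptional block, `boxRs` (helper72)

* `fit_small` : cliques with at most two nodes; `rest_e` (ambient types `E`), `rest_f` (`²B₂` in `F₄`), `rest_cl`;
* `boxRs : BoxRs`.
-/

set_option autoImplicit false
set_option linter.unusedSectionVars false

namespace Cfsg.Agent.MO.Jl

open CoxeterSystem Cfsg.Agent.ChevalleyStructure.CoxeterGeom Cfsg.Agent.Tits.Roots Cfsg.Agent.Nodes.SubComb Cfsg.Agent.Nodes.Coroot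
  Cfsg.Agent.DL Cfsg.Agent.DL.PP Cfsg.Agent.KZ.Lie Matrix Cfsg.Agent.MO.Crd Cfsg.Lie
open Cfsg.Agent.HZ.L (std Kd rts)
open Cfsg.Agent.LV.W (Fit ga Ty)

namespace Rs

/-- cliques -/
theorem fit_small (R : RC) {J : Set R.I} {a : R.I} (ha : a ∈ J) (st : ∀ i ∈ J, R.τ i ∈ J)
    (cl : ∀ i ∈ J, ∀ j ∈ J, i ≠ j → R.A i j = -1) (h3 : ∀ i ∈ J, ∀ j ∈ J, i ≠ a → j ≠ a → i = j) :
    ∃ t ∈ smL, ∃ em, Fit R.cs R.h R.ψ t em J 1 := by
  have k0 : ∀ {i j}, R.τ i = j → 1 * R.ψ (R.cs.simple i) = R.cs.simple j * 1 := fun e => by rw [one_mul, mul_one, R.tw, e]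
  have k1 : LV.T.Min R.cs J 1 := fun x _ => by rw [mul_one, R.cs.length_one, add_zero]
  by_cases h : ∀ i ∈ J, i = a
  · exact ⟨_, .head _, fun _ => a, fun i hi j hj => by
      obtain rfl : i = 0 := Nat.lt_one_iff.1 hi
      obtain rfl : j = 0 := Nat.lt_one_iff.1 hj
      exact R.h.diag a, fun i => ⟨fun hi => ⟨0, Nat.one_pos, (h i hi).symm⟩, fun ⟨_, _, e⟩ => e ▸ ha⟩, R.aut, k1,
      fun _ _ => k0 (h _ (st a ha))⟩
  push Not at h
  obtain ⟨b, hb, n⟩ := h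
  have k2 : ∀ i ∈ J, i = a ∨ i = b := fun i hi => or_iff_not_imp_left.2 fun e => h3 i hi b hb e n
  have k3 : ∀ sg : List ℕ, (∀ i < 2, R.τ (if i = 0 then a else b) = if (xt 2 [[2, -1], [-1, 2]] sg).σ i = 0 then a else b) →
      Fit R.cs R.h R.ψ (xt 2 [[2, -1], [-1, 2]] sg) (fun i => if i = 0 then a else b) J 1 := fun sg e =>
    ⟨fun i (hi : i < 2) j (hj : j < 2) => by
      interval_cases i <;> interval_cases j
      exacts [R.h.diag a, cl a ha b hb n.symm, cl b hb a ha n, R.h.diag b],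
    fun i => ⟨fun hi => (k2 i hi).elim (fun e => ⟨0, Nat.two_pos, e.symm⟩) fun e => ⟨1, Nat.one_lt_two, e.symm⟩,
      fun ⟨_, _, e⟩ => e ▸ by split_ifs; exacts [ha, hb]⟩, R.aut, k1, fun i hi => k0 (e i hi)⟩
  rcases k2 _ (st a ha) with e | e <;> rcases k2 _ (st b hb) with e' | e'
  · exact absurd (R.τ.injective (e'.trans e.symm)) n
  · exact ⟨_, .tail _ (.head _), _, k3 _ fun i hi => by interval_cases i; exacts [e, e']⟩
  · exact ⟨_, .tail _ (.tail _ (.head _)), _, k3 _ fun i hi => by interval_cases i; exacts [e, e']⟩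
  · exact absurd (R.τ.injective (e'.trans e.symm)) n

theorem sg_tab : ∀ t ∈ excL, ∀ a < t.r, ∃ b < t.r, t.σ b = a := by decide +kernel

/-- the Cartan integers of `F₄` -/
def mF (s t : ℕ) : ℤ := (HZ.L.U.pr chevF4 4 HZ.L.U.BF4 s).1 ⬝ᵥ (HZ.L.U.pr chevF4 4 HZ.L.U.BF4 t).2

/-- the lengths -/
def lF (s : ℕ) : Bool := GdD.b4 (Nodes.RGDChev.vec chevF4 4 s) (Nodes.RGDChev.vec chevF4 4 s) == 2

private def tq (T s i : ℕ) : ℤ := Int.subNatNat (Nat.mod (Nat.shiftRight T (Nat.add (Nat.mul 16 s) (Nat.mul 4 i))) 16) 8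

private def tA : ℕ := 0xabca9bca9aca9aba9aaa99aa89aa9ab99aa999a989a999998999889988899aa899a889a8999889988898998889889888788887887788887887787778876877687668888788778777777787677767766776578766776676667656764675466546

private def tB : ℕ := 0x988879888798888989799789788988978a78a6986898a8796a798699887a898797977897a8876a8786a799787a78a7886988969877988a69a689688998797979878988968a77a6976897a8786a78869888799887798787978887897897887888

private theorem f4_vec : ∀ s : Fin chevF4.nroots, ∀ i : Fin 4, (HZ.L.U.pr chevF4 4 HZ.L.U.BF4 s).1 i = tq tA s i ∧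
    (HZ.L.U.pr chevF4 4 HZ.L.U.BF4 s).2 i = tq tB s i := by decide +kernel

private def m2 (s t : ℕ) : ℤ := Int.add (Int.add (Int.add (Int.mul (tq tA s 0) (tq tB t 0)) (Int.mul (tq tA s 1) (tq tB t 1)))
  (Int.mul (tq tA s 2) (tq tB t 2))) (Int.mul (tq tA s 3) (tq tB t 3))

private theorem mF_eq (s t : Fin chevF4.nroots) : mF s t = m2 s t := by
  show ∑ i, (HZ.L.U.pr chevF4 4 HZ.L.U.BF4 s).1 i * (HZ.L.U.pr chevF4 4 HZ.L.U.BF4 t).2 i = _
  simp only [(f4_vec _ _).1, (f4_vec _ _).2, Fin.sum_univ_four]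
  rfl

private def tW (s t : ℕ) : ℕ := Nat.mod (Nat.shiftRight 0xb000000000000000280000009c002600000090000000000000001d00000000000000002c000000000000000a00000027000000940000023000000000000000700000000000000b0000000000000002800000000002694000000000088000000000000001b000000000000000000000000000000000beeb4000000002baa9000000000000000000000000000000b000000000000000000270000000000248c000000000084000000000000000001400002c0000000000000000000009800000240000008800000210000000000000000000004c0b000000000000000000000000250000008c002200000084000000000000000000000001200000000000000002fbad00000000000000000000000000000081f78000000000000000000000000000002fb80000ac000000000000000000000000002000001a640000000000000000000000000bc0b40000a8000000000000000000000000001f000018016000000000000000000000000bad000000a4000000000000000000000000001e0000005d500000000000000000000002f000000aea00000000000000000000000000000069800000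044000000000000000000002e00002b0290000000000000000000000000000006405c000040000000000000000000002d00002aa400000000000000000000000000000000165400003c0000000000000000000000aeaa4000000000000000000000000000000000000001140f000000000000000a009c000000000000000000000000001d70000000000000000000000000000e00d00002800002600000000000000000000001d0000006c0000000000000000000000380000300a0000000094000000000000000000000070001b00000000000000000000000e00000000b00002f0000000000000000000000207c000000001a60000000000000000000000018000000002e00000000000000000000080078000000001901700000000000000000000014000000002d0000000000000000000007de0000000000005950000000000000000000001000000270000240000000000000007400000000000000000000140000000000000003400002809c00000008c000000000000001c00000000000000000050000000000000000d00000000900098090000000000000001d0000000000000000000000004c000000000000000c00a0000009408c000000000000001c0000000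0000000000000000048000000000000000b00900098000000088000000000000001b0000000000000000004c000000000000000c0000000080250000220000000000000006c00000000000000000000120000000000000002c000020000002b00000000000000000000069900000000000045000000000000000000000008000000002a00000000000000000000060058000000001100f0000000000000000000000400000000290000000000000000000000175400000000103c000000000000000000000000000090000000084000000000000000000000050001300000000000000000000000a0000000070230000210000000000000000000000140000004800000000000000000000002400001c000088084000000000000000000000000001348000000000000000000000000000800700000000000000081f78000000000000000000000000000000000000000614400000000000000000000002000001a64000000000000000000000000000000000614000008000000000000000000001f00001801600000000000000000000000000000018010000004000000000000000000001e0000005d5000000000000000000000000000000144000000000000000000000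0000000006980000004400000000000000000000000000060000000810000000000000000000000006405c00004000000000000000000000000000050000020000000000000000000000000000165400003c000000000000000000000000000400000100000000000000000000000000000001140f00000000000000000000000000000008100000000000000000074000000000000000000000000e00000034000c00000028000000000000000000000000301c00000000000000000000038000000d0000002c00000090000000000000000000000c00006c000000000000000000e00000000000c2c000000000020000000000000000000300000000000000000000000000000018510000000000204000000000000000000000000000000000050000000000000000d00000000000a2400000000001c000000000000000300000000000001300000000000000030000000a0000002000000070000000000000000c000000000000000048000000000000000b0000002400080000001c0000000000000003000000000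
  (Nat.mul 6 (Nat.add (Nat.mul 48 s) t))) 64

private theorem f4_tab2 : (LV.W.allLt 48 fun s => LV.W.allLt 48 fun t => decide (m2 s t ≠ -3 ∧ (m2 s t ≠ m2 t s → lF s ≠ lF t) ∧
    (m2 s t = 0 → lF s = lF t → tW s t < 48 ∧ m2 (tW s t) s = m2 (tW s t) t ∧ m2 s (tW s t) * m2 (tW s t) s = 2 ∧
      m2 t (tW s t) * m2 (tW s t) s = 2 ∧ 0 < m2 (tW s t) s))) = true := by decide +kernel

theorem f4_tab : ∀ s t : Fin chevF4.nroots, mF s t ≠ -3 ∧ (mF s t ≠ mF t s → lF s ≠ lF t) ∧ (mF s t = 0 → lF s = lF t →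
    ∃ r : Fin chevF4.nroots, mF r s = mF r t ∧ mF s r * mF r s = 2 ∧ mF t r * mF r s = 2 ∧ 0 < mF r s) := by
  simp only [mF_eq]
  intro s t
  have e : chevF4.nroots = 48 := by decide
  obtain ⟨h1, h2, h3⟩ := of_decide_eq_true (LV.W.allLt_iff.1 (LV.W.allLt_iff.1 f4_tab2 s (e ▸ s.2)) t (e ▸ t.2))
  exact ⟨h1, h2, fun a b => ⟨⟨_, (h3 a b).1.trans_eq e.symm⟩, (h3 a b).2⟩⟩

variable {p : ℕ} [Fact p.Prime] {k : Type} [Field k] [CharP k p] {Y : Type} [Group Y] {N : Type} [Fintype N]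
  [DecidableEq N] {ρ : Y →* GL N k} {F : MulAut Y} {G : Subgroup Y} [IsAlgClosed k] {D : Datum p ρ F G} {c : Lbl D} {R : RC}
  (S : Crd.Sub D c R) {t : Ty} {em : ℕ → R.I} {K : Set R.I}

theorem pow1 (H : Fit R.cs R.h R.ψ t em K 1) : Fit R.cs R.h (R.ψ ^ 1) t em K 1 := (pow_one R.ψ).symm ▸ H

theorem tw1 (H : Fit R.cs R.h R.ψ t em K 1) {a : ℕ} (ha : a < t.r) : R.τ (em a) = em (t.σ a) := pow_one R.τ ▸ fit_tw (pow1 H) ha

theorem st_compl (ht : t ∈ excL) (H : Fit R.cs R.h R.ψ t em K 1) (i : R.I) (hi : i ∉ K) : R.τ i ∉ K := fun h => by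
  obtain ⟨a, ha, e⟩ := (H.mem _).1 h
  obtain ⟨b, hb, rfl⟩ := sg_tab t ht a ha
  exact hi (R.τ.injective ((tw1 H hb).trans e) ▸ fit_mem H hb)

include S

theorem card_tyC {C : ChevalleyDatum} {n : ℕ} (h : X.TyC D C n) : Fintype.card R.I ≤ n :=
  h.elim fun e _ => S.card_le.trans_eq ((Fintype.card_congr e).trans (Fintype.card_fin n))

/-- **ambient types `E`** -/
theorem rest_e (h : Em8 D) (T : S.Tw) (hK : Un R.M K) (ht : t ∈ excL) (H : Fit R.cs R.h R.ψ t em K 1) :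
    K = Set.univ ∨ t ∈ fourL ∧ ∃ t' ∈ smL, ∃ em', Fit R.cs R.h R.ψ t' em' Kᶜ 1 := by
  refine or_iff_not_imp_left.2 fun n => ?_
  obtain ⟨a, ha⟩ := (Set.ne_univ_iff_exists_notMem K).1 n
  have k1 : (∀ i j, i ∉ K → j ∉ K → R.A i j ≠ 0) → ∃ t' ∈ smL, ∃ em', Fit R.cs R.h R.ψ t' em' Kᶜ 1 := fun e => by
    have k1 : ∀ i ∈ Kᶜ, ∀ j ∈ Kᶜ, i ≠ j → R.A i j = -1 := fun i hi j hj n => by
      have k1 := e i j hi hj
      have k2 := R.h.rel i j n
      have k3 := S.A_symm h i j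
      omega
    exact fit_small R ha (st_compl ht H) k1 fun i hi j hj n1 n2 => by_contra fun n3 =>
      S.not_three h (k1 i hi j hj n3) (k1 i hi a ha n1) (k1 j hj a ha n2)
  have k2 : ∀ i < t.r, ∀ j < t.r, ga t.AL i j = ga t.AL j i := fun i hi j hj => by
    rw [← H.car i hi j hj, ← H.car j hj i hi, S.A_symm h]
  have k3 : 6 ≤ t.r → _root_.Cfsg.Agent.MO.Crd.E6 R em → ∀ i j, i ∉ K → j ∉ K → R.A i j ≠ 0 := fun e e' i j =>
    S.clique_e6 h hK e' fun i hi => fit_mem H (hi.trans_le e)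
  have ht' := ht
  simp only [excL, List.mem_cons, List.not_mem_nil, or_false] at ht'
  rcases ht' with rfl | rfl | rfl | rfl | rfl | rfl | rfl | rfl | rfl | rfl
  iterate 3 exact absurd (k2 0 (by decide) 1 (by decide)) (by decide)
  iterate 2 exact absurd (k2 1 (by decide) 2 (by decide)) (by decide)
  · exact ⟨.head _, k1 fun i j => S.clique_tri (l := ![em 0, em 2, em 3]) h (d4_of H) hK (fit_mem H (by decide))
      (fun m => by fin_cases m <;> exact fit_mem H (by decide)) T (tw1 H (a := 0) (by decide)) (tw1 H (a := 2) (by decide))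
      (tw1 H (a := 3) (by decide)) (st_compl ht H)⟩
  · exact ⟨.tail _ (.head _), k1 (k3 le_rfl (e6_of (.inl rfl) H))⟩
  · exact ⟨.tail _ (.tail _ (.head _)), k1 (k3 le_rfl (e6_of (.inl rfl) H))⟩
  · exact ⟨.tail _ (.tail _ (.tail _ (.head _))), k1 (k3 (by decide) (e6_of (.inr (.inl rfl)) H))⟩
  · exact absurd (fit_univ ht H (S.card_le.trans h.card_le)) n

/-- two orthogonal nodes of the same length -/
theorem not_two (hp : p = 2) {i j : R.I} (h0 : R.A i j = 0 ∧ R.A j i = 0) {r : D.I → ℤ} (hr : D.Rt r) {e : ℤ}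
    (h1 : cp D r (S.β i) = e) (h2 : cp D r (S.β j) = e) (h3 : cp D (S.β i) r * e = 2) (h4 : cp D (S.β j) r * e = 2) (he : 0 < e) :
    False := by
  have n : i ≠ j := fun e => absurd (e ▸ h0.1) (by rw [R.h.diag]; decide)
  have k0 : ∀ i x, D.act (D.rf (S.β i)) x = x - ell D.cs D.h (S.rt i) x • S.β i := fun i x => D.act_rf (S.rt i) x
  have k1 : D.act (D.rf (S.β i)) (D.act (D.rf (S.β j)) r) = r - e • S.β j - e • S.β i := by
    simp only [k0, map_sub, map_zsmul, ell_apply, S.car, h0.1, h1, h2, smul_zero, sub_zero]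
  have k2 : D.act (D.rf (S.β i)) (D.act (D.rf (S.β j)) (r - e • S.β j - e • S.β i)) = r := by
    simp only [k0, map_sub, map_zsmul, ell_apply, S.car, h0.1, h0.2, h1, h2, R.h.diag, smul_eq_mul]
    module
  have k3 : cp D (r - e • S.β j - e • S.β i) r = -2 := by
    rw [cp, ← ell_apply _ _ hr]
    simp only [map_sub, map_zsmul, ell_apply, cpr_self _ _ hr, smul_eq_mul]
    linarith only [h3, h4]
  have k4 : cp D r (r - e • S.β j - e • S.β i) = -2 := by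
    rw [← k3, ← cp_act D (D.rf (S.β j)) _ hr, ← cp_act D (D.rf (S.β i)) _ (hr.act _), k1, k2]
  have k5 : r - e • S.β j - e • S.β i = -r := by_contra fun n' => by
    have k5 := DL.Base.cpr_mul_lt (k1 ▸ (hr.act _).act _) hr (fun e' => by rw [e', cp, cpr_self _ _ hr] at k3; omega) n'
    rw [show cpr _ _ _ r = -2 from k3, show cpr _ _ r _ = -2 from k4] at k5
    omega
  have k6 : chr (D.cor r) c = 1 := by
    have k6 := congrArg (fun x => chr (D.cor x) c) (k1.trans k5)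
    simp only [D.cor_act _ (hr.act _), D.cor_act _ hr, D.cor_neg hr, chr_neg] at k6
    rw [On.Ree.Zr.rel ⟨S.rt i, S.one i⟩, On.Ree.Zr.rel ⟨S.rt j, S.one j⟩, eq_inv_iff_mul_eq_one, ← sq] at k6
    obtain ⟨m, h5, h6⟩ := S.fo
    have k7 : chr (D.cor r) c ^ m = 1 := by rw [← map_pow, h6, map_one]
    rw [← pow_one (chr _ c), ← (Nat.coprime_two_left.2 (Nat.not_even_iff_odd.1 fun e => h5 (hp ▸ e.two_dvd))).gcd_eq_one]
    exact pow_gcd_eq_one.2 ⟨k6, k7⟩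
  have k7 : (2 : ℤ) • r = iota S.β (e • (sr i + sr j)) := by
    simp only [map_zsmul, map_add, iota_sr]
    linear_combination (exp := 1) k5
  obtain ⟨ξ, h5, rfl⟩ := S.cls r hr k6 _ k7
  have k8 := S.inj ((map_zsmul _ _ _).trans k7)
  have k9 := congrFun k8 i
  have k10 := congrFun k8 j
  have k11 := S.cp_io ξ (S.rt i)
  simp only [S.car, h1] at k11
  simp only [Pi.smul_apply, Pi.add_apply, sr_self, sr_ne n, sr_ne n.symm, smul_eq_mul, add_zero, zero_add, mul_one] at k9 k10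
  rcases (h5.act (R.cs.simple i)).pos_or_neg with h6 | h6
  · have k12 : (0 : ℤ) ≤ _ := h6 i
    rw [rep_simple_apply_self, pairing, Finset.sum_congr rfl fun _ _ => mul_comm _ _, ← k11] at k12
    (clear * - he k9 k12; omega)
  · have k12 : _ ≤ (0 : ℤ) := h6 j
    rw [rep_simple_apply _ _ _ _ _ n.symm] at k12
    omega

theorem f4_idx (h : X.TyC D chevF4 4) : ∃ u : (D.I → ℤ) → Fin chevF4.nroots, (∀ a b, D.Rt a → D.Rt b → mF (u a) (u b) = cp D a b) ∧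
    ∀ s : Fin chevF4.nroots, ∃ r, D.Rt r ∧ ∀ a, D.Rt a → mF s (u a) = cp D r a ∧ mF (u a) s = cp D a r := by
  obtain ⟨u, h1, h2, h3⟩ := iso_fn (On.iso_tyC (M := CoxeterMatrix.F₄)
    (by simp [Nodes.RGDChev.IsType, Nodes.RGDChev.typeList]) HZ.L.U.fb_F4 h)
  have : Nonempty (Fin chevF4.nroots) := ⟨⟨0, by decide⟩⟩
  choose! v hv using h1
  refine ⟨v, fun a b ha hb => by rw [mF, ← hv a ha, ← hv b hb, h3 a b ha hb], fun s => ?_⟩
  obtain ⟨r, hr, e⟩ := h2 _ ⟨s, rfl⟩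
  exact ⟨r, hr, fun a ha => by rw [mF, mF, ← hv a ha, ← e, h3 r a hr ha, h3 a r ha hr]; exact ⟨rfl, rfl⟩⟩

theorem f4_ne (h : X.TyC D chevF4 4) (i j : R.I) : R.A i j ≠ -3 := by
  obtain ⟨u, h1, -⟩ := f4_idx S h
  rw [← S.car, ← h1 _ _ (S.rt j) (S.rt i)]
  exact (f4_tab _ _).1

/-- **`B₂` in `F₄`, characteristic two** -/
theorem rest_f (hp : p = 2) (h : X.TyC D chevF4 4) (hK : Un R.M K) {a b : R.I} (ha : a ∈ K) (hb : b ∈ K) (n : R.A a b ≠ R.A b a) :
    K = Set.univ := Set.eq_univ_of_forall fun i => by_contra fun hi => by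
  obtain ⟨u, h1, h2⟩ := f4_idx S h
  have k0 : ∀ i j, mF (u (S.β j)) (u (S.β i)) = R.A i j := fun i j => (h1 _ _ (S.rt j) (S.rt i)).trans (S.car i j)
  have k1 : ∀ a ∈ K, lF (u (S.β a)) ≠ lF (u (S.β i)) := fun a ha e => by
    obtain ⟨s, k1, k2, k3, k4⟩ := (f4_tab _ _).2.2 ((k0 i a).trans (R.orth hK ha hi).2) e
    obtain ⟨r, hr, k5⟩ := h2 s
    rw [(k5 _ (S.rt a)).1] at k1 k2 k3 k4
    exact not_two S hp (R.orth hK ha hi) hr rfl ((k5 _ (S.rt i)).1.symm.trans k1.symm) ((k5 _ (S.rt a)).2 ▸ k2)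
      ((k5 _ (S.rt i)).2 ▸ k3) k4
  have k2 := (f4_tab (u (S.β b)) (u (S.β a))).2.1 (by rwa [k0, k0])
  have k3 := k1 a ha
  have k4 := k1 b hb
  revert k2 k3 k4
  cases lF (u (S.β a)) <;> cases lF (u (S.β b)) <;> cases lF (u (S.β i)) <;> decide

/-- **one classical component** -/
theorem rest_cl {n : ℕ} {κ : Kd} (T : S.Tw) (h : HZ.L.Iso (rts D) (std κ fun _ : Fin n => 0)) (ht : t ∈ excL)
    (H : Fit R.cs R.h R.ψ t em K 1) : K = Set.univ := by
  obtain rfl := Crd.Sub.cl_ok T h ht (pow1 H)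
  exact fit_univ ht H ((S.cl_card h).trans (Crd.Sub.cl_tri T h (pow1 H)))

theorem rest_f4 (h : X.TyC D chevF4 4) (hs : S.Tw ∨ p = 2) (hK : Un R.M K) (ht : t ∈ excL) (H : Fit R.cs R.h R.ψ t em K 1) :
    t ≠ ree2 ∧ K = Set.univ := by
  have k1 := fun e : 4 ≤ t.r => fit_univ ht H ((card_tyC S h).trans e)
  have ht' := ht
  simp only [excL, List.mem_cons, List.not_mem_nil, or_false] at ht'
  rcases ht' with rfl | rfl | rfl | rfl | rfl | rfl | rfl | rfl | rfl | rfl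
  iterate 2 exact absurd (H.car 0 (by decide) 1 (by decide)) (f4_ne S h _ _)
  · refine ⟨fun e => absurd (congrArg Ty.AL e) (by decide), hs.elim (fun T => ?_) fun hp => ?_⟩
    · exact absurd (T.fit (pow1 H) (a := 0) (b := 1) (by decide) (by decide) (by decide) (by decide)) (by decide)
    · exact rest_f S hp h hK (fit_mem H (a := 0) (by decide)) (fit_mem H (a := 1) (by decide)) (by
        rw [H.car 0 (by decide) 1 (by decide), H.car 1 (by decide) 0 (by decide)]; decide)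
  all_goals exact ⟨fun e => absurd (congrArg Ty.r e) (by decide), k1 (by decide)⟩

end Rs

open Rs in
/-- **box Rs** -/
theorem boxRs : BoxRs := by
  intro p _ k _ _ _ Y _ N _ _ ρ F G D _ H c Φ K hK t ht em f
  have S := Φ.sub
  have k0 := fit_lt ht f (s := ∅) (by simp)
  have k1 := (exc_tab t ht).1
  rcases H.kn with ⟨⟨j, B, hs⟩, ty⟩ | ⟨-, hp, h, -⟩ | h
  · have T := S.tw_of hs
    refine ⟨?_, ?_⟩
    · rintro rfl
      exact absurd (T.fit (pow1 f) (a := 0) (b := 1) (by decide) (by decide) (by decide) (by decide)) (by decide)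
    have k2 := fun h => (rest_e S (em8_of h) T hK ht f).imp_right (And.intro (⟨j, B, hs⟩ : Sq D))
    rcases ty with ((⟨n, κ, h⟩ | ⟨⟨n, κ, blk, h⟩, h'⟩) | h | h) | ⟨-, h | h | h⟩
    · exact .inl (rest_cl S T h ht f)
    · obtain rfl := Crd.Sub.cl_ok T h ht (pow1 f)
      have k3 := S.card_le
      rw [Nat.card_eq_fintype_card] at h'
      exact absurd ((Nat.le_add_right _ _).trans (k0.trans (k3.trans h'))) (by decide)
    exacts [k2 (.inl h), k2 (.inr (.inl h)), k2 (.inr (.inr h)), .inl (rest_f4 S h (.inl T) hK ht f).2,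
      .inl (fit_univ ht f ((card_tyC S h).trans k1))]
  · exact (rest_f4 S h (.inr hp) hK ht f).imp_right .inl
  · have k3 := S.card_le
    rw [Fintype.card_eq_zero (α := D.I)] at k3
    omega

end Cfsg.Agent.MO.Jl
end

-- part: MO/Tri/Der
section
/-!
# MO/Tri: the torus of the derived group, normal forms (helper92)

* `Td D` : the torus which is generated by the coroots; **`mem_Td`** : it is the intersection of `T` and the derived group;
* `nf_fix` : the normal form of a rational element; `exists_dec` : `G ^ F = G' ^ F T ^ F`;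
* **`sg_eq_one`** : a pinned automorphism which is inner-diagonal on `G' ^ F` fixes the diagram (split case).
-/

set_option autoImplicit false
set_option linter.unusedSectionVars false

namespace Cfsg.Agent.MO.Tri

open Cfsg Subgroup Cfsg.Agent.DL Cfsg.Agent.KZ.Mts Cfsg.Agent.MO.Ti Cfsg.Agent.MO.Fm Cfsg.Agent.Tits.Roots
  Cfsg.Agent.ChevalleyStructure.CoxeterGeom Cfsg.Agent.Nodes.Reps Cfsg.Agent.Nodes Cfsg.Agent.Nodes.BNOf CoxeterSystem

variable {p : ℕ} [Fact p.Prime] {k : Type} [Field k] [CharP k p] [IsAlgClosed k] {Y : Type} [Group Y] {N : Type}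
  [Fintype N] [DecidableEq N] {ρ : Y →* GL N k} {F : MulAut Y} {G : Subgroup Y} {D : Datum p ρ F G}

variable (D) in
/-- the torus of the derived group -/
noncomputable def Td : Subgroup Y := (D.τ.comp (mr (Cm D))).range

theorem hh_mem_Td (i : D.I) (a : kˣ) : hh D i a ∈ Td D := by
  classical
  refine ⟨Pi.mulSingle i a, ?_⟩
  rw [MonoidHom.comp_apply, mr_eq_prod,
    Finset.prod_eq_single i (fun j _ hj => by rw [Pi.mulSingle_eq_of_ne hj, map_one]) (by simp only [_root_.Finset.mem_univ, _root_.not_true_eq_false, _root_.Pi.mulSingle_eq_same, _root_.IsEmpty.forall_iff]), Pi.mulSingle_eq_same]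
  rfl

theorem Td_le : Td D ≤ D.T := by
  rintro _ ⟨y, rfl⟩
  exact D.τ_mem _

theorem U_le_S : D.U ≤ D.S {a | D.Rt a} := RGD.Sup_mono fun _ h => h.1

variable (P : Pin D)

theorem n_mem_S (i : D.I) : P.n i ∈ D.S {a | D.Rt a} := by
  have h1 : ∀ u, D.x (sr i) u ∈ D.S {a | D.Rt a} := fun u => U_le_S (xU D i u)
  have h2 := RGD.le_Sup (X := D.X) (S := {a | D.Rt a}) ((rt D i).act _)
    (D.conj_mem (P.rp i) (rt D i) (D.x_mem (rt D i) (P.u i * (1 : kˣ))))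
  rwa [(P.pn i).rel, mul_mem_cancel_right (h1 _), mul_mem_cancel_left (h1 _), mul_mem_cancel_left (hh_mem_S D _ _)] at h2

theorem nw_mem {H : Subgroup Y} (h : ∀ i, P.n i ∈ H) (w : D.W) : P.nw w ∈ H := by
  induction w using ind_up D.cs with
  | h1 => rw [P.nw_one]; exact one_mem _
  | h w i h1 ih => rw [P.nw_up h1]; exact mul_mem ih (h i)

theorem n_mul_nw (i : D.I) {t : Y} (ht : t ∈ Td D) (w : D.W) : ∃ w', ∃ t' ∈ Td D, P.n i * (t * P.nw w) = t' * P.nw w' := by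
  obtain ⟨c, rfl⟩ := (D.mem_T _).1 (Td_le ht)
  have h1 : P.n i * D.τ c = D.τ c * hh D i (chr (D.wt (sr i)) c⁻¹) * P.n i := by
    rw [mul_assoc, ← τ_n (P.rp i), map_inv]; group
  have h2 := mul_mem ht (hh_mem_Td i (chr (D.wt (sr i)) c⁻¹))
  rw [← mul_assoc, h1, mul_assoc]
  rcases (D.cs.length_simple_mul_ne w i).lt_or_gt with h | h
  · have h3 := P.nw_up' (w := D.cs.simple i * w) (i := i) (by rwa [simple_mul_simple_cancel_left])
    rw [simple_mul_simple_cancel_left] at h3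
    exact ⟨D.cs.simple i * w, _, mul_mem h2 (hh_mem_Td i (-1)), by rw [h3, ← mul_assoc (P.n i), (P.pn i).sq, ← mul_assoc]⟩
  · exact ⟨_, _, h2, by rw [P.nw_up' h]⟩

/-- the cells of the derived group -/
def Kd : Set Y := {g | ∃ u ∈ D.U, ∃ w, ∃ t ∈ Td D, ∃ v ∈ D.U, g = u * (t * P.nw w) * v}

theorem n_mul_Kd (i : D.I) {g : Y} (h : g ∈ Kd P) : P.n i * g ∈ Kd P := by
  obtain ⟨u, hu, w, t, ht, v, hv, rfl⟩ := h
  obtain ⟨b, hb, a, rfl⟩ := P.dec i hu
  have hm := rp_T (Td_le ht) (P.rp_nw w)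
  by_cases h : a = 0 ∨ 0 ≤ D.act w⁻¹ (sr i)
  · obtain ⟨u₁, h1, u₂, h2, e⟩ := Cv.spec_pos P hb hm hv h
    obtain ⟨w', t', h3, e'⟩ := n_mul_nw P i ht w
    exact ⟨u₁, h1, w', t', h3, u₂, h2, e' ▸ e⟩
  · rw [not_or] at h
    lift a to kˣ using Ne.isUnit h.1
    obtain ⟨u₁, h1, u₂, h2, e⟩ := Cv.spec_neg P hb hm hv (((rt D i).act _).not_nonneg_iff.1 h.2) a
    exact ⟨u₁, h1, w, _, mul_mem (hh_mem_Td i _) ht, u₂, h2, e.trans (by rw [mul_assoc _ t])⟩

theorem Td_mul_Kd {s g : Y} (hs : s ∈ Td D) (h : g ∈ Kd P) : s * g ∈ Kd P := by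
  obtain ⟨u, hu, w, t, ht, v, hv, rfl⟩ := h
  exact ⟨_, D.conj_mem_U_of_T (Td_le hs) hu, w, _, mul_mem hs ht, v, hv, by group⟩

/-- the stabiliser -/
def Hd : Subgroup Y where
  carrier := {h | ∀ g, h * g ∈ Kd P ↔ g ∈ Kd P}
  one_mem' g := by rw [one_mul]
  mul_mem' ha hb g := by rw [mul_assoc, ha, hb]
  inv_mem' {a} ha g := by rw [← ha, mul_inv_cancel_left]

theorem S_le_Hd : D.S {a | D.Rt a} ≤ Hd P := by
  have h0 : ∀ u ∈ D.U, ∀ g ∈ Kd P, u * g ∈ Kd P := by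
    rintro u hu _ ⟨u', h1, w, t, ht, v, hv, rfl⟩
    exact ⟨_, mul_mem hu h1, w, t, ht, v, hv, by group⟩
  have h1 : D.U ≤ Hd P := fun u hu g => ⟨fun h => inv_mul_cancel_left u g ▸ h0 _ (inv_mem hu) _ h, h0 u hu g⟩
  have h2 : ∀ i, P.n i ∈ Hd P := fun i g => ⟨fun h => by
    rw [← inv_mul_cancel_left (P.n i) g, (P.pn i).inv, mul_assoc]
    exact Td_mul_Kd P (hh_mem_Td i _) (n_mul_Kd P i h), n_mul_Kd P i⟩
  refine RGD.Sup_le ?_
  rintro _ ⟨w, i, rfl⟩ y hy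
  rw [← Datum.act, ← D.conj_rp (P.rp_nw w) (rt D i), mem_cj] at hy
  have h3 := nw_mem P h2 w
  exact (mul_mem_cancel_left (inv_mem h3)).1 ((mul_mem_cancel_right h3).1 (h1 (D.sbn.X_le i hy)))

include P in
/-- **the torus of the derived group** -/
theorem mem_Td {t : Y} (h : t ∈ D.S {a | D.Rt a}) (ht : t ∈ D.T) : t ∈ Td D := by
  obtain ⟨u, hu, w, s, hs, v, hv, e⟩ := (S_le_Hd P h 1).2
    ⟨1, one_mem _, 1, 1, one_mem _, 1, one_mem _, by rw [P.nw_one]; group⟩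
  obtain ⟨rfl, h1⟩ := D.eq_of_mem_UNU (one_mem _) hu (rp_of_mem ht) (rp_T (Td_le hs) (P.rp_nw w)) (one_mem _) hv
    (by rwa [one_mul])
  rwa [h1, P.nw_one, mul_one]

/-! ### rational normal forms -/

theorem nf_fix (hq : D.QS) (t : ↥(GF F G)) : ∃ w, ∃ u ∈ D.U, ∃ m, D.Rp w m ∧ ∃ v ∈ D.U, (t : Y) = u * m * v ∧
    D.Fw w = w ∧ F m = m ∧ F v = v := by
  obtain ⟨w, u, hu, m, hm, v, hv, e⟩ := D.exists_normal_form t.2.1
  obtain ⟨h1, -, h2, h3⟩ := D.normal_form_unique ((hq.F_mem_U u).2 hu) hu hm.mapF hm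
    (D.F_mem_S (fun _ h => h.1) (fun a ha => by
      have h2 : D.Rt (D.act w a) := ha.1.act w
      refine ⟨D.g_root a ha.1, hq a ha.1 ha.2.1, show D.act (D.Fw w) (D.g a) ≤ 0 from ?_⟩
      rw [← D.g_act w ha.1, ← (D.g_root _ h2).not_nonneg_iff, hq.nonneg_iff h2]
      exact fun h3 => h2.not_pos_neg h3 ha.2.2) hv) hv (by rw [← map_mul, ← map_mul, ← e]; exact t.2.2)
  exact ⟨w, u, hu, m, hm, v, D.NW_le_U w hv, e, h1, h2, h3⟩

variable {P}

theorem exists_dec (hq : D.QS) (hP : P.St) (t : ↥(GF F G)) :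
    ∃ h : ↥(GF F G), (h : Y) ∈ D.T ∧ (t * h⁻¹ : Y) ∈ D.S {a | D.Rt a} := by
  obtain ⟨w, u, hu, m, hm, v, hv, e, h1, h2, -⟩ := nf_fix hq t
  obtain ⟨c, rfl⟩ := exists_nw P hm
  rw [map_mul, P.F_nw hq hP, h1, mul_left_inj] at h2
  refine ⟨⟨_, D.T_le_G (D.τ_mem c), h2⟩, D.τ_mem c, ?_⟩
  rw [e, mul_assoc u, mul_assoc u, mul_assoc (D.τ c)]
  exact mul_mem (U_le_S hu) (D.conj_mem_S_of_T (fun _ h => h) (D.τ_mem c)
    (mul_mem (nw_mem P (n_mem_S P) w) (U_le_S hv)))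

/-- **graph automorphisms are not inner-diagonal** -/
theorem sg_eq_one (hq : D.QS) (hP : P.St) (hσ : D.σ = 1) {α : MulAut Y} {σ : Equiv.Perm D.I} {e : D.I → ℤ}
    (h : IsPd P α σ e) (s : ↥(GF F G)) (hs : ∀ g ∈ D.S {a | D.Rt a}, F g = g → α g = s * g * (s : Y)⁻¹) : σ = 1 := by
  obtain ⟨w, u, hu, m, hm, v, hv, e, -, -, h1⟩ := nf_fix hq s
  obtain rfl : w = 1 := eq_one_of_sr fun i => by_contra fun h2 => by
    have h3 := mul_mem (mul_mem (inv_mem hv) (P.xU i 1)) hv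
    have h4 := (Pd.memU h.mem _).2 h3
    rw [hs _ (U_le_S h3) (by rw [map_mul, map_mul, map_inv, h1, hP, hσ, one_pow]; rfl), e,
      show u * m * v * (v⁻¹ * P.x i 1 * v) * (u * m * v)⁻¹ = u * (m * P.x i 1 * m⁻¹) * u⁻¹ by group,
      mul_mem_cancel_right (inv_mem hu), mul_mem_cancel_left hu] at h4
    have h5 := D.eq_one_of_mem_U_of_mem_UN h4 (RGD.le_Sup (S := OppDec.Neg D.cs D.h)
      ⟨(rt D i).act w, ((rt D i).act w).not_nonneg_iff.1 h2⟩ (D.conj_mem hm (rt D i) (P.x_mem i 1)))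
    rw [mul_inv_eq_one, mul_eq_left, Pin.x, D.x_eq_one_iff (rt D i), mul_one] at h5
    exact (P.u i).ne_zero h5
  have ht : m ∈ D.T := hm.mem_of_one
  refine Equiv.ext fun i => by_contra fun h2 => ?_
  have h3 := (D.eq_of_mem_UNU (one_mem _) (mul_mem hu (D.conj_mem_U_of_T ht hv)) (P.rp (σ i))
    ((rp_T ht (P.rp i)).mul_mem_right (inv_mem ht)) (one_mem _)
    (mul_mem (D.conj_mem_U_of_T ht (inv_mem hv)) (inv_mem hu)) (by
      rw [← h.n, hs _ (n_mem_S P i) (by rw [P.F_n hq hP, hσ]; rfl), e]; group)).1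
  have h4 := (rt D i).simple_nonneg (sr_nonneg i) (σ i) fun e => h2 (sr_inj e).symm
  rw [h3, rep_simple_sr] at h4
  exact (rt D i).not_pos_neg (sr_nonneg i) (neg_nonneg.1 h4)

end Cfsg.Agent.MO.Tri
end

-- part: MO/Tri/Dia
section
/-!
# MO/Tri: the diagonal automorphisms in the type `D₄` (helper92)

* `mm D` : the values of the simple roots on the coroots; `ker_sq`, `ker_tri`, `card_ker` : its kernel in the type `D₄`;
* `Lc` : the graph of the Lang map on `G ^ F`;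
* `sq_mem`, `fpf`, `index_le`, `cen_tri` : a triality acts without fixed points on the diagonal automorphisms and on the centre.
-/

set_option autoImplicit false
set_option linter.unusedSectionVars false

namespace Cfsg.Agent.MO.Tri

open Cfsg Subgroup Cfsg.Agent.DL Cfsg.Agent.DL.PP Cfsg.Agent.KZ.Mts Cfsg.Agent.MO.Ti Cfsg.Agent.MO.Fm
  Cfsg.Agent.HZ.L.Reg Cfsg.Agent.OM.Gl

theorem d4_ker {K : Type} [CommGroup K] {c : Fin 4 → K} (h : ∀ j, ∏ i, c i ^ CartanMatrix.D 4 i j = 1) :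
    c 1 = 1 ∧ (∀ i, c i ^ 2 = 1) ∧ c 0 * (c 2 * c 3) = 1 := by
  have h0 := h 0
  have h1 := h 1
  have h2 := h 2
  have h3 := h 3
  simp only [CartanMatrix.D_four, Fin.prod_univ_four, Matrix.of_apply, Matrix.cons_val, pow_zero, mul_one, one_mul,
    _root_.zpow_neg, pow_one, zpow_ofNat, mul_inv_eq_one, inv_mul_eq_one] at h0 h1 h2 h3
  have h4 : c 1 ^ 2 = c 0 * (c 2 * c 3) := by
    rw [← h1, mul_comm (c 2), inv_mul_cancel_right, mul_inv_cancel_left]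
  have h5 : c 1 = 1 := by
    have h5 := congrArg (· ^ 2) h4
    simp only [mul_pow, h0, ← h2, ← h3] at h5
    rwa [pow_two, pow_two, mul_assoc, mul_right_inj, mul_right_inj, mul_eq_left] at h5
  rw [h5] at h0 h2 h3 h4
  refine ⟨h5, fun i => ?_, h4.symm.trans (one_pow 2)⟩
  fin_cases i
  exacts [h0, (congrArg (· ^ 2) h5).trans (one_pow 2), h2.symm, h3.symm]

section perm

set_option backward.isDefEq.respectTransparency false

theorem d4_orb : ∀ σ : Equiv.Perm (Fin 4), σ 1 = 1 → σ ≠ 1 → σ ^ 3 = 1 → ∀ i, i = 1 ∨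
    ({i, σ i, σ (σ i)} : Multiset (Fin 4)) = {0, 2, 3} := by decide +kernel

end perm

variable {p : ℕ} [Fact p.Prime] {k : Type} [Field k] [CharP k p] [IsAlgClosed k] {Y : Type} [Group Y] {N : Type}
  [Fintype N] [DecidableEq N] {ρ : Y →* GL N k} {F : MulAut Y} {G : Subgroup Y} {D : Datum p ρ F G}

theorem fu_of_sq {c : kˣ} (h : c ^ 2 = 1) (e : ℤ) : fu p k e c = c := by
  rcases sq_eq_one_iff.1 (show (c : k) ^ 2 = 1 from congrArg Units.val h) with h1 | h1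
  · rw [show c = 1 from Units.ext h1, map_one]
  · rw [show c = -1 from Units.ext h1, fu_neg_one]

variable (D) in
/-- the values of the simple roots -/
noncomputable def mm : (D.I → kˣ) →* (D.I → kˣ) := (al D).comp (mr (Cm D))

theorem mm_surj (s : D.I → kˣ) : ∃ y, mm D y = s := by
  have h1 : (Matrix.of fun i j => D.A j i).det ≠ 0 := fun h0 => by
    obtain ⟨v, hv, h⟩ := Matrix.exists_vecMul_eq_zero_iff.2 h0
    exact hv (eq_zero_of_pairing fun j => (Finset.sum_congr rfl fun i _ => mul_comm _ _).trans (congrFun h j))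
  exact (mon_surj h1 s).imp fun y hy => (funext fun j => al_Cm y j).trans hy

section d4

variable {a : D.I ≃ Fin 4} (ha : ∀ i j, D.A i j = CartanMatrix.D 4 (a i) (a j)) {c : D.I → kˣ} (h : mm D c = 1)
include ha h

theorem ker_eq : ∀ j, ∏ i, (c ∘ a.symm) i ^ CartanMatrix.D 4 i j = 1 := a.surjective.forall.2 fun j => by
  rw [← a.prod_comp]
  simp only [Function.comp_apply, a.symm_apply_apply, ← ha, ← al_Cm]
  exact congrFun h j

theorem ker_sq (i : D.I) : c i ^ 2 = 1 := by simpa only [_root_.Function.comp_apply, _root_.Equiv.symm_apply_apply] using (d4_ker (ker_eq ha h)).2.1 (a i)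

theorem ker_tri {σ : Equiv.Perm D.I} (h1 : ∀ i j, D.M (σ i) (σ j) = D.M i j) (h2 : σ ≠ 1) (h3 : σ ^ 3 = 1) (i : D.I) :
    c i * (c (σ i) * c (σ (σ i))) = 1 := by
  obtain ⟨h4, -, h5⟩ := d4_ker (ker_eq ha h)
  have h6 := d4_fix _ ((sy_iff (t := .D 4) ha _).2 h1)
  rcases d4_orb _ h6 (mt (map_eq_one_iff _ a.permCongrHom.injective).1 h2) (by rw [← map_pow, h3, map_one]) (a i)
    with h7 | h7
  · obtain rfl := a.eq_symm_apply.2 h7
    rw [show σ (a.symm 1) = a.symm 1 from a.eq_symm_apply.2 h6, show σ (a.symm 1) = a.symm 1 from a.eq_symm_apply.2 h6,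
      show c (a.symm 1) = 1 from h4, one_mul, one_mul]
  · simpa only [← h5, _root_.Fin.isValue, _root_.Function.comp_apply, _root_.Equiv.permCongrHom_coe, _root_.Equiv.permCongr_apply, _root_.Equiv.symm_apply_apply, _root_.Multiset.insert_eq_cons, _root_.Multiset.map_cons, _root_.Multiset.map_singleton, _root_.Multiset.prod_cons, _root_.Multiset.prod_singleton] using congrArg (fun s => (s.map (c ∘ a.symm)).prod) h7

omit h in
theorem card_ker : Finite (mm D).ker ∧ Nat.card (mm D).ker ≤ 4 := by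
  have key : ∀ {x y : kˣ}, x ^ 2 = 1 → y ^ 2 = 1 → (x = 1 ↔ y = 1) → x = y := fun {x y} hx hy e => by
    by_cases h : x = 1
    · rw [h, e.1 h]
    · exact Units.ext (((sq_eq_one_iff.1 (show (x : k) ^ 2 = 1 from congrArg Units.val hx)).resolve_left
        fun e' => h (Units.ext e')).trans ((sq_eq_one_iff.1 (show (y : k) ^ 2 = 1 from congrArg Units.val hy)).resolve_left
          fun e' => h (e.2 (Units.ext e'))).symm)
  have h1 : Function.Injective fun c : (mm D).ker => (c.1 (a.symm 2) = 1, c.1 (a.symm 3) = 1) := fun c c' e => by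
    obtain ⟨h1, h2, h3⟩ := d4_ker (ker_eq ha c.2)
    obtain ⟨h4, h5, h6⟩ := d4_ker (ker_eq ha c'.2)
    have h7 := key (h2 2) (h5 2) (congrArg Prod.fst e).to_iff
    have h8 := key (h2 3) (h5 3) (congrArg Prod.snd e).to_iff
    refine Subtype.ext (funext (a.symm.surjective.forall.2 fun i => ?_))
    fin_cases i
    exacts [mul_right_cancel (h3.trans (h6.symm.trans (by rw [h7, h8]; rfl))), h1.trans h4.symm, h7, h8]
  exact ⟨Finite.of_injective _ h1, (Nat.card_le_card_of_injective _ h1).trans (by simp)⟩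

end d4

variable (Φ : Fm.Fm D)

/-- the action on the coordinates of the torus of the derived group -/
noncomputable def pe (e : Φ.E) : MulAut (D.I → kˣ) := pf k p (Φ.sg e) (Φ.ex e)

theorem pe_mul (e e' : Φ.E) (c : D.I → kˣ) : pe Φ (e * e') c = pe Φ e (pe Φ e' c) :=
  funext ((Φ.sg (e * e')).surjective.forall.2 fun i => by
    rw [pe, pf_apply, map_mul, Equiv.Perm.mul_apply, pe, pf_apply, pe, pf_apply, Φ.ex_mul, fu_add])

theorem pe_f (e : Φ.E) (c : D.I → kˣ) : pe Φ Φ.f (pe Φ e c) = pe Φ e (pe Φ Φ.f c) := by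
  rw [← pe_mul, ← pe_mul, (Φ.comm_f e).eq]

theorem mm_pe (e : Φ.E) (y : D.I → kˣ) : mm D (pe Φ e y) = pe Φ e (mm D y) := al_pd (Φ.pd e) (pd_τ (Φ.pd e) y)

theorem pe_tri (hc : Car D (.D 4)) {e : Φ.E} (h2 : Φ.sg e ≠ 1) (h3 : Φ.sg e ^ 3 = 1) {c : D.I → kˣ} (h : mm D c = 1) :
    c * pe Φ e c * pe Φ e (pe Φ e c) = 1 := by
  obtain ⟨a, ha⟩ := hc
  refine funext (((Φ.sg e).surjective.comp (Φ.sg e).surjective).forall.2 fun i => ?_)
  rw [Pi.mul_apply, Pi.mul_apply, Function.comp_apply, pe, pf_apply, pf_apply, pf_apply, fu_of_sq (ker_sq ha h _),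
    fu_of_sq (ker_sq ha h _), fu_of_sq (ker_sq ha h _), mul_comm, mul_comm (c _) (c (Φ.sg e i))]
  exact ker_tri ha h (Φ.sg_M e) h2 h3 i

/-- the derived group of the finite group -/
structure Dr (H : Subgroup ↥(GF F G)) : Prop where
  der : ∀ g : ↥(GF F G), g ∈ H ↔ (g : Y) ∈ D.S {a | D.Rt a}
  comm : ∀ a b, a * b * a⁻¹ * b⁻¹ ∈ H
  sG : ∀ e, ∀ g ∈ H, Φ.rs e g ∈ H

variable {Φ} {H : Subgroup ↥(GF F G)} (d : Dr Φ H)

namespace Dr

include d in
theorem conj_mem (t : ↥(GF F G)) {g : ↥(GF F G)} (hg : g ∈ H) : t * g * t⁻¹ ∈ H :=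
  (mul_mem_cancel_right (inv_mem hg)).1 (d.comm t g)

/-- the graph of the Lang map -/
def Lc : Subgroup (↥(GF F G) × (D.I → kˣ)) where
  carrier := {x | ∃ (h : ↥(GF F G)) (s : D.R → kˣ) (y : D.I → kˣ), (h : Y) = D.τ s ∧ al D s = mm D y ∧ x.1 * h⁻¹ ∈ H ∧
    x.2 = pe Φ Φ.f y * y⁻¹}
  one_mem' := ⟨1, 1, 1, (map_one _).symm, by rw [map_one, map_one], by simp, by simp only [_root_.Prod.snd_one, _root_.map_one, _root_.inv_one, _root_.mul_one]⟩
  mul_mem' := fun {x x'} ⟨h, s, y, h1, h2, h3, h4⟩ ⟨h', s', y', h5, h6, h7, h8⟩ => ⟨h * h', s * s', y * y',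
    by rw [map_mul, ← h1, ← h5]; rfl, by rw [map_mul, map_mul, h2, h6], by
      convert mul_mem (d.conj_mem x.1 h7) h3 using 1
      rw [Prod.fst_mul]; group, by rw [Prod.snd_mul, h4, h8, map_mul, mul_inv, mul_mul_mul_comm]⟩
  inv_mem' := fun {x} ⟨h, s, y, h1, h2, h3, h4⟩ => ⟨h⁻¹, s⁻¹, y⁻¹, by rw [map_inv, ← h1]; rfl,
    by rw [map_inv, map_inv, h2], by
      convert d.conj_mem x.1⁻¹ (inv_mem h3) using 1
      rw [Prod.fst_inv]; group, by rw [Prod.snd_inv, h4, map_inv, mul_inv]⟩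

theorem Lc_ex (t : ↥(GF F G)) : ∃ c, (t, c) ∈ d.Lc := by
  obtain ⟨h, h1, h2⟩ := exists_dec Φ.qs Φ.st t
  obtain ⟨s, hs⟩ := (D.mem_T _).1 h1
  obtain ⟨y, hy⟩ := mm_surj (al D s)
  exact ⟨_, h, s, y, hs.symm, hy.symm, (d.der _).2 h2, rfl⟩

variable {d} {t : ↥(GF F G)} {c : D.I → kˣ}

theorem Lc_ker (h : (t, c) ∈ d.Lc) : mm D c = 1 := by
  obtain ⟨h, s, y, h1, h2, -, rfl⟩ := h
  rw [map_mul, map_inv, mm_pe, ← h2, mul_inv_eq_one]
  exact (al_pd (Φ.pd Φ.f) (h1 ▸ h.2.2)).symm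

theorem Lc_one (h : (t, 1) ∈ d.Lc) : t ∈ H ⊔ center _ := by
  obtain ⟨h, s, y, h1, h2, h3, h4⟩ := h
  let g : ↥(GF F G) := ⟨D.τ (mr (Cm D) y), D.T_le_G (D.τ_mem _),
    (pd_τ (Φ.pd Φ.f) y).trans (congrArg (fun c => D.τ (mr (Cm D) c)) (mul_inv_eq_one.1 h4.symm))⟩
  rw [show t = t * h⁻¹ * g * (g⁻¹ * h) by group]
  refine mul_mem (mem_sup_left (mul_mem h3 ((d.der g).2 (τ_Cm_mem (hh_mem_S D) y))))
    (mem_sup_right (mem_center_iff.2 fun x => Subtype.ext ?_))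
  have h5 : ((g⁻¹ * h : ↥(GF F G)) : Y) = D.τ ((mr (Cm D) y)⁻¹ * s) := by rw [map_mul, map_inv, ← h1]; rfl
  rw [coe_mul, coe_mul _ (g⁻¹ * h), h5]
  exact central_of_al D (by rw [map_mul, map_inv, h2]; exact inv_mul_cancel _) x x.2.1

theorem Lc_au (h : (t, c) ∈ d.Lc) (u : ↥(GF F G)) (e : Φ.E) : ((MulAut.conj u * Φ.rs e) t, pe Φ e c) ∈ d.Lc := by
  obtain ⟨h, s, y, h1, h2, h3, rfl⟩ := h
  obtain ⟨s', hs⟩ := (D.mem_T _).1 (((Φ.pd e).memT _).2 (D.τ_mem s))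
  refine ⟨Φ.rs e h, s', pe Φ e y, (congrArg e.1 h1).trans hs.symm, (al_pd (Φ.pd e) hs.symm).trans ?_, ?_, ?_⟩
  · rw [mm_pe, h2]; rfl
  · convert mul_mem (d.comm u (Φ.rs e t)) (d.sG e _ h3) using 1
    rw [MulAut.mul_apply, MulAut.conj_apply, map_mul (Φ.rs e), map_inv (Φ.rs e)]; group
  · rw [map_mul, map_inv, pe_f]

variable (d) (hc : Car D (.D 4))
include d hc

theorem sq_mem (t : ↥(GF F G)) : t ^ 2 ∈ H ⊔ center _ := by
  obtain ⟨c, h⟩ := d.Lc_ex t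
  obtain ⟨a, ha⟩ := hc
  have h1 := pow_mem h 2
  rw [Prod.pow_mk, show c ^ 2 = 1 from funext (ker_sq ha (Lc_ker h))] at h1
  exact Lc_one h1

theorem index_le : (H ⊔ center _).index ≤ 4 := by
  obtain ⟨a, ha⟩ := hc
  obtain ⟨h1, h2⟩ := card_ker ha
  choose c h using d.Lc_ex
  refine (Nat.card_le_card_of_injective (fun q : _ ⧸ H ⊔ center _ => (⟨c q.out, Lc_ker (h _)⟩ : (mm D).ker))
    fun q q' e => ?_).trans h2
  have h3 := mul_mem (inv_mem (h q.out)) (h q'.out)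
  rw [Prod.inv_mk, Prod.mk_mul_mk, show c q.out = c q'.out from congrArg Subtype.val e, inv_mul_cancel] at h3
  rw [← q.out_eq', ← q'.out_eq']
  exact QuotientGroup.eq.2 (Lc_one h3)

variable {e : Φ.E} (h2 : Φ.sg e ≠ 1) (h3 : Φ.sg e ^ 3 = 1) (u : ↥(GF F G))
include h2 h3

/-- **no fixed points on the diagonal automorphisms** -/
theorem fpf (t : ↥(GF F G)) (h : t * ((MulAut.conj u * Φ.rs e) t)⁻¹ ∈ H ⊔ center _) : t ∈ H ⊔ center _ := by
  obtain ⟨c, h1⟩ := d.Lc_ex t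
  have h4 := mul_mem (mul_mem h1 (Lc_au h1 u e)) (Lc_au (Lc_au h1 u e) u e)
  rw [Prod.mk_mul_mk, Prod.mk_mul_mk, pe_tri Φ hc h2 h3 (Lc_ker h1)] at h4
  have h5 : H ⊔ center _ ≤ (H ⊔ center _).comap (MulAut.conj u * Φ.rs e).toMonoidHom :=
    sup_le (fun g hg => mem_sup_left (d.conj_mem u (d.sG e g hg)))
      fun z hz => mem_sup_right (characteristic_iff_le_comap.1 centerCharacteristic _ hz)
  have h6 := h5 h
  have h7 := Lc_one h4
  have h8 := d.sq_mem hc t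
  rw [mem_comap, map_mul, map_inv, MulEquiv.coe_toMonoidHom] at h6
  generalize MulAut.conj u * Φ.rs e = σ at h h6 h7
  have : (H ⊔ center _).Normal :=
    ⟨fun g hg x => (mul_mem_cancel_right (inv_mem hg)).1 (mem_sup_left (d.comm x g))⟩
  rw [← QuotientGroup.eq_one_iff] at h h6 h7 h8 ⊢
  simp only [QuotientGroup.mk_mul, QuotientGroup.mk_inv, QuotientGroup.mk_pow, mul_inv_eq_one] at h h6 h7 h8
  rwa [← h6, ← h, ← pow_two, h8, one_mul] at h7

/-- **no fixed points on the centre** -/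
theorem cen_tri {g : ↥(GF F G)} (hg : g ∈ H) (hz : g ∈ center _) :
    g * (MulAut.conj u * Φ.rs e) g * (MulAut.conj u * Φ.rs e) ((MulAut.conj u * Φ.rs e) g) = 1 := by
  have h1 : ∀ {g : ↥(GF F G)}, g ∈ center _ → Φ.rs e g ∈ center _ :=
    fun h => characteristic_iff_le_comap.1 centerCharacteristic _ h
  have h4 : ∀ {g : ↥(GF F G)}, g ∈ center _ → (MulAut.conj u * Φ.rs e) g = Φ.rs e g :=
    fun h => mul_inv_eq_iff_eq_mul.2 (mem_center_iff.1 (h1 h) u)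
  obtain ⟨s, h5, h6⟩ := exists_al Φ.qs g.2.1 fun y hy => congrArg Subtype.val (mem_center_iff.1 hz ⟨y, hy⟩)
  obtain ⟨c, h7⟩ := mem_Td Φ.P ((d.der g).1 hg) (h6 ▸ D.τ_mem s)
  replace h7 : D.τ (mr (Cm D) c) = g := h7
  rw [h4 hz, h4 (h1 hz)]
  refine Subtype.ext ?_
  change (g : Y) * e.1 g * e.1 (e.1 g) = 1
  rw [← h7, pd_τ (Φ.pd e), pd_τ (Φ.pd e), ← map_mul, ← map_mul, ← map_mul, ← map_mul]
  refine (congrArg (fun c => D.τ (mr (Cm D) c)) (pe_tri Φ hc h2 h3 ?_)).trans (by rw [map_one, map_one])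
  exact (congrArg (al D) (D.τ_inj (h7.trans h6))).trans h5

end Dr

end Cfsg.Agent.MO.Tri
end

-- part: MO/Tri/Row
section
/-!
# MO/Tri: the row of triality (helper92)

* `toFm`, `rr`, `sg` : a frame of `MO/X/Core` as a frame of `MO/Fm`; `Lf` : the pairs `(e, α)` such that `e` induces `α`;
* `sg_of_ind`, `comm_of_ind` : graph automorphisms are not inner-diagonal;
* `frT` : the frame with a triality; `cn_of`, `btG`, `btL` : the input of `boxTri`; `rowP_of` : the case without triality;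
* **`rowTri_of`** : `BoxOm 3 → RowTri`.
-/

set_option autoImplicit false
set_option linter.unusedSectionVars false

namespace Cfsg.Agent.MO.Tri

open Cfsg Subgroup Cfsg.Agent.DL Cfsg.Agent.MO.Ti Cfsg.Agent.MO.Om Cfsg.Agent.MO.X
open Cfsg.Agent.MO.Fm (ind_mul ind_inv ind_conj d4_fix d4_comm sy_iff)

section perm

set_option backward.isDefEq.respectTransparency false

theorem d4_two : ∀ γ : Equiv.Perm (Fin 4), γ 1 = 1 → γ ≠ 1 → γ ^ 3 ≠ 1 → γ ^ 2 = 1 ∧ ∀ σ : Equiv.Perm (Fin 4), σ 1 = 1 →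
    σ = 1 ∨ σ = γ ∨ σ ≠ 1 ∧ σ ^ 3 = 1 ∨ σ * γ ≠ 1 ∧ (σ * γ) ^ 3 = 1 := by decide +kernel

theorem d4_idx : ∀ γ : Equiv.Perm (Fin 4), γ 1 = 1 → γ ≠ 1 → γ ^ 3 = 1 → ∀ σ : Equiv.Perm (Fin 4), σ 1 = 1 →
    ∀ σ' : Equiv.Perm (Fin 4), σ' 1 = 1 → ∃ i : Fin 3, γ ^ (i : ℕ) = σ ∨ γ ^ (i : ℕ) = σ' ∨ γ ^ (i : ℕ) = σ * σ' := by
  decide +kernel

end perm

theorem pow_conj {X : Type} [Group X] (x : X) (σ : MulAut X) (n : ℕ) :
    ∃ y, (MulAut.conj x * σ) ^ n = MulAut.conj y * σ ^ n := by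
  induction n with
  | zero => exact ⟨1, by rw [pow_zero, pow_zero, map_one, one_mul]⟩
  | succ n ih => exact ih.elim fun y hy => ⟨_, by rw [pow_succ, hy, conj_mul_conj, pow_succ]⟩

theorem cn_of {Gt : Type} [Group Gt] {l : ℕ} {G M : Subgroup Gt} {E : Set (MulAut Gt)} (h1 : 1 ∈ E) (h : CntEq l G M E) :
    Cn l M E := fun S hS => by
  refine Eq.trans (Nat.card_congr (Equiv.subtypeEquivRight fun χ => ?_)) ((h 1 (aut '' insert 1 S) 0 ?_
    ⟨1, ⟨1, .inl rfl, rfl⟩, orderOf_one⟩).trans (Nat.card_congr (Equiv.subtypeEquivRight fun ψ => ?_)))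
  · refine ⟨fun ⟨⟨⟨a, b⟩, c⟩, d⟩ => ⟨a, c, by rwa [zero_add, pow_one], ?_⟩, fun ⟨a, c, b, d⟩ =>
      ⟨⟨⟨a, by rwa [zero_add, pow_one] at b⟩, c⟩, fun σ hσ t => (one_mul _).symm.trans (d _ ⟨σ, .inr hσ, rfl⟩ t _ rfl)⟩⟩
    rintro _ ⟨σ, rfl | hσ, rfl⟩ x _ rfl
    exacts [one_mul _, (one_mul _).trans (d σ hσ x)]
  · rintro _ ⟨σ, hσ, rfl⟩
    exact ⟨fun _ _ => rfl, Set.insert_subset h1 hS hσ⟩
  · refine ⟨fun ⟨a, c, b, d⟩ => ⟨⟨⟨a, by rwa [zero_add, pow_one] at b⟩, c⟩, fun σ hσ y y' e =>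
      (one_mul _).symm.trans (d _ ⟨σ, .inr hσ, rfl⟩ y y' e)⟩, fun ⟨⟨⟨a, b⟩, c⟩, d⟩ => ⟨a, c, by rwa [zero_add, pow_one], ?_⟩⟩
    rintro _ ⟨σ, rfl | hσ, rfl⟩ x x' e
    exacts [(one_mul _).trans (congrArg ψ (Subtype.ext e)), (one_mul _).trans (d σ hσ x x' e)]

variable {p : ℕ} [Fact p.Prime] {k : Type} [Field k] [CharP k p] [IsAlgClosed k] {Y : Type} [Group Y] {N : Type}
  [Fintype N] [DecidableEq N] {ρ : Y →* GL N k} {F : MulAut Y} {G : Subgroup Y} {D : Datum p ρ F G} {E : Type} [Group E]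
  (hD : Hy D) (Φ : MO.X.Fm D E)

theorem nf_aut {Φ : Fm0 D E} {a b : MulAut ↥(GF F G)} {m : ↥(GF F G)} {κ : ℂ} (h : Φ.Nf (aut a) (aut b) m κ) : κ = 1 := by
  obtain ⟨e, e', z, z', t, t', -, -, -, -, h1, h2, -, rfl⟩ := h
  rw [show z t' = 1 from (mul_one _).symm.trans (congrArg (fun c : Om.Tw _ => c.z t') h1).symm,
    show z' t = 1 from (mul_one _).symm.trans (congrArg (fun c : Om.Tw _ => c.z t) h2).symm, inv_one, Units.val_one, one_mul]

/-- the frame in the form of `MO/Fm` -/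
def toFm : MO.Fm.Fm D where
  P := Φ.P
  E := Φ.Q.φ.range
  qs := hD.qs
  st := Φ.pst
  cz := hD.cz
  pi1 := hD.pi
  con := Φ.con
  ne := Φ.ne
  le := by rintro _ ⟨e, rfl⟩; exact Φ.Q.mem e
  hF := ⟨Φ.f, Φ.hf⟩
  cF := by
    rintro _ ⟨e, rfl⟩ y
    have h := congrArg Φ.Q.φ (Φ.cen e)
    rw [map_mul, map_mul, Φ.hf] at h
    exact congrArg (· y) h
  inj := by rintro _ ⟨e, rfl⟩ h; rw [Φ.fai e h, map_one]
  au := by rintro _ ⟨e, rfl⟩; exact Φ.au1 e

/-- the identification of the groups -/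
def rr : E →* (toFm hD Φ).E := Φ.Q.φ.rangeRestrict

theorem rr_inj : Function.Injective (rr hD Φ) := (injective_iff_map_eq_one _).2 fun e h =>
  Φ.fai e ((show Φ.Q.φ e = 1 from congrArg Subtype.val h) ▸ IsPd.one)

theorem rr_surj : Function.Surjective (rr hD Φ) := Φ.Q.φ.rangeRestrict_surjective

theorem rs_rr (e : E) : (toFm hD Φ).rs (rr hD Φ e) = Φ.act e := MulEquiv.ext fun x => Subtype.ext (Φ.hact e x).symm

/-- the permutation of the simple roots -/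
noncomputable def sg : E →* Equiv.Perm D.I := (toFm hD Φ).sg.comp (rr hD Φ)

theorem comm_of (γ : Equiv.Perm D.I) {a b : E} (ha : sg hD Φ a ∈ zpowers γ) (hb : sg hD Φ b ∈ zpowers γ) : a * b = b * a :=
  rr_inj hD Φ ((map_mul _ _ _).trans ((MO.Fm.Fm.comm_comap γ ha hb).eq.trans (map_mul _ _ _).symm))

variable {Φ} {X : Type} [Group X] {π : G0 D →* X} {Γ : Subgroup (MulAut X)} {l : ℕ} (q : RowQ l Φ.toFm0 π Γ)

include q in
theorem dr : Dr (toFm hD Φ) (G0 D) :=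
  ⟨hD.der, q.comm, (rr_surj hD Φ).forall.2 fun e g hg => rs_rr hD Φ e ▸ q.sG e g hg⟩

/-- the pairs -/
def Lf : Subgroup (E × MulAut X) where
  carrier := {a | ∃ t, Ind (G0 D) π (MulAut.conj t * Φ.act a.1) a.2}
  one_mem' := ⟨1, fun g g' e => congrArg π (Subtype.ext (by simpa only [_root_.SetLike.coe_eq_coe, _root_.map_one, _root_.Prod.fst_one, _root_.mul_one, _root_.MulAut.one_apply] using e))⟩
  mul_mem' := fun {a b} ⟨t, h⟩ ⟨s, h'⟩ => ⟨t * Φ.act a.1 s, by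
    have h1 := ind_mul (fun _ => q.Au_mem (mem_Au.2 ⟨s, _, mem_top _, rfl⟩)) h h'
    rwa [conj_mul_conj, ← map_mul] at h1⟩
  inv_mem' := fun {a} ⟨t, h⟩ => ⟨Φ.act a.1⁻¹ t⁻¹, by
    have h1 := ind_inv h
    rwa [mul_inv_rev, ← map_inv, ← map_inv, act_conj] at h1⟩

include q in
theorem cen_of {g : G0 D} (h : π g ∈ center X) : (g : ↥(GF F G)) ∈ center _ := q.fai _ (by
  have h1 := ind_conj (π := π) g
  rwa [show MulAut.conj (π g) = 1 from MulEquiv.ext fun x => mul_inv_eq_iff_eq_mul.2 (mem_center_iff.1 h x).symm] at h1)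

/-- **the case without triality** -/
theorem rowP_of {γ : Equiv.Perm D.I} (h2 : ¬ l ∣ 2) (hγ : γ ^ 2 = 1) (h : ∀ α ∈ Γ, ∃ e, (e, α) ∈ Lf q ∧ sg hD Φ e ∈ zpowers γ) :
    RowP l Φ.toFm0 ((zpowers γ).comap (sg hD Φ)) π Γ where
  toRowQ := q
  ab _ ha _ hb := comm_of hD Φ γ ha hb
  cyE := by
    obtain ⟨φ, h1, h3⟩ := (MO.Fm.Fm.ab_comap (Φ := toFm hD Φ) h2 (hγ ▸ one_mem _)).cy
    obtain ⟨φ, rfl⟩ := rr_surj hD Φ φ
    exact ⟨φ, h1, fun e he => by simpa only [rs_rr] using h3 _ he⟩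
  lift' α hα := let ⟨e, ⟨t, h1⟩, h3⟩ := h α hα; ⟨_, mem_Au.2 ⟨t, e, h3, rfl⟩, h1⟩

variable (hT : MO.X.Tri D)
include q hT

/-- **graph automorphisms are not inner-diagonal** -/
theorem sg_of_ind {t : ↥(GF F G)} {e : E} (h : Ind (G0 D) π (MulAut.conj t * Φ.act e) 1) : sg hD Φ e = 1 := by
  refine sg_eq_one hD.qs Φ.pst hT.2 ((toFm hD Φ).pd (rr hD Φ e)) t⁻¹ fun g hg hF => ?_
  have hσ : ∀ g ∈ G0 D, (MulAut.conj t * Φ.act e) g ∈ G0 D := fun _ => q.Au_mem (mem_Au.2 ⟨t, e, mem_top _, rfl⟩)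
  have h1 := MK.Two.hom_eq_of_cen hD.qsi.1.commutator_eq_top (f := (G0 D).subtype)
    (g := (MulAut.conj t * Φ.act e).toMonoidHom.comp (G0 D).subtype) (fun x =>
      cen_of q (g := x⁻¹ * Subtype.mk _ (hσ _ x.2)) (by
        rw [map_mul, map_inv, h x ⟨_, hσ _ x.2⟩ rfl, MulAut.one_apply, inv_mul_cancel]; exact one_mem _))
    ⟨⟨g, D.S_le_G (fun _ h => h) hg, hF⟩, (hD.der _).2 hg⟩
  have h2 : g = t * Φ.Q.φ e g * (t : Y)⁻¹ := (congrArg Subtype.val h1).trans (congrArg (t * · * (t : Y)⁻¹) (Φ.hact e _))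
  change Φ.Q.φ e g = (t : Y)⁻¹ * g * (t : Y)⁻¹⁻¹
  conv_rhs => rw [h2]
  group

include hD in
theorem comm_of_ind {s t u : ↥(GF F G)} {e e' : E} (h : Ind (G0 D) π (MulAut.conj s * Φ.act e * (MulAut.conj t * Φ.act e') *
    (MulAut.conj s * Φ.act e)⁻¹ * (MulAut.conj t * Φ.act e')⁻¹ * MulAut.conj u) 1) : e * e' = e' * e := by
  obtain ⟨v, hv⟩ := comm_conj s t (Φ.act e) (Φ.act e')
  rw [hv, ← map_inv, ← map_inv, ← map_mul, ← map_mul, ← map_mul, mul_assoc, act_conj, ← mul_assoc, ← map_mul] at h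
  have h1 := sg_of_ind hD q hT h
  rw [map_mul, map_mul, map_inv, map_inv, mul_inv_eq_one, mul_inv_eq_iff_eq_mul, map_mul] at h1
  obtain ⟨a, ha⟩ := hT.1
  have hs : ∀ e, a.permCongrHom (sg hD Φ e) 1 = 1 := fun e => d4_fix _ ((sy_iff (t := .D 4) ha _).2 ((toFm hD Φ).sg_M _))
  by_cases h2 : sg hD Φ e' = 1
  · exact comm_of hD Φ _ (mem_zpowers _) (h2 ▸ one_mem _)
  obtain ⟨i, hi⟩ := d4_comm _ (hs e') _ (hs e) (mt (map_eq_one_iff _ a.permCongrHom.injective).1 h2)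
    (by rw [← map_mul, h1, map_mul])
  exact comm_of hD Φ _ (a.permCongrHom.injective ((map_pow _ _ _).trans hi) ▸ npow_mem_zpowers _ _) (mem_zpowers _)

variable {Λ : Lev Φ.toFm0}

include hD in
theorem exists_nf_aut {a b : MulAut ↥(GF F G)} (ha : a ∈ Λ.S ⊤) (hb : b ∈ Λ.S ⊤) {m : ↥(GF F G)}
    (h : a * b * a⁻¹ * b⁻¹ = MulAut.conj m) : ∃ c ∈ center ↥(GF F G), ∃ m', m = c * m' ∧ Φ.Nf (aut a) (aut b) m' 1 := by
  obtain ⟨s, e, -, rfl⟩ := mem_Au.1 ha.1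
  obtain ⟨t, e', -, rfl⟩ := mem_Au.1 hb.1
  obtain ⟨c, hc, m', κ, h1, h2⟩ := exists_nf (Φ := Φ.toFm0) (comm_of_ind hD q hT (u := m⁻¹) (by
    rw [h, ← map_mul, mul_inv_cancel, map_one]
    exact fun g g' e => congrArg π (Subtype.ext e))) rfl rfl (fun _ _ => rfl) (fun _ _ => rfl) (comm_aut h)
  exact ⟨c, hc, m', h1, nf_aut h2 ▸ h2⟩

include hD in
theorem btG (B : Λ.BN) : BtG l (Λ.S ⊤ : Set (MulAut ↥(GF F G))) := fun χ hχ a ha b hb m h fa fb => by
  have : Finite ↥(GF F G) := D.amb.finite_GF _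
  obtain ⟨c, hc, m', rfl, nf⟩ := exists_nf_aut hD q hT ha hb h
  rw [omT_cen _ _ hc (apply_cen hχ.1.1 hc (hχ.2 c hc)), B.glob _ _ m' _ χ nf hχ.1.1 fa fb]
  exact one_mul _

include hD in
theorem btL (B : Λ.BN) : BtL l Λ.M (Λ.S ⊤ : Set (MulAut ↥(GF F G))) := fun ψ hψ a ha b hb a' b' m ra rb h fa fb => by
  have : Finite ↥(GF F G) := D.amb.finite_GF _
  obtain ⟨c, hc, m', h3, nf⟩ := exists_nf_aut hD q hT ha hb h
  have h4 : c ∈ Λ.M := center_le_normalizer _ hc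
  have h5 : m' ∈ Λ.M := (mul_mem_cancel_left h4).1 (h3 ▸ m.2)
  have h6 : (⟨c, h4⟩ : Λ.M) ∈ center Λ.M := mem_center_iff.2 fun g => Subtype.ext (mem_center_iff.1 hc g)
  rw [show m = ⟨c, h4⟩ * ⟨m', h5⟩ from Subtype.ext h3, omT_cen _ _ h6 (apply_cen hψ.1.1 h6 (hψ.2 _ hc)),
    B.loc _ _ _ _ ⟨m', h5⟩ _ ψ ⟨fun _ _ => rfl, ha⟩ ⟨fun _ _ => rfl, hb⟩ ra rb nf hψ.1.1 fa fb]
  exact one_mul _

omit q hT in
theorem comm_S {s t : ↥(GF F G)} {e e' : E} (h : e * e' = e' * e) (hσ : MulAut.conj s * Φ.act e ∈ Λ.S ⊤)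
    (hσ' : MulAut.conj t * Φ.act e' ∈ Λ.S ⊤) : ∃ m ∈ Λ.M, MulAut.conj s * Φ.act e * (MulAut.conj t * Φ.act e') *
      (MulAut.conj s * Φ.act e)⁻¹ * (MulAut.conj t * Φ.act e')⁻¹ = MulAut.conj m := by
  have h1 := mul_mem (mul_mem (mul_mem hσ hσ') (inv_mem hσ)) (inv_mem hσ')
  rw [comm_Au h] at h1 ⊢
  exact ⟨_, conj_S.1 h1, rfl⟩

end Cfsg.Agent.MO.Tri

namespace Cfsg.Agent.MO.Tri

open Cfsg Subgroup Cfsg.Agent.DL Cfsg.Agent.MO.Ti Cfsg.Agent.MO.Om Cfsg.Agent.MO.X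
open Cfsg.Agent.MO.Fm (ind_mul ind_inv ind_conj d4_fix d4_comm sy_iff)

variable {p : ℕ} [Fact p.Prime] {k : Type} [Field k] [CharP k p] [IsAlgClosed k] {Y : Type} [Group Y] {N : Type}
  [Fintype N] [DecidableEq N] {ρ : Y →* GL N k} {F : MulAut Y} {G : Subgroup Y} {D : Datum p ρ F G} {E : Type} [Group E]
  (hD : Hy D) {Φ : MO.X.Fm D E} {X : Type} [Group X] [Finite X] {π : G0 D →* X} {Γ : Subgroup (MulAut X)}
  (q : RowQ 3 Φ.toFm0 π Γ) (hT : MO.X.Tri D) {Λ : Lev Φ.toFm0}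

include hT in
/-- **the frame with a triality** -/
theorem frT (h : Λ.Sy 3) (hq : Λ.Syl 3) (s : Sit 3 X Γ) {e : E} {α : MulAut X} (h1 : (e, α) ∈ Lf q) (hα : α ∈ Γ)
    (h2 : sg hD Φ e ≠ 1) (h3 : sg hD Φ e ^ 3 = 1) {j : ℕ} (h4 : α ^ 3 ^ j = 1) :
    FrT 3 (G0 D) Λ.M (Λ.S ⊤) (Λ.S ⊤) π Γ := by
  have : Finite ↥(GF F G) := D.amb.finite_GF _
  have : Fact (Nat.Prime 3) := ⟨Nat.prime_three⟩
  have d := dr hD q
  obtain ⟨t, ht⟩ := h1
  have hZ : center X = ⊥ := eq_bot_iff.2 fun x hx => by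
    obtain ⟨g, rfl⟩ := q.surj x
    have hσ : ∀ g ∈ G0 D, (MulAut.conj t * Φ.act e) g ∈ G0 D := fun _ => q.Au_mem (mem_Au.2 ⟨t, e, mem_top _, rfl⟩)
    have h5 := d.cen_tri hT.1 h2 h3 t g.2 (cen_of q hx)
    rw [rs_rr] at h5
    have h6 := congrArg π (show g * ⟨_, hσ _ g.2⟩ * ⟨_, hσ _ (hσ _ g.2)⟩ = 1 from Subtype.ext h5)
    rw [map_mul, map_mul, ht ⟨_, hσ _ g.2⟩ ⟨_, hσ _ (hσ _ g.2)⟩ rfl, ht g ⟨_, hσ _ g.2⟩ rfl, s.fix α hα _ hx,
      s.fix α hα _ hx, map_one, ← pow_three'] at h6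
    exact (pow_eq_one_iff_of_coprime (Nat.prime_three.coprime_iff_not_dvd.2 s.cop)).1
      ⟨h6, congrArg Subtype.val (pow_card_eq_one' (x := (⟨_, hx⟩ : center X)))⟩
  refine ⟨q.comm, h.sup', center_le_normalizer _, h.ne, q.surj, q.fai, fun _ hσ _ => q.Au_mem hσ.1, fun _ hσ _ => S_M hσ,
    fun _ => conj_S.2, fun σ hσ => ⟨1, one_mem _, σ, hσ, by rw [map_one, one_mul]⟩,
    fun α hα => let ⟨_, h1, h2⟩ := q.lift α hα; q.lift_S h h1 h2, hq, hZ, fun h5 => ?_, (d.index_le hT.1).trans_lt ?_, ?_,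
    ⟨Φ.Au ((zpowers (sg hD Φ e)).comap (sg hD Φ)), conj_Au, fun σ hσ σ' hσ' n n' => ?_, fun σ hσ σ' hσ' m m' => ?_⟩,
    fun σ hσ σ' hσ' u hu => ?_⟩
  · have : (G0 D ⊔ center _).Normal :=
      ⟨fun g hg x => (mul_mem_cancel_right (inv_mem hg)).1 (mem_sup_left (q.comm x g))⟩
    obtain ⟨x, hx⟩ := exists_prime_orderOf_dvd_card' (G := _ ⧸ (G0 D ⊔ center _)) 3 h5
    obtain ⟨y, rfl⟩ := QuotientGroup.mk_surjective x
    exact absurd (hx ▸ orderOf_dvd_of_pow_eq_one ((QuotientGroup.eq_one_iff _).2 (d.sq_mem hT.1 y))) (by decide)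
  · obtain ⟨n, hn⟩ := s.dvd
    have h5 := Nat.card_pos (α := X)
    by_contra! h6
    have h7 : Nat.card X = 3 ^ 1 := by omega
    have := Finite.one_lt_card_iff_nontrivial.1 (show 1 < Nat.card X by omega)
    exact (IsPGroup.of_card h7).bot_lt_center.ne' hZ
  · obtain ⟨g, -, h5⟩ := h.cls e
    obtain ⟨g', hg', m, hm, h6⟩ := h.sup' (t * g⁻¹)
    have h7 := mul_mem (conj_S.2 hm) h5
    rw [← mul_assoc, ← map_mul] at h7
    have h8 := ind_mul (fun _ => q.Au_mem (mem_Au.2 ⟨t, e, mem_top _, rfl⟩)) (ind_conj (π := π) (⟨g', hg'⟩ : G0 D)⁻¹) ht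
    rw [← mul_assoc, ← map_mul, mul_inv_eq_iff_eq_mul.1 h6, Subgroup.coe_inv, mul_assoc g', inv_mul_cancel_left] at h8
    refine ⟨_, h7, _, mul_mem (s.inn _) hα, h8, ⟨j, (pow_conj _ α _).imp fun y hy => by rw [hy, h4, mul_one]⟩, fun x hx => ?_⟩
    exact d.fpf hT.1 h2 h3 (m * g) x (by rwa [rs_rr])
  · obtain ⟨x, a, -, rfl⟩ := mem_Au.1 hσ.1
    obtain ⟨y, b, -, rfl⟩ := mem_Au.1 hσ'.1
    obtain ⟨c, hc⟩ := hT.1
    have hs : ∀ e, c.permCongrHom (sg hD Φ e) 1 = 1 :=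
      fun e => d4_fix _ ((sy_iff (t := .D 4) hc _).2 ((toFm hD Φ).sg_M _))
    have key : ∀ {i : ℕ} {a : E}, c.permCongrHom (sg hD Φ e) ^ i = c.permCongrHom (sg hD Φ a) → ∀ x,
        MulAut.conj x * Φ.act a ∈ Φ.Au ((zpowers (sg hD Φ e)).comap (sg hD Φ)) := fun h x => mem_Au.2
      ⟨x, _, mem_comap.2 (c.permCongrHom.injective ((map_pow _ _ _).trans h) ▸ npow_mem_zpowers _ _), rfl⟩
    obtain ⟨i, hi | hi | hi⟩ := d4_idx _ (hs e) (mt (map_eq_one_iff _ c.permCongrHom.injective).1 h2)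
      (by rw [← map_pow, h3, map_one]) _ (hs a) _ (hs b)
    exacts [absurd (key hi x) n, absurd (key hi y) n', by
      rw [conj_mul_conj, ← map_mul]
      exact key (hi.trans (by rw [map_mul, map_mul])) _]
  · obtain ⟨x, a, ha, rfl⟩ := mem_Au.1 m
    obtain ⟨y, b, hb, rfl⟩ := mem_Au.1 m'
    exact comm_S (comm_of hD Φ _ ha hb) hσ hσ'
  · obtain ⟨x, a, -, rfl⟩ := mem_Au.1 hσ.1
    obtain ⟨y, b, -, rfl⟩ := mem_Au.1 hσ'.1
    exact comm_S (comm_of_ind hD q hT hu) hσ hσ'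

/-- **the row of triality** -/
theorem rowTri_of (om : BoxOm 3) : RowTri := by
  intro p _ k _ _ _ Y _ N _ _ ρ F G D _ hD E _ Φ hp hT R S X _ _ π Γ q s _
  have : Fact (Nat.Prime 3) := ⟨Nat.prime_three⟩
  obtain ⟨Λ, h, hq⟩ := S 3 Nat.prime_three (by decide) hp.symm (dvd_index_center q.surj s)
  obtain ⟨a, ha⟩ := hT.1
  replace hq : Λ.Syl 3 := hq.resolve_right fun ⟨_, h1⟩ => h1.elim
    (fun ⟨b, _⟩ => absurd (Fintype.card_congr (a.symm.trans b)) (by decide))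
    fun ⟨h2, _, m, h3⟩ => (toFm hD Φ).σ_ne (m := m) (by subst h2; exact (pow_two _).trans h3) hT.2
  have C := (R Λ).2 3 Nat.prime_three (by decide) hp.symm h
  by_cases h1 : ∃ e α, (e, α) ∈ Lf q ∧ α ∈ Γ ∧ sg hD Φ e ≠ 1 ∧ sg hD Φ e ^ 3 = 1
  · obtain ⟨e, α, h1, hα, h2, h3⟩ := h1
    obtain ⟨j, m, hm, h4⟩ := Nat.exists_eq_pow_mul_and_not_dvd (orderOf_pos α).ne' 3 (by decide)
    exact boxTri 3 _ _ _ _ _ X π Γ (frT hD q hT h hq s (e := e ^ m) (α := α ^ m) (pow_mem h1 m) (pow_mem hα m)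
      (fun h5 => h2 ((pow_eq_one_iff_of_coprime (Nat.prime_three.coprime_iff_not_dvd.2 hm)).1 ⟨h3, (map_pow (sg hD Φ) e m).symm.trans h5⟩))
      (by rw [map_pow, ← pow_mul, mul_comm, pow_mul, h3, one_pow]) (j := j)
      (by rw [← pow_mul, mul_comm, ← h4, pow_orderOf_eq_one])) (cn_of (one_mem (Λ.S ⊤)) C) (btG hD q hT (R Λ).1)
      (btL hD q hT (R Λ).1) s
  have hs : ∀ e, a.permCongrHom (sg hD Φ e) 1 = 1 := fun e => d4_fix _ ((sy_iff (t := .D 4) ha _).2 ((toFm hD Φ).sg_M _))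
  have h2 : ∀ α ∈ Γ, ∃ e, (e, α) ∈ Lf q := fun α hα => by
    obtain ⟨_, h2, h3⟩ := q.lift α hα
    obtain ⟨t, e, -, rfl⟩ := mem_Au.1 h2
    exact ⟨e, t, h3⟩
  have h3 : ∀ {e α}, (e, α) ∈ Lf q → α ∈ Γ → a.permCongrHom (sg hD Φ e) ≠ 1 → a.permCongrHom (sg hD Φ e) ^ 3 ≠ 1 :=
    fun h3 h4 h5 h6 => h1 ⟨_, _, h3, h4, fun e => h5 (by rw [e, map_one]),
      a.permCongrHom.injective (by rw [map_pow, h6, map_one])⟩
  suffices h4 : ∃ γ : Equiv.Perm D.I, γ ^ 2 = 1 ∧ ∀ e α, (e, α) ∈ Lf q → α ∈ Γ → sg hD Φ e ∈ zpowers γ by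
    obtain ⟨γ, h4, h5⟩ := h4
    exact one_of_syl om (rowP_of hD q (by decide) h4 fun α hα => (h2 α hα).imp fun e he => ⟨he, h5 e α he hα⟩) h hq
      (R Λ).1 C s
  by_cases h4 : ∃ e α, (e, α) ∈ Lf q ∧ α ∈ Γ ∧ a.permCongrHom (sg hD Φ e) ≠ 1
  · obtain ⟨e, α, h4, h5, h6⟩ := h4
    obtain ⟨h7, h8⟩ := d4_two _ (hs e) h6 (h3 h4 h5 h6)
    refine ⟨sg hD Φ e, a.permCongrHom.injective (by rw [map_pow, h7, map_one]), fun e' β h9 hβ => ?_⟩
    rcases h8 _ (hs e') with h10 | h10 | h10 | h10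
    · rw [(map_eq_one_iff _ a.permCongrHom.injective).1 h10]; exact one_mem _
    · rw [a.permCongrHom.injective h10]; exact mem_zpowers _
    · exact absurd h10.2 (h3 h9 hβ h10.1)
    · rw [← map_mul, ← map_mul] at h10
      exact absurd h10.2 (h3 ((mul_mem h9 h4 :)) (mul_mem hβ h5) h10.1)
  · exact ⟨1, one_pow 2, fun e α h5 h6 => by
      rw [(map_eq_one_iff _ a.permCongrHom.injective).1 (not_not.1 fun h7 => h4 ⟨e, α, h5, h6, h7⟩)]; exact one_mem _⟩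

end Cfsg.Agent.MO.Tri
end

-- part: MO/Tri/Fin
section
/-!
# MO/Tri: **`rowTri : X.RowTri`** (helper92)
-/

set_option autoImplicit false

namespace Cfsg.Agent.MO.Tri

/-- **the row of triality** -/
theorem rowTri : MO.X.RowTri :=
  haveI : Fact (Nat.Prime 3) := ⟨Nat.prime_three⟩
  rowTri_of Om.boxOm

end Cfsg.Agent.MO.Tri
end

private theorem dce_3754537eb049 : _root_.True := by
  try have : _root_.True := by simp only [_root_.Cfsg.Agent.MO.Rc.rd.eq_1]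
  try have : _root_.True := by simp only [_root_.Cfsg.Agent.MO.Jl.Rs.mF.eq_1]
  try have : _root_.True := by simp only [_root_.Cfsg.Agent.MO.Tri.pe.eq_1]
  try have : _root_.True := by simp only [_root_.Cfsg.Agent.MO.Crd.Sub.θ.eq_1]
  exact _root_.True.intro
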